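import Mathlib
import Cfsg.Agent.FusRankThree.Defs
import Cfsg.Agent.FusionSys.Essential
import Cfsg.Agent.PGroup.Basic

/-!
# Subgroups of `GL(3,p)` with a strongly embedded Sylow subgroup, `p` odd (S5181)
-/

set_option autoImplicit false

open Cfsg

namespace Cfsg.Agent.EssMax

namespace LinOdd

universe u

variable {p : ℕ} [Fact p.Prime] {V : Type u} [CommGroup V]

/-- The displacement homomorphism `v ↦ v⁻¹ * t v`. -/
def dl (t : MulAut V) : V →* V where
  toFun v := v⁻¹ * t v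
  map_one' := by simp
  map_mul' v w := by rw [map_mul, mul_inv]; ac_rfl

@[simp] theorem dl_apply (t : MulAut V) (v : V) : dl t v = v⁻¹ * t v := rfl

theorem apply_eq (t : MulAut V) (v : V) : t v = v * dl t v := by simp

theorem mem_ker {t : MulAut V} {v : V} : v ∈ (dl t).ker ↔ t v = v := by
  rw [MonoidHom.mem_ker, dl_apply, inv_mul_eq_one, eq_comm]

theorem dl_ker_ne_top {t : MulAut V} (ht : t ≠ 1) : (dl t).ker ≠ ⊤ := by
  intro h
  exact ht (MulEquiv.ext fun v => mem_ker.1 (h ▸ Subgroup.mem_top v))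

theorem inv_fixed {t : MulAut V} {v : V} (h : t v = v) : t⁻¹ v = v := t.symm_apply_eq.2 h.symm

/-- Powers of `u` on a vector shifted by a fixed vector. -/
theorem pow_shift {u : MulAut V} {v d : V} (hd : u d = d) (hv : u v = v * d) :
    ∀ n : ℕ, (u ^ n) v = v * d ^ n := by
  intro n
  induction n with
  | zero => simp
  | succ n ih =>
    rw [pow_succ', MulAut.mul_apply, ih, map_mul, map_pow, hd, hv, mul_assoc, ← pow_succ']

theorem pow_fixed {u : MulAut V} {v : V} (hv : u v = v) : ∀ n : ℕ, (u ^ n) v = v := fun n => by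
  have := pow_shift (u := u) (v := v) (d := 1) (by simp) (by simp [hv]) n
  simpa using this

/-- Powers of `u` on the top vector of a chain of length three. -/
theorem pow_shift₂ {u : MulAut V} {v d f : V} (hf : u f = f) (hd : u d = d * f)
    (hv : u v = v * d) : ∀ n : ℕ, (u ^ n) v = v * d ^ n * f ^ n.choose 2 := by
  intro n
  induction n with
  | zero => simp
  | succ n ih =>
    have hc : (n + 1).choose 2 = n + n.choose 2 := by
      rw [Nat.choose_succ_succ', Nat.choose_one_right]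
    rw [pow_succ', MulAut.mul_apply, ih, map_mul, map_mul, map_pow, map_pow, hd, hf, hv, hc,
      pow_succ' d, pow_add, mul_pow]
    ac_rfl

/-- An automorphism stabilising a series of length three has order dividing `p`. -/
theorem pow_prime_eq_one (hp : 3 ≤ p) (hexp : ∀ v : V, v ^ p = 1) {u : MulAut V}
    {C W : Subgroup V} (h1 : ∀ c ∈ C, u c = c) (h2 : ∀ w ∈ W, dl u w ∈ C)
    (h3 : ∀ v, dl u v ∈ W) : u ^ p = 1 := by
  refine MulEquiv.ext fun v => ?_
  have hf := h1 _ (h2 _ (h3 v))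
  rw [pow_shift₂ hf (apply_eq u (dl u v)) (apply_eq u v) p, hexp]
  obtain ⟨m, hm⟩ := (Fact.out : p.Prime).dvd_choose_self (k := 2) (by omega) (by omega)
  rw [hm, pow_mul, hexp]
  simp

/-- The stabiliser of a series of length three. -/
def StabSet (C W : Subgroup V) : Set (MulAut V) :=
  {u | (∀ c ∈ C, u c = c) ∧ (∀ w ∈ W, dl u w ∈ C) ∧ ∀ v, dl u v ∈ W}

theorem stabSet_mul {C W : Subgroup V} (hCW : C ≤ W) {s t : MulAut V} (hs : s ∈ StabSet C W)
    (ht : t ∈ StabSet C W) : s * t ∈ StabSet C W := by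
  have key : ∀ v, dl (s * t) v = dl s v * s (dl t v) := fun v => by
    simp [mul_assoc]
  refine ⟨fun c hc => ?_, fun w hw => ?_, fun v => ?_⟩
  · rw [MulAut.mul_apply, ht.1 c hc, hs.1 c hc]
  · rw [key, hs.1 _ (ht.2.1 w hw)]
    exact C.mul_mem (hs.2.1 w hw) (ht.2.1 w hw)
  · rw [key, apply_eq s]
    exact W.mul_mem (hs.2.2 v) (W.mul_mem (ht.2.2 v) (hCW (hs.2.1 _ (ht.2.2 v))))

theorem isPGroup_closure_stab [Finite V] (hp : 3 ≤ p) (hexp : ∀ v : V, v ^ p = 1)
    {C W : Subgroup V} (hCW : C ≤ W) {S : Set (MulAut V)} (hS : S ⊆ StabSet C W) :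
    IsPGroup p (Subgroup.closure S) := by
  rintro ⟨x, hx⟩
  refine ⟨1, Subtype.ext ?_⟩
  have hx' : x ∈ Submonoid.closure S := by
    rw [← Subgroup.closure_toSubmonoid_of_finite]
    exact hx
  have hm : x ∈ StabSet C W := by
    clear hx
    induction hx' using Submonoid.closure_induction with
    | mem a ha => exact hS ha
    | one => exact ⟨fun c _ => rfl, fun w _ => by simp, fun v => by simp⟩
    | mul a b _ _ ha hb => exact stabSet_mul hCW ha hb
  show x ^ p ^ 1 = 1
  rw [pow_one]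
  exact pow_prime_eq_one hp hexp hm.1 hm.2.1 hm.2.2

/-- A `p`-group acting on `V` fixes a vector outside an invariant proper subgroup modulo it. -/
theorem exists_fixed_mod [Finite V] (hV : IsPGroup p V) {G : Subgroup (MulAut V)}
    {U : Subgroup G} (hU : IsPGroup p U) {A : Subgroup V}
    (hA : ∀ u ∈ U, ∀ a ∈ A, (u : MulAut V) a ∈ A) (hA' : A ≠ ⊤) :
    ∃ v, v ∉ A ∧ ∀ u ∈ U, dl (u : MulAut V) v ∈ A := by
  have hsm : ∀ u : U, A ≤ A.comap (((u : G) : MulAut V).toMonoidHom) := fun u a ha => hA u u.2 a ha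
  let act : MulAction U (V ⧸ A) :=
    { smul := fun u q => QuotientGroup.map A A _ (hsm u) q
      one_smul := fun q => by
        obtain ⟨v, rfl⟩ := QuotientGroup.mk_surjective q
        rfl
      mul_smul := fun u w q => by
        obtain ⟨v, rfl⟩ := QuotientGroup.mk_surjective q
        rfl }
  have h0 : (1 : V ⧸ A) ∈ MulAction.fixedPoints U (V ⧸ A) := fun u => map_one _
  have hd : p ∣ Nat.card (V ⧸ A) := by
    rcases (hV.to_quotient A).card_eq_or_dvd with h | h
    · exact absurd (Subgroup.index_eq_one.1 h) hA'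
    · exact h
  obtain ⟨q, hq, hq1⟩ := hU.exists_fixed_point_of_prime_dvd_card_of_fixed_point (V ⧸ A) hd h0
  obtain ⟨v, rfl⟩ := QuotientGroup.mk_surjective q
  refine ⟨v, fun hv => hq1 ((QuotientGroup.eq_one_iff v).2 hv).symm, fun u hu => ?_⟩
  have h := hq ⟨u, hu⟩
  rw [dl_apply]
  exact QuotientGroup.eq.1 (Eq.symm h)

/-- Cardinality step for subgroups of an exponent-`p` group. -/
theorem card_mul_le [Finite V] (hV : IsPGroup p V) {A B : Subgroup V} (h : A < B) :
    Nat.card A * p ≤ Nat.card B := by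
  obtain ⟨a, ha⟩ := (hV.to_subgroup A).exists_card_eq
  obtain ⟨b, hb⟩ := (hV.to_subgroup B).exists_card_eq
  have hlt : Nat.card A < Nat.card B := by
    refine lt_of_not_ge fun hge => h.ne (Subgroup.eq_of_le_of_card_ge h.le hge)
  rw [ha, hb] at hlt ⊢
  rw [← pow_succ]
  exact Nat.pow_le_pow_right (Fact.out : p.Prime).pos
    ((Nat.pow_lt_pow_iff_right (Fact.out : p.Prime).one_lt).1 hlt)

theorem orderOf_eq {G : Type*} [Group G] {g : G} (h : g ^ p = 1) (h1 : g ≠ 1) : orderOf g = p :=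
  orderOf_eq_prime h h1

theorem exists_pow_eq {G : Type*} [Group G] [Finite G] {Z : Subgroup G} (hZ : Nat.card Z = p)
    {a b : G} (ha : a ∈ Z) (ha1 : a ≠ 1) (hb : b ∈ Z) : ∃ n : ℕ, a ^ n = b := by
  have : (⟨b, hb⟩ : Z) ∈ Submonoid.powers (⟨a, ha⟩ : Z) := by
    rw [mem_powers_iff_mem_zpowers]
    rw [zpowers_eq_top_of_prime_card hZ (fun h => ha1 (congrArg Subtype.val h))]
    trivial
  obtain ⟨n, hn⟩ := this
  exact ⟨n, congrArg Subtype.val hn⟩

section Embedded

set_option linter.unusedSectionVars false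
variable [Finite V] {G : Subgroup (MulAut V)}

/-- The hypotheses: `Y` is strongly embedded over the Sylow subgroup `R`. -/
structure Setup (p : ℕ) [Fact p.Prime] (R : Sylow p G) (Y : Subgroup G) : Prop where
  three : 3 ≤ p
  exp : ∀ v : V, v ^ p = 1
  card : Nat.card V = p ^ 3
  ne : (R : Subgroup G) ≠ ⊥
  proper : Y ≠ ⊤
  norm : ∀ Q ≤ (R : Subgroup G), Q ≠ ⊥ → Subgroup.normalizer (Q : Set G) ≤ Y

variable {R : Sylow p G} {Y : Subgroup G}

theorem Setup.pgroup (h : Setup p R Y) : IsPGroup p V := IsPGroup.of_card h.card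

theorem Setup.le (h : Setup p R Y) : (R : Subgroup G) ≤ Y :=
  Subgroup.le_normalizer.trans (h.norm R le_rfl h.ne)

/-- Conjugating a nontrivial `p`-element inside `Y` forces membership in `Y`. -/
theorem Setup.mem_of_conj (h : Setup p R Y) {a g : G} (ha : IsPGroup p (Subgroup.zpowers a))
    (ha1 : a ≠ 1) (haY : a ∈ Y) (hgY : g * a * g⁻¹ ∈ Y) : g ∈ Y := by
  have move : ∀ b ∈ Y, IsPGroup p (Subgroup.zpowers b) →
      ∃ y ∈ Y, y * b * y⁻¹ ∈ (R : Subgroup G) := by
    intro b hbY hb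
    have hb' : IsPGroup p ((Subgroup.zpowers b).subgroupOf Y) :=
      hb.of_equiv (Subgroup.subgroupOfEquivOfLe (Subgroup.zpowers_le.2 hbY)).symm
    obtain ⟨T, hT⟩ := hb'.exists_le_sylow
    obtain ⟨y, hy⟩ := MulAction.exists_smul_eq Y T (R.subtype h.le)
    refine ⟨y, y.2, ?_⟩
    have h1 : MulAut.conj y (⟨b, hbY⟩ : Y) ∈ (y • T : Sylow p Y) :=
      Subgroup.smul_mem_pointwise_smul _ (MulAut.conj y) (T : Subgroup Y)
        (hT (Subgroup.mem_zpowers b))
    rw [hy] at h1
    exact h1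
  have hga : IsPGroup p (Subgroup.zpowers (g * a * g⁻¹)) := by
    have h1 := ha.map (MulAut.conj g).toMonoidHom
    rwa [MonoidHom.map_zpowers] at h1
  obtain ⟨y1, hy1, h1⟩ := move a haY ha
  obtain ⟨y2, hy2, h2⟩ := move _ hgY hga
  have hx : y2 * g * y1⁻¹ ∈ Y := by
    refine FusionSys.spe_mem_of_conj R h.norm (U := Subgroup.zpowers (y1 * a * y1⁻¹))
      (Subgroup.zpowers_le.2 h1) ?_ ?_
    · rw [Ne, Subgroup.zpowers_eq_bot]
      simpa using ha1
    · rintro _ ⟨k, rfl⟩
      show y2 * g * y1⁻¹ * (y1 * a * y1⁻¹) ^ k * (y2 * g * y1⁻¹)⁻¹ ∈ _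
      rw [← conj_zpow (a := y2 * g * y1⁻¹) (b := y1 * a * y1⁻¹)]
      refine zpow_mem ?_ k
      have he : y2 * g * y1⁻¹ * (y1 * a * y1⁻¹) * (y2 * g * y1⁻¹)⁻¹ =
          y2 * (g * a * g⁻¹) * y2⁻¹ := by group
      rw [he]
      exact h2
  have := Y.mul_mem (Y.mul_mem (Y.inv_mem hy2) hx) hy1
  simpa [mul_assoc] using this

/-- A `p`-subgroup meeting `Y` nontrivially lies in `Y`. -/
theorem Setup.pgroup_le (h : Setup p R Y) {P : Subgroup G} (hP : IsPGroup p P) {a : G}
    (haP : a ∈ P) (ha1 : a ≠ 1) (haY : a ∈ Y) : P ≤ Y := by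
  have : Nontrivial P := ⟨⟨⟨a, haP⟩, 1, fun e => ha1 (congrArg Subtype.val e)⟩⟩
  obtain ⟨z, hz, hz1⟩ := Subgroup.bot_or_exists_ne_one (Subgroup.center P) |>.resolve_left
    hP.bot_lt_center.ne'
  have hsub : ∀ b ∈ P, IsPGroup p (Subgroup.zpowers b) := fun b hb =>
    hP.to_le (Subgroup.zpowers_le.2 hb)
  have hzY : (z : G) ∈ Y := by
    refine h.mem_of_conj (hsub a haP) ha1 haY ?_
    have hc := congrArg Subtype.val (Subgroup.mem_center_iff.1 hz ⟨a, haP⟩)
    simp only [Subgroup.coe_mul] at hc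
    rw [← hc, mul_inv_cancel_right]
    exact haY
  intro q hq
  refine h.mem_of_conj (hsub z z.2) (fun e => hz1 (Subtype.ext e)) hzY ?_
  have hc := congrArg Subtype.val (Subgroup.mem_center_iff.1 hz ⟨q, hq⟩)
  simp only [Subgroup.coe_mul] at hc
  rw [hc, mul_inv_cancel_right]
  exact hzY

/-- Two elements stabilising a common series are in `Y` together. -/
theorem Setup.stab_mem (h : Setup p R Y) {x y : G} {C W : Subgroup V} (hCW : C ≤ W)
    (hx : (x : MulAut V) ∈ StabSet C W) (hy : (y : MulAut V) ∈ StabSet C W) :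
    IsPGroup p (Subgroup.closure {x, y}) := by
  have h1 : (Subgroup.closure {x, y}).map G.subtype ≤
      Subgroup.closure {(x : MulAut V), (y : MulAut V)} := by
    rw [MonoidHom.map_closure, Set.image_pair]
    rfl
  refine ((isPGroup_closure_stab h.three h.exp hCW
    (Set.pair_subset hx hy)).to_le h1).of_injective
    (G.subtype.subgroupMap _) ?_
  exact fun a b e => Subtype.ext (Subtype.ext (congrArg Subtype.val e :))

/-- A transvection `t`: centre of order `p`, fixed pointwise. -/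
theorem transvection_stab {t t' : MulAut V} (ht : (dl t).range ≤ (dl t).ker)
    (ht' : (dl t').range ≤ (dl t').ker) (hh : (dl t').range ≤ (dl t).ker) :
    (dl t').range ≤ (dl t').range ⊔ (dl t).range ∧
      t ∈ StabSet (dl t').range ((dl t').range ⊔ (dl t).range) ∧
      t' ∈ StabSet (dl t').range ((dl t').range ⊔ (dl t).range) := by
  refine ⟨le_sup_left, ⟨fun c hc => mem_ker.1 (hh hc), fun w hw => ?_, fun v => ?_⟩,
    ⟨fun c hc => mem_ker.1 (ht' hc), fun w _ => ⟨w, rfl⟩, fun v => Subgroup.mem_sup_left ⟨v, rfl⟩⟩⟩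
  · rw [MonoidHom.mem_ker.1 (sup_le hh ht hw)]
    exact one_mem _
  · exact Subgroup.mem_sup_right ⟨v, rfl⟩

/-- The displacement of a conjugate. -/
theorem dl_conj (g t : MulAut V) (v : V) : dl (g * t * g⁻¹) (g v) = g (dl t v) := by
  simp

theorem range_conj (g t : MulAut V) :
    (dl (g * t * g⁻¹)).range = (dl t).range.map g.toMonoidHom := by
  ext w
  constructor
  · rintro ⟨v, rfl⟩
    refine ⟨dl t (g⁻¹ v), ⟨_, rfl⟩, ?_⟩
    show g (dl t (g⁻¹ v)) = dl (g * t * g⁻¹) v
    rw [← dl_conj]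
    simp
  · rintro ⟨u, ⟨v, rfl⟩, rfl⟩
    exact ⟨g v, dl_conj g t v⟩

theorem ker_conj (g t : MulAut V) :
    (dl (g * t * g⁻¹)).ker = (dl t).ker.map g.toMonoidHom := by
  ext w
  rw [Subgroup.mem_map, mem_ker]
  constructor
  · intro hw
    refine ⟨g⁻¹ w, mem_ker.2 ?_, by simp⟩
    apply g.injective
    simpa using hw
  · rintro ⟨u, hu, rfl⟩
    simp [mem_ker.1 hu]

theorem card_ker_range (t : MulAut V) (h : Setup p R Y) :
    Nat.card (dl t).ker * Nat.card (dl t).range = p ^ 3 := by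
  rw [← Subgroup.index_ker, Subgroup.card_mul_index, h.card]

theorem card_map_aut (A : Subgroup V) (g : MulAut V) :
    Nat.card (A.map g.toMonoidHom) = Nat.card A :=
  Nat.card_congr (A.equivMapOfInjective g.toMonoidHom g.injective).toEquiv.symm

theorem card_eq_p (h : Setup p R Y) {v : V} (hv : v ≠ 1) :
    Nat.card (Subgroup.zpowers v) = p := by
  rw [Nat.card_zpowers, orderOf_eq (h.exp v) hv]

set_option maxHeartbeats 1000000 in
/-- The Sylow subgroup has order `p`. -/
theorem Setup.sylow_card (h : Setup p R Y) : Nat.card R = p := by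
  have hp := (Fact.out : p.Prime)
  by_contra hne
  obtain ⟨k, hk⟩ := R.2.exists_card_eq
  have hbig : p < Nat.card R := by
    rcases Nat.lt_or_ge k 2 with hk2 | hk2
    · interval_cases k
      · exact absurd (Subgroup.eq_bot_of_card_eq _ (by simpa using hk)) h.ne
      · exact absurd (by simpa using hk) hne
    · rw [hk]
      exact lt_self_pow₀ hp.one_lt (by omega)
  have hVne : (⊥ : Subgroup V) ≠ ⊤ := fun e => by
    have h0 := congrArg (fun H : Subgroup V => Nat.card H) e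
    simp only [Subgroup.card_bot, Subgroup.card_top, h.card] at h0
    exact (Nat.one_lt_pow (by norm_num) hp.one_lt).ne h0
  -- a fixed vector and a second one
  obtain ⟨c1, hc1, hc1R⟩ := exists_fixed_mod h.pgroup R.2 (A := ⊥)
    (fun u _ a ha => by simp [Subgroup.mem_bot.1 ha]) hVne
  have hfix1 : ∀ u ∈ (R : Subgroup G), (u : MulAut V) c1 = c1 := fun u hu =>
    mem_ker.1 (Subgroup.mem_bot.1 (hc1R u hu))
  set A1 := Subgroup.zpowers c1 with hA1
  have hA1p : Nat.card A1 = p := card_eq_p h (fun e => hc1 (by simp [e]))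
  have hA1fix : ∀ u ∈ (R : Subgroup G), A1 ≤ (dl (u : MulAut V)).ker := fun u hu =>
    Subgroup.zpowers_le.2 (mem_ker.2 (hfix1 u hu))
  have hA1top : A1 ≠ ⊤ := fun e => by
    rw [e, Subgroup.card_top, h.card] at hA1p
    exact (lt_self_pow₀ hp.one_lt (by norm_num)).ne' hA1p
  obtain ⟨a2, ha2, ha2R⟩ := exists_fixed_mod h.pgroup R.2 (A := A1)
    (fun u hu a ha => by rw [mem_ker.1 (hA1fix u hu ha)]; exact ha) hA1top
  let φ : R →* V :=
    { toFun := fun u => dl ((u : G) : MulAut V) a2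
      map_one' := by simp
      map_mul' := fun u w => by
        have e : ((u : G) : MulAut V) (dl ((w : G) : MulAut V) a2) =
            dl ((w : G) : MulAut V) a2 := mem_ker.1 (hA1fix u u.2 (ha2R w w.2))
        show a2⁻¹ * ((u : G) : MulAut V) (((w : G) : MulAut V) a2) = _
        rw [apply_eq ((w : G) : MulAut V) a2, map_mul, e, dl_apply, dl_apply]
        ac_rfl }
  have hφ : φ.ker ≠ ⊥ := by
    intro e
    have h1 : Nat.card φ.range ≤ p := hA1p ▸ Subgroup.card_le_of_le (by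
      rintro _ ⟨u, rfl⟩
      exact ha2R u u.2)
    have h2 := Subgroup.card_mul_index φ.ker
    rw [Subgroup.index_ker, e, Subgroup.card_bot, one_mul] at h2
    omega
  obtain ⟨τ0, hτ0, hτ01⟩ := (Subgroup.bot_or_exists_ne_one _).resolve_left
    (PGroup.inf_center_ne_bot R.2 φ.ker hφ)
  set τ : G := (τ0 : G) with hτdef
  have hτR : τ ∈ (R : Subgroup G) := τ0.2
  have hτ1 : (τ : MulAut V) ≠ 1 := fun e => hτ01 (Subtype.ext (Subtype.ext e))
  have hK2 : p ^ 2 ≤ Nat.card (dl (τ : MulAut V)).ker := by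
    have hlt : A1 < (dl (τ : MulAut V)).ker := lt_of_le_of_ne (hA1fix τ hτR) (fun e => ha2 (by
      rw [e]
      exact MonoidHom.mem_ker.2 hτ0.1))
    calc p ^ 2 = Nat.card A1 * p := by rw [hA1p, sq]
      _ ≤ _ := card_mul_le h.pgroup hlt
  have hrp : Nat.card (dl (τ : MulAut V)).range = p := by
    have h1 := card_ker_range (τ : MulAut V) h
    have h2 : Nat.card (dl (τ : MulAut V)).range ≤ p := by
      refine Nat.le_of_mul_le_mul_left ?_ (pow_pos hp.pos 2)
      calc p ^ 2 * Nat.card (dl (τ : MulAut V)).range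
          ≤ Nat.card (dl (τ : MulAut V)).ker * Nat.card (dl (τ : MulAut V)).range :=
            Nat.mul_le_mul_right _ hK2
        _ = p ^ 2 * p := by rw [h1]; ring
    rcases (h.pgroup.to_subgroup (dl (τ : MulAut V)).range).card_eq_or_dvd with e | e
    · exfalso
      rw [e, mul_one] at h1
      exact dl_ker_ne_top hτ1 ((Subgroup.card_eq_iff_eq_top _).1 (h1.trans h.card.symm))
    · exact le_antisymm h2 (Nat.le_of_dvd Nat.card_pos e)
  -- the centre of `τ` is fixed by `R`
  have hcR : ∀ u ∈ (R : Subgroup G), (dl (τ : MulAut V)).range ≤ (dl (u : MulAut V)).ker := by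
    intro u hu
    have hcom : (u : MulAut V) * (τ : MulAut V) = τ * u := by
      have := Subgroup.mem_center_iff.1 hτ0.2 ⟨u, hu⟩
      exact congrArg (fun z : R => ((z : G) : MulAut V)) this
    have hinv : ∀ z ∈ (R : Subgroup G), ∀ a ∈ (dl (τ : MulAut V)).range,
        (z : MulAut V) a ∈ (dl (τ : MulAut V)).range := by
      rintro z hz _ ⟨v, rfl⟩
      have hcom' : (z : MulAut V) * (τ : MulAut V) = τ * z := by
        have := Subgroup.mem_center_iff.1 hτ0.2 ⟨z, hz⟩
        exact congrArg (fun z : R => ((z : G) : MulAut V)) this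
      refine ⟨(z : MulAut V) v, ?_⟩
      have e : (τ : MulAut V) ((z : MulAut V) v) = (z : MulAut V) ((τ : MulAut V) v) :=
        (DFunLike.congr_fun hcom' v).symm
      simp [e]
    -- the fixed points on a group of order `p`
    obtain ⟨w, hw, hw1⟩ : ∃ w ∈ (dl (τ : MulAut V)).range ⊓ (dl (u : MulAut V)).ker, w ≠ 1 := by
      let act : MulAction R (dl (τ : MulAut V)).range :=
        { smul := fun z a => ⟨((z : G) : MulAut V) a, hinv z z.2 a a.2⟩
          one_smul := fun a => rfl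
          mul_smul := fun z w a => rfl }
      obtain ⟨b, hb, hb1⟩ := R.2.exists_fixed_point_of_prime_dvd_card_of_fixed_point _
        (a := (1 : (dl (τ : MulAut V)).range)) (by rw [hrp])
        (fun z => Subtype.ext (map_one ((z : G) : MulAut V)))
      exact ⟨b, ⟨b.2, mem_ker.2 (congrArg Subtype.val (hb ⟨u, hu⟩))⟩,
        fun e => hb1 (Subtype.ext e.symm)⟩
    intro a ha
    obtain ⟨n, rfl⟩ := exists_pow_eq hrp hw.1 hw1 ha
    exact pow_mem hw.2 n
  have htr : (dl (τ : MulAut V)).range ≤ (dl (τ : MulAut V)).ker := hcR τ hτR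
  have hτp : (τ : MulAut V) ^ p = 1 := pow_prime_eq_one h.three h.exp
    (C := (dl (τ : MulAut V)).range) (W := (dl (τ : MulAut V)).range)
    (fun c hc => mem_ker.1 (htr hc)) (fun w _ => ⟨w, rfl⟩) (fun v => ⟨v, rfl⟩)
  obtain ⟨g, hgY⟩ : ∃ g, g ∉ Y := by
    by_contra hall
    push Not at hall
    exact h.proper ((Subgroup.eq_top_iff' Y).2 hall)
  have hτne : τ ≠ 1 := fun e => hτ1 (by rw [e]; rfl)
  have hτY := h.le hτR
  set τ' : G := g * τ * g⁻¹ with hτ'
  have hτ'Y : τ' ∉ Y := fun e =>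
    hgY (h.mem_of_conj (R.2.to_le (Subgroup.zpowers_le.2 hτR)) hτne hτY e)
  have hr' : (dl (τ' : MulAut V)).range = (dl (τ : MulAut V)).range.map
      (g : MulAut V).toMonoidHom := range_conj _ _
  have hk' : (dl (τ' : MulAut V)).ker = (dl (τ : MulAut V)).ker.map
      (g : MulAut V).toMonoidHom := ker_conj _ _
  have htr' : (dl (τ' : MulAut V)).range ≤ (dl (τ' : MulAut V)).ker := by
    rw [hr', hk']; exact Subgroup.map_mono htr
  have hrp' : Nat.card (dl (τ' : MulAut V)).range = p := by rw [hr', card_map_aut, hrp]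
  have notP : ¬ IsPGroup p (Subgroup.closure {τ, τ'}) := fun hP =>
    hτ'Y (h.pgroup_le hP (Subgroup.subset_closure (by simp)) hτne hτY
      (Subgroup.subset_closure (by simp)))
  obtain ⟨c, hc, hc1⟩ := (Subgroup.bot_or_exists_ne_one (dl (τ : MulAut V)).range).resolve_left
    (fun e => by rw [e, Subgroup.card_bot] at hrp; exact hp.ne_one hrp.symm)
  set c' := (g : MulAut V) c with hc'
  have hc'r : c' ∈ (dl (τ' : MulAut V)).range := by rw [hr']; exact ⟨c, hc, rfl⟩
  have hc'1 : c' ≠ 1 := fun e => hc1 ((g : MulAut V).injective (by rw [map_one]; exact e))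
  have hnfix : dl (τ : MulAut V) c' ≠ 1 := by
    intro e
    obtain ⟨h1, h2, h3⟩ := transvection_stab htr htr' (fun a ha => by
      obtain ⟨n, rfl⟩ := exists_pow_eq hrp' hc'r hc'1 ha
      exact pow_mem (MonoidHom.mem_ker.2 e) n)
    exact notP (h.stab_mem h1 h2 h3)
  have hnfix' : dl (τ' : MulAut V) c ≠ 1 := by
    intro e
    obtain ⟨h1, h2, h3⟩ := transvection_stab htr' htr (fun a ha => by
      obtain ⟨n, rfl⟩ := exists_pow_eq hrp hc hc1 ha
      exact pow_mem (MonoidHom.mem_ker.2 e) n)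
    exact notP (h.stab_mem h1 h3 h2)
  obtain ⟨u, huR, hu⟩ : ∃ u ∈ (R : Subgroup G), u ∉ Subgroup.zpowers τ := by
    by_contra hall
    push Not at hall
    have h1 := Subgroup.card_le_of_le (show (R : Subgroup G) ≤ Subgroup.zpowers τ from hall)
    rw [Nat.card_zpowers, orderOf_eq (G := G) (Subtype.ext hτp) hτne] at h1
    omega
  set w := (u : MulAut V) c' with hw
  obtain ⟨j, hj⟩ := exists_pow_eq hrp' (a := dl (τ' : MulAut V) c)
    (b := (dl (τ' : MulAut V) w)⁻¹) ⟨c, rfl⟩ hnfix' (inv_mem ⟨w, rfl⟩)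
  obtain ⟨i, hi⟩ := exists_pow_eq hrp (a := dl (τ : MulAut V) c') (b := c ^ j) ⟨c', rfl⟩ hnfix
    (pow_mem hc j)
  set u' : G := u * τ ^ i with hu'
  have hu'R : u' ∈ (R : Subgroup G) := mul_mem huR (pow_mem hτR i)
  have hu'1 : u' ≠ 1 := fun e => hu (by
    rw [eq_inv_of_mul_eq_one_left e]
    exact inv_mem (pow_mem (Subgroup.mem_zpowers τ) i))
  have hu'c : (u' : MulAut V) c' = w * c ^ j := by
    have e := pow_shift (u := (τ : MulAut V)) (v := c') (mem_ker.1 (htr ⟨c', rfl⟩))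
      (apply_eq _ _) i
    show ((u : MulAut V) * (τ : MulAut V) ^ i) c' = _
    rw [MulAut.mul_apply, e, hi, map_mul, map_pow, mem_ker.1 (hcR u huR hc)]
  have hin : (u' : MulAut V) c' ∈ (dl (τ' : MulAut V)).ker := by
    rw [MonoidHom.mem_ker, hu'c, map_mul, map_pow, hj, mul_inv_cancel]
  set τ'' : G := u' * τ' * u'⁻¹ with hτ''
  have htr'' : (dl (τ'' : MulAut V)).range ≤ (dl (τ'' : MulAut V)).ker := by
    show (dl ((u' : MulAut V) * (τ' : MulAut V) * (u' : MulAut V)⁻¹)).range ≤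
      (dl ((u' : MulAut V) * (τ' : MulAut V) * (u' : MulAut V)⁻¹)).ker
    rw [range_conj, ker_conj]
    exact Subgroup.map_mono htr'
  obtain ⟨h1, h2, h3⟩ := transvection_stab htr' htr'' (by
    show (dl ((u' : MulAut V) * (τ' : MulAut V) * (u' : MulAut V)⁻¹)).range ≤ _
    rw [range_conj]
    rintro _ ⟨a, ha, rfl⟩
    obtain ⟨n, rfl⟩ := exists_pow_eq hrp' hc'r hc'1 ha
    rw [map_pow]
    exact pow_mem hin n)
  have hP := (h.stab_mem h1 h2 h3).map (MulAut.conj g⁻¹).toMonoidHom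
  have hmem := h.pgroup_le hP (a := τ)
    ⟨τ', Subgroup.subset_closure (by simp), by simp [hτ', mul_assoc]⟩ hτne hτY
    ⟨τ'', Subgroup.subset_closure (by simp), rfl⟩
  have hgu : g⁻¹ * u' * g ∈ Y := by
    refine h.mem_of_conj (R.2.to_le (Subgroup.zpowers_le.2 hτR)) hτne hτY ?_
    have e : g⁻¹ * u' * g * τ * (g⁻¹ * u' * g)⁻¹ = g⁻¹ * τ'' * g⁻¹⁻¹ := by
      rw [hτ'', hτ']; group
    rw [e]
    simpa using hmem
  refine hgY (h.mem_of_conj ?_ ?_ hgu ?_)
  · have h1 := (R.2.to_le (Subgroup.zpowers_le.2 hu'R)).map (MulAut.conj g⁻¹).toMonoidHom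
    rw [MonoidHom.map_zpowers] at h1
    have e : (MulAut.conj g⁻¹).toMonoidHom u' = g⁻¹ * u' * g := by simp
    rwa [e] at h1
  · intro e
    apply hu'1
    calc u' = g * (g⁻¹ * u' * g) * g⁻¹ := by group
      _ = 1 := by rw [e]; simp
  · have e : g * (g⁻¹ * u' * g) * g⁻¹ = u' := by group
    rw [e]
    exact h.le hu'R

end Embedded

end LinOdd

universe u

/-- A Sylow `p`-subgroup of such a subgroup of `GL(3,p)` has order `p`, for odd `p`. -/
theorem lin_sylow_card_odd {p : ℕ} [Fact p.Prime] {V : Type u} [Group V] [Finite V]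
    {G : Subgroup (MulAut V)} (hp : Odd p) (hexp : ∀ v : V, v ^ p = 1)
    (hcomm : ∀ a b : V, a * b = b * a) (hcard : Nat.card V = p ^ 3) (R : Sylow p G)
    (hR : (R : Subgroup G) ≠ ⊥) {Y : Subgroup G} (hY : Y ≠ ⊤)
    (hN : ∀ Q ≤ (R : Subgroup G), Q ≠ ⊥ → Subgroup.normalizer (Q : Set G) ≤ Y) :
    Nat.card R = p := by
  have h3 : 3 ≤ p := by
    have := (Fact.out : p.Prime).two_le
    obtain ⟨k, rfl⟩ := hp
    omega
  let : CommGroup V := { ‹Group V› with mul_comm := hcomm }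
  exact LinOdd.Setup.sylow_card (R := R) (Y := Y) ⟨h3, hexp, hcard, hR, hY, hN⟩

end Cfsg.Agent.EssMax
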