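import Cfsg.Agent.FusRankThree.Setup
import Cfsg.Agent.PearlExists.NormalCrit
import Cfsg.Agent.EssMax.Lin3

/-!
# All essential subgroups normal in a rank three `p`-group: common layer (S5181)
-/

set_option autoImplicit false

open Cfsg Cfsg.FusionSystem Cfsg.Agent.FusionSys Cfsg.Agent.FusRankThree

namespace Cfsg.Agent.EssMax

universe u

variable {Ω : Type u} [Group Ω] {S : Subgroup Ω} {p : ℕ}

/-- `α (X ⊓ E)` as a subgroup of the ambient group. -/
def img {E : Subgroup Ω} (α : MulAut E) (X : Subgroup Ω) : Subgroup Ω :=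
  (X.subgroupOf E).map (E.subtype.comp α.toMonoidHom)

theorem mem_img {E : Subgroup Ω} {α : MulAut E} {X : Subgroup Ω} {v : Ω} :
    v ∈ img α X ↔ ∃ x : E, (x : Ω) ∈ X ∧ ((α x : E) : Ω) = v := Iff.rfl

theorem img_le {E : Subgroup Ω} (α : MulAut E) (X : Subgroup Ω) : img α X ≤ E := by
  rintro _ ⟨x, -, rfl⟩
  exact (α x).2

/-- `X` is invariant under `Aut_F(E)`. -/
def Inv (F : FusionSystem S) (E X : Subgroup Ω) : Prop :=
  ∀ α ∈ F.autGroup E, ∀ x : E, (x : Ω) ∈ X → ((α x : E) : Ω) ∈ X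

/-- `X` is abelian of exponent dividing `p`. -/
def Elem (p : ℕ) (X : Subgroup Ω) : Prop :=
  (∀ a ∈ X, a ^ p = 1) ∧ ∀ a ∈ X, ∀ b ∈ X, a * b = b * a

/-- `Ω₁ Z(S)`. -/
def zS (S : Subgroup Ω) (p : ℕ) : Subgroup Ω where
  carrier := {z | z ∈ S ∧ z ^ p = 1 ∧ ∀ s ∈ S, s * z = z * s}
  one_mem' := ⟨S.one_mem, one_pow p, fun s _ => by rw [mul_one, one_mul]⟩
  mul_mem' {a b} ha hb := ⟨S.mul_mem ha.1 hb.1, by
      rw [(show Commute a b from hb.2.2 a ha.1).mul_pow, ha.2.1, hb.2.1, one_mul],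
    fun s hs => (show Commute s (a * b) from
      (show Commute s a from ha.2.2 s hs).mul_right (hb.2.2 s hs))⟩
  inv_mem' {a} ha := ⟨S.inv_mem ha.1, by rw [inv_pow, ha.2.1, inv_one],
    fun s hs => (show Commute s a from ha.2.2 s hs).inv_right⟩

theorem zS_le : zS S p ≤ S := fun _ h => h.1

/-- An essential subgroup moving `Ω₁ Z(S)`. -/
def Noncentral (F : FusionSystem S) (p : ℕ) (E : Subgroup Ω) : Prop :=
  F.IsEssential p E ∧ ¬ Inv F E (zS S p)

/-- The join of the images of `Ω₁ Z(S)` under `Aut_F(E)`. -/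
def vsub (F : FusionSystem S) (p : ℕ) (E : Subgroup Ω) : Subgroup Ω :=
  ⨆ α : F.autGroup E, img (α : MulAut E) (zS S p)

/-- The conclusion: `S` is a Sylow subgroup of `Sp(4,p)`. -/
def SympSylow (S : Subgroup Ω) (p : ℕ) [Fact p.Prime] : Prop :=
  ∃ P : Sylow p ↥(Matrix.symplecticGroup (Fin 2) (ZMod p)),
    Nonempty (↥S ≃* ↥(P : Subgroup ↥(Matrix.symplecticGroup (Fin 2) (ZMod p))))

/-- The standing hypotheses. -/
structure Ctx (p : ℕ) [Fact p.Prime] [Finite S] (F : FusionSystem S) : Prop where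
  odd : Odd p
  pgrp : IsPGroup p S
  sat : F.IsSaturated p
  rank : RankThree p S
  not2 : ¬ SectionalPRankLE p 2 S
  core : F.core = ⊥
  normal : ∀ E, F.IsEssential p E → S ≤ Subgroup.normalizer (E : Set Ω)

variable {F : FusionSystem S}

theorem img_le_vsub {E : Subgroup Ω} {α : MulAut E} (hα : α ∈ F.autGroup E) :
    img α (zS S p) ≤ vsub F p E :=
  le_iSup (fun α : F.autGroup E => img (α : MulAut E) (zS S p)) ⟨α, hα⟩

variable [Fact p.Prime] [Finite S]

/-- Elementary sections of `S` written in the ambient group. -/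
theorem section_card_le (h : Ctx p F) {H R : Subgroup Ω} (hRH : R ≤ H) (hHS : H ≤ S)
    (hpow : ∀ a ∈ H, a ^ p ∈ R) (hcomm : ∀ a ∈ H, ∀ b ∈ H, a * b * a⁻¹ * b⁻¹ ∈ R) :
    R.relIndex H ≤ p ^ 3 := by
  have e : R.relIndex H = (R.subgroupOf S).relIndex (H.subgroupOf S) :=
    (Subgroup.relIndex_subgroupOf hHS).symm
  rw [e]
  exact h.rank _ _ (fun x hx => hRH hx) (fun a ha => by
      rw [Subgroup.mem_subgroupOf, Subgroup.coe_pow]; exact hpow _ ha)
    fun a ha b hb => hcomm _ ha _ hb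

theorem elem_card_le (h : Ctx p F) {X : Subgroup Ω} (hX : Elem p X) (hXS : X ≤ S) :
    Nat.card X ≤ p ^ 3 := by
  have := section_card_le h (bot_le : (⊥ : Subgroup Ω) ≤ X) hXS
    (fun a ha => Subgroup.mem_bot.2 (hX.1 a ha)) fun a ha b hb => by
      rw [Subgroup.mem_bot, hX.2 a ha b hb]; group
  rwa [Subgroup.relIndex_bot_left] at this

theorem normalizerIn_eq (h : Ctx p F) {E : Subgroup Ω} (hE : F.IsEssential p E) :
    normalizerIn S E = S := inf_eq_left.2 (h.normal E hE)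

/-- A `p`-group of automorphisms of a group of order `p ^ 2` has order at most `p`. -/
theorem card_le_of_sq {V : Type*} [Group V] (hV : Nat.card V = p ^ 2)
    {P : Subgroup (MulAut V)} (hP : IsPGroup p P) : Nat.card P ≤ p := by
  classical
  have hpp : p.Prime := Fact.out
  haveI : Finite V := Nat.finite_of_card_ne_zero (by rw [hV]; exact pow_ne_zero 2 hpp.ne_zero)
  haveI : Finite P := inferInstance
  obtain ⟨v, hv, hv1⟩ := hP.exists_fixed_point_of_prime_dvd_card_of_fixed_point (α := V)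
    (by rw [hV]; exact dvd_pow_self p two_ne_zero) (a := (1 : V))
    (fun u => map_one (u : MulAut V))
  have hvfix : ∀ u : P, (u : MulAut V) v = v := fun u => hv u
  set L := Subgroup.zpowers v with hL
  have hL2 : ¬ (L = ⊥) := fun e => hv1 (Subgroup.zpowers_eq_bot.1 e).symm
  by_cases htop : L = ⊤
  · have : Nat.card P ≤ 1 := by
      haveI : Subsingleton P := ⟨fun a b => Subtype.ext (MulEquiv.ext fun w => by
        obtain ⟨n, rfl⟩ := Subgroup.mem_zpowers_iff.1 (htop ▸ Subgroup.mem_top w : w ∈ L)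
        rw [map_zpow, map_zpow, hvfix a, hvfix b])⟩
      exact Finite.card_le_one_iff_subsingleton.2 inferInstance
    exact this.trans hpp.one_lt.le
  have hcL : Nat.card L = p := by
    obtain ⟨k, hk, hk'⟩ := (Nat.dvd_prime_pow hpp).1 (hV ▸ L.card_subgroup_dvd_card)
    interval_cases k
    · exact absurd (Subgroup.eq_bot_of_card_eq L (by simpa using hk')) hL2
    · simpa using hk'
    · exact absurd (Subgroup.eq_top_of_card_eq L (by rw [hk', hV])) htop
  have hcent : L ≤ Subgroup.center V := by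
    letI : CommGroup V := IsPGroup.commGroupOfCardEqPrimeSq hV
    exact fun x _ => Subgroup.mem_center_iff.2 fun g => mul_comm g x
  haveI : L.Normal := ⟨fun n hn g => by
    rw [Subgroup.mem_center_iff.1 (hcent hn) g, mul_inv_cancel_right]; exact hn⟩
  have hidx : L.index = p := by
    have := L.card_mul_index
    rw [hcL, hV, sq] at this
    exact Nat.eq_of_mul_eq_mul_left hpp.pos this
  obtain ⟨w, hw⟩ : ∃ w, w ∉ L := by
    by_contra hh
    push Not at hh
    exact htop (eq_top_iff.2 fun x _ => hh x)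
  -- the action on `V / L` is trivial
  have hq : ∀ u : P, w⁻¹ * (u : MulAut V) w ∈ L := by
    let act : P →* MulAut (V ⧸ L) :=
      { toFun := fun u => QuotientGroup.congr L L (u : MulAut V) (by
          rw [hL, MonoidHom.map_zpowers]
          exact congrArg Subgroup.zpowers (hvfix u))
        map_one' := by
          refine MulEquiv.ext fun z => ?_
          obtain ⟨z, rfl⟩ := QuotientGroup.mk'_surjective L z
          rfl
        map_mul' := fun a b => by
          refine MulEquiv.ext fun z => ?_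
          obtain ⟨z, rfl⟩ := QuotientGroup.mk'_surjective L z
          rfl }
    have hc : Nat.card (V ⧸ L) = p := by rw [← Subgroup.index_eq_card, hidx]
    haveI : IsCyclic (V ⧸ L) := isCyclic_of_prime_card hc
    have hau : Nat.card (MulAut (V ⧸ L)) = p - 1 := by
      rw [IsCyclic.card_mulAut, hc, Nat.totient_prime hpp]
    intro u
    have h1 : act u = 1 := by
      have hd : orderOf (act u) ∣ p - 1 := hau ▸ orderOf_dvd_natCard _
      obtain ⟨k, hk⟩ := hP u
      have hp' : orderOf (act u) ∣ p ^ k :=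
        orderOf_dvd_of_pow_eq_one (by rw [← map_pow, hk, map_one])
      refine orderOf_eq_one_iff.1 (Nat.dvd_one.1 ?_)
      have hco : Nat.Coprime (p ^ k) (p - 1) := Nat.Coprime.pow_left k
        (hpp.coprime_iff_not_dvd.2 fun hh =>
          absurd (Nat.le_of_dvd (by have := hpp.two_le; omega) hh) (by have := hpp.two_le; omega))
      rw [← hco.gcd_eq_one]
      exact Nat.dvd_gcd hp' hd
    have h2 : QuotientGroup.mk' L ((u : MulAut V) w) = QuotientGroup.mk' L w :=
      DFunLike.congr_fun h1 (w : V ⧸ L)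
    exact QuotientGroup.eq.1 h2.symm
  rw [← hcL]
  refine Nat.card_le_card_of_injective (fun u : P => (⟨_, hq u⟩ : L)) fun a b hab => ?_
  have h1 : (a : MulAut V) w = (b : MulAut V) w :=
    mul_left_cancel (congrArg Subtype.val hab)
  have hgen : L ⊔ Subgroup.zpowers w = ⊤ := by
    by_contra hh
    have hlt : L < L ⊔ Subgroup.zpowers w := lt_of_le_of_ne le_sup_left fun e =>
      hw (e ▸ (le_sup_right : Subgroup.zpowers w ≤ L ⊔ _) (Subgroup.mem_zpowers w))
    obtain ⟨k, hk, hk'⟩ := (Nat.dvd_prime_pow hpp).1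
      (hV ▸ (L ⊔ Subgroup.zpowers w).card_subgroup_dvd_card)
    have hk1 : 1 < k := by
      by_contra hk1
      refine absurd (Subgroup.eq_of_le_of_card_ge le_sup_left ?_) hlt.ne
      rw [hk', hcL]
      exact (Nat.pow_le_pow_right hpp.pos (not_lt.1 hk1)).trans (pow_one p).le
    exact hh (Subgroup.eq_top_of_card_eq _ (by rw [hk', hV, show k = 2 by omega]))
  refine Subtype.ext (MulEquiv.ext fun x => ?_)
  have hle : L ⊔ Subgroup.zpowers w ≤
      MonoidHom.eqLocus (a : MulAut V).toMonoidHom (b : MulAut V).toMonoidHom :=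
    sup_le (Subgroup.zpowers_le.2 ((hvfix a).trans (hvfix b).symm)) (Subgroup.zpowers_le.2 h1)
  exact hle (hgen ▸ Subgroup.mem_top x)

/-- An essential subgroup is not trivial and has a Frattini quotient of order `p ^ 2` or `p ^ 3`. -/
theorem frattini_index_cases (h : Ctx p F) {E : Subgroup Ω} (hE : F.IsEssential p E) :
    (frattini ↥E).index = p ^ 2 ∨ (frattini ↥E).index = p ^ 3 := by
  have hpp : p.Prime := Fact.out
  haveI : Finite E := finite_of_le ‹_› hE.1.1
  have hEp : IsPGroup p E := h.pgrp.to_le hE.1.1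
  obtain ⟨k, hk⟩ := hEp.index (frattini ↥E)
  have hle : (frattini ↥E).index ≤ p ^ 3 := by
    rw [← Subgroup.relIndex_top_right]
    exact rankThree_of_injective h.rank (Subgroup.inclusion hE.1.1)
      (Subgroup.inclusion_injective _) ⊤ _ le_top
      (fun a _ => PGroup.pow_mem_frattini hEp a)
      (fun a _ b _ => by
        rw [← commutatorElement_def]; exact PGroup.commutatorElement_mem_frattini hEp a b)
  have hk1 : k ≠ 1 := fun e => frattini_index_ne_prime h.pgrp h.sat hE (by rw [hk, e, pow_one])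
  have hk0 : k ≠ 0 := fun e => by
    have htop : frattini ↥E = ⊤ := Subgroup.index_eq_one.1 (by rw [hk, e, pow_zero])
    have hbot : (⊥ : Subgroup E) = ⊤ :=
      PGroup.eq_top_of_sup_frattini (by rw [htop, sup_top_eq])
    obtain ⟨g, hg, hgE⟩ := exists_mem_normalizerIn_not_mem h.pgrp h.sat hE
    refine hgE (hE.1.2 E (isConj_refl F hE.1.1) (mem_centralizerIn.2 ⟨hg.1, fun z hz => ?_⟩))
    have h1 : (⟨z, hz⟩ : E) ∈ (⊥ : Subgroup E) := hbot ▸ Subgroup.mem_top _
    have hz1 : z = 1 := congrArg Subtype.val (Subgroup.mem_bot.1 h1)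
    rw [hz1, one_mul, mul_one]
  rw [hk] at hle
  have hk3 : k ≤ 3 := (Nat.pow_le_pow_iff_right hpp.one_lt).1 hle
  rcases (show k = 2 ∨ k = 3 by omega) with rfl | rfl
  · exact Or.inl hk
  · exact Or.inr hk

theorem relIndex_eq (h : Ctx p F) {E : Subgroup Ω} (hE : F.IsEssential p E) :
    E.relIndex S = p := by
  have hpp : p.Prime := Fact.out
  have hES : E ≤ S := hE.1.1
  have hSn := normalizerIn_eq h hE
  haveI : Finite E := finite_of_le ‹_› hES
  have hEp : IsPGroup p E := h.pgrp.to_le hES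
  haveI : Finite (normalizerIn S E) := finite_of_le ‹_› (normalizerIn_le E)
  obtain ⟨R, Y, hRne, hY, hN, hmem⟩ := exists_lin_data h.pgrp h.sat hE
  have hR : Nat.card R = p := by
    rcases frattini_index_cases h hE with hk | hk
    · refine le_antisymm ?_ ?_
      · rw [← Subgroup.card_map_of_injective
          (f := (rho F E).range.subtype) Subtype.val_injective]
        exact card_le_of_sq (by rw [← hk, Subgroup.index_eq_card]) (R.2.map _)
      · obtain ⟨n, hn⟩ := R.2.exists_card_eq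
        rcases n with _ | n
        · exact absurd (Subgroup.eq_bot_of_card_eq _ (by simpa using hn)) hRne
        · rw [hn]; exact Nat.le_self_pow n.succ_ne_zero p
    · exact lin_sylow_card_odd h.odd (FQ_pow hEp) (FQ_comm hEp)
        (by rw [← hk, Subgroup.index_eq_card]) R hRne hY hN
  set π : normalizerIn S E →* (rho F E).range := (rho F E).rangeRestrict.comp (conjAut F hES)
    with hπ
  have hπR : π.range = (R : Subgroup (rho F E).range) := by
    ext r
    constructor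
    · rintro ⟨g, rfl⟩
      exact (hmem _).2 (mem_autInducedBy.2 ⟨g, g.2.1, fun _ => rfl⟩)
    · intro hr
      obtain ⟨α, rfl⟩ := MonoidHom.rangeRestrict_surjective (rho F E) r
      obtain ⟨g, hg, hge⟩ := mem_autInducedBy.1 ((hmem α).1 hr)
      refine ⟨⟨g, hg, mem_normalizer_of_conj_eq (α : MulAut E) hge⟩, ?_⟩
      rw [hπ, MonoidHom.comp_apply]
      congr 1
      exact Subtype.ext (MulEquiv.ext fun z => Subtype.ext (hge z).symm)
  have hker : π.ker = E.subgroupOf (normalizerIn S E) := by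
    ext g
    rw [MonoidHom.mem_ker, Subgroup.mem_subgroupOf, hπ, MonoidHom.comp_apply,
      ← rho_conjAut_eq_one h.pgrp hE g, Subtype.ext_iff]
    rfl
  have : (E.subgroupOf (normalizerIn S E)).index = p := by
    rw [← hker, Subgroup.index_ker, hπR, hR]
  rw [← hSn]
  exact this

/-- Every element of `S` acts on an essential subgroup inside `Aut_F(E)`. -/
theorem exists_conj (h : Ctx p F) {E : Subgroup Ω} (hE : F.IsEssential p E) {g : Ω} (hg : g ∈ S) :
    ∃ γ ∈ autInducedBy S E, γ ∈ F.autGroup E ∧ ∀ x : E, ((γ x : E) : Ω) = g * x * g⁻¹ := by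
  have hn : g ∈ normalizerIn S E := (normalizerIn_eq h hE).symm ▸ hg
  exact ⟨E.normalizerMonoidHom ⟨g, hn.2⟩, mem_autInducedBy.2 ⟨g, hg, fun _ => rfl⟩,
    autInducedBy_le_autGroup F hE.1.1 (mem_autInducedBy.2 ⟨g, hg, fun _ => rfl⟩), fun _ => rfl⟩

/-- A `p`-subgroup of `Aut_F(E)` containing `Aut_S(E)` equals it. -/
theorem eq_autInduced_of_pgroup (h : Ctx p F) {E : Subgroup Ω} (hE : F.IsEssential p E)
    {K : Subgroup (MulAut E)} (hK : K ≤ F.autGroup E) (hKp : IsPGroup p K)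
    (hPK : autInducedBy S E ≤ K) : K = autInducedBy S E := by
  obtain ⟨-, R, hR⟩ := (saturated_fullyNormalized h.pgrp h.sat hE.2.1).2
  refine le_antisymm ?_ hPK
  have h1 : (R : Subgroup (F.autGroup E)) ≤ K.subgroupOf (F.autGroup E) := by
    rw [hR]; exact Subgroup.comap_mono hPK
  have h2 := R.3 (hKp.of_equiv (Subgroup.subgroupOfEquivOfLe hK).symm) h1
  intro k hk
  have h3 : (⟨k, hK hk⟩ : F.autGroup E) ∈ (R : Subgroup (F.autGroup E)) := h2 ▸ hk
  rw [hR] at h3
  exact h3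

/-- `Aut_S(E)` is not normal in `Aut_F(E)`. -/
theorem exists_not_normalising (h : Ctx p F) {E : Subgroup Ω} (hE : F.IsEssential p E) :
    ∃ α ∈ F.autGroup E, ∃ γ ∈ autInducedBy S E, α * γ * α⁻¹ ∉ autInducedBy S E := by
  by_contra hcon
  push Not at hcon
  obtain ⟨g, hg, hgE⟩ := exists_mem_normalizerIn_not_mem h.pgrp h.sat hE
  exact hgE (Cfsg.Agent.FusionAlperin.mem_of_noOuter hE.1
    (Cfsg.Agent.FusionAlperin.noOuterPNormal_of_radical
      (Cfsg.Agent.FusionAlperin.isRadical_of_essential h.pgrp hE))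
    (autInducedBy_le_autGroup F hE.1.1) (fun α hα n hn => hcon α hα n hn)
    (isPGroup_autInducedBy h.pgrp E) hg (mem_autInducedBy.2 ⟨g, hg.1, fun _ => rfl⟩))

/-- Automorphisms normalising `Aut_S(E)` extend to `S`. -/
theorem exists_extend (h : Ctx p F) {E : Subgroup Ω} (hE : F.IsEssential p E) {α : MulAut E}
    (hα : α ∈ F.autGroup E)
    (hnorm : ∀ γ ∈ autInducedBy S E, α * γ * α⁻¹ ∈ autInducedBy S E) :
    ∃ β ∈ F.autGroup S, ∀ (x : E) (hx : (x : Ω) ∈ S),
      ((β ⟨x, hx⟩ : S) : Ω) = ((α x : E) : Ω) := by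
  have hES := hE.1.1
  haveI : Finite E := finite_of_le ‹_› hES
  set φ : E →* Ω := E.subtype.comp α.toMonoidHom with hφdef
  have hφ : φ ∈ F.Hom E := autGroup_mem_hom F hES hα
  have hr : φ.range = E := by
    ext v
    constructor
    · rintro ⟨x, rfl⟩; exact (α x).2
    · intro hv
      obtain ⟨x, hx⟩ := α.surjective ⟨v, hv⟩
      exact ⟨x, congrArg Subtype.val hx⟩
  have hext : extender S E φ = S := by
    rw [extender_eq_normalizerIn, normalizerIn_eq h hE]
    intro g hg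
    obtain ⟨γ, hγ, -, hγe⟩ := exists_conj h hE hg.1
    obtain ⟨k, hk, hke⟩ := mem_autInducedBy.1 (hnorm γ hγ)
    refine ⟨k, hk, fun x hx => ?_⟩
    have e := hke (α x)
    rw [MulAut.mul_apply, MulAut.mul_apply] at e
    rw [show α⁻¹ (α x) = x from MulEquiv.symm_apply_apply α x] at e
    show ((α ⟨g * x * g⁻¹, hx⟩ : E) : Ω) = k * ((α x : E) : Ω) * k⁻¹
    rw [show (⟨g * x * g⁻¹, hx⟩ : E) = γ x from Subtype.ext (hγe x).symm]
    exact e
  obtain ⟨ψ, hψ, hψe⟩ := (saturated_receptive_of_fullyNormalized h.pgrp h.sat hE.2.1).2 E φ hφ hr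
  have key : ∀ (T : Subgroup Ω) (χ : T →* Ω), T = S → χ ∈ F.Hom T →
      ∃ β ∈ F.autGroup S, ∀ (x : Ω) (hx : x ∈ S) (hxT : x ∈ T),
        ((β ⟨x, hx⟩ : S) : Ω) = χ ⟨x, hxT⟩ := by
    rintro T χ rfl hχ
    have hrT : χ.range = T := range_eq_of_image_le (F.injective_of_mem hχ)
      (by rintro _ ⟨x, rfl⟩; exact map_mem_S F hχ x) le_rfl
    exact ⟨toIso F hχ hrT, toIso_mem_autGroup F hχ hrT, fun x hx hxT => rfl⟩
  obtain ⟨β, hβ, hβe⟩ := key _ ψ hext hψ
  exact ⟨β, hβ, fun x hx => (hβe x hx (hext.symm ▸ hx)).trans (hψe x x.2 _)⟩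

/-- Frattini argument: modulo a subgroup `K` containing `Aut_S(E)`, an automorphism normalising
`K` extends to `S`. -/
theorem frattini_dec (h : Ctx p F) {E : Subgroup Ω} (hE : F.IsEssential p E)
    {K : Subgroup (MulAut E)} (hK : K ≤ F.autGroup E) (hPK : autInducedBy S E ≤ K) {α : MulAut E}
    (hα : α ∈ F.autGroup E) (hnorm : ∀ k ∈ K, α * k * α⁻¹ ∈ K) :
    ∃ k ∈ K, ∃ β ∈ F.autGroup S, ∀ (x : E) (hx : (x : Ω) ∈ S),
      (((k * α) x : E) : Ω) = ((β ⟨x, hx⟩ : S) : Ω) := by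
  have hES := hE.1.1
  haveI : Finite E := finite_of_le ‹_› hES
  set A := F.autGroup E with hA
  obtain ⟨-, R, hR⟩ := (saturated_fullyNormalized h.pgrp h.sat hE.2.1).2
  set K' := K.subgroupOf A with hK'
  have hRK : (R : Subgroup A) ≤ K' := by rw [hR]; exact Subgroup.comap_mono hPK
  set a : A := ⟨α, hα⟩ with ha
  have hmem : ∀ u ∈ (R : Subgroup A), a * u * a⁻¹ ∈ K' := fun u hu => hnorm _ (hRK hu)
  set R₁ : Sylow p K' := R.subtype hRK with hR₁
  have hRa : (a • R : Sylow p A).1 ≤ K' := by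
    rintro _ ⟨u, hu, rfl⟩
    exact hmem u hu
  obtain ⟨k, hk⟩ := MulAction.exists_smul_eq K' ((a • R : Sylow p A).subtype hRa) R₁
  have key : ∀ γ ∈ autInducedBy S E, ((k : A) : MulAut E) * α * γ * (((k : A) : MulAut E) * α)⁻¹ ∈
      autInducedBy S E := by
    intro γ hγ
    have hγA : γ ∈ A := autInducedBy_le_autGroup F hES hγ
    have hu : (⟨γ, hγA⟩ : A) ∈ (R : Subgroup A) := by rw [hR]; exact hγ
    have h1 : (⟨a * ⟨γ, hγA⟩ * a⁻¹, hmem _ hu⟩ : K') ∈
        ((a • R : Sylow p A).subtype hRa : Subgroup K') := ⟨_, hu, rfl⟩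
    have h2 : k * ⟨a * ⟨γ, hγA⟩ * a⁻¹, hmem _ hu⟩ * k⁻¹ ∈ (R₁ : Subgroup K') := by
      rw [← hk]
      exact ⟨_, h1, rfl⟩
    have h3 : (k : A) * (a * ⟨γ, hγA⟩ * a⁻¹) * (k : A)⁻¹ ∈ (R : Subgroup A) := h2
    rw [hR] at h3
    have h4 : ((k : A) : MulAut E) * (α * γ * α⁻¹) * ((k : A) : MulAut E)⁻¹ ∈ autInducedBy S E := h3
    simpa [mul_assoc] using h4
  exact ⟨((k : A) : MulAut E), k.2, exists_extend h hE (A.mul_mem (k : A).2 hα) key |>.imp
    fun β hβ => ⟨hβ.1, fun x hx => (hβ.2 x hx).symm⟩⟩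

/-- An element stabilising an invariant chain `1 ≤ X ≤ E` lies in `E`. -/
theorem mem_of_chain (h : Ctx p F) {E X : Subgroup Ω} (hE : F.IsEssential p E) (hXE : X ≤ E)
    (hinv : Inv F E X) {v : Ω} (hv : v ∈ S) (h1 : ∀ x ∈ X, v * x = x * v)
    (h2 : ∀ e ∈ E, e⁻¹ * (v * e * v⁻¹) ∈ X) : v ∈ E := by
  have hES := hE.1.1
  haveI : Finite E := finite_of_le ‹_› hES
  let M : Subgroup (MulAut E) :=
    { carrier := {a | a ∈ F.autGroup E ∧ (∀ x : E, (x : Ω) ∈ X → a x = x) ∧
        ∀ e : E, ((e⁻¹ * a e : E) : Ω) ∈ X}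
      one_mem' := ⟨one_mem _, fun x _ => rfl, fun e => by simp⟩
      mul_mem' := fun {a b} ha hb => ⟨mul_mem ha.1 hb.1,
        fun x hx => by rw [MulAut.mul_apply, hb.2.1 x hx, ha.2.1 x hx], fun e => by
          have h3 : a (e⁻¹ * b e) = e⁻¹ * b e := ha.2.1 _ (hb.2.2 e)
          rw [map_mul, map_inv] at h3
          have h4 : e⁻¹ * (a * b) e = (e⁻¹ * a e) * (e⁻¹ * b e) := by
            rw [MulAut.mul_apply, ← h3]; group
          rw [h4, Subgroup.coe_mul]
          exact X.mul_mem (ha.2.2 e) (hb.2.2 e)⟩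
      inv_mem' := fun {a} ha => ⟨inv_mem ha.1,
        fun x hx => (a.symm_apply_eq.2 (ha.2.1 x hx).symm), fun e => by
          have h5 := ha.2.2 (a⁻¹ e)
          rw [show a (a⁻¹ e) = e from MulEquiv.apply_symm_apply a e] at h5
          have h6 := X.inv_mem h5
          simpa using h6⟩ }
  obtain ⟨γ, -, hγA, hγe⟩ := exists_conj h hE hv
  refine Cfsg.Agent.FusionAlperin.mem_of_noOuter hE.1
    (Cfsg.Agent.FusionAlperin.noOuterPNormal_of_radical
      (Cfsg.Agent.FusionAlperin.isRadical_of_essential h.pgrp hE))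
    (N := M) (fun a ha => ha.1) ?_ ?_ ((normalizerIn_eq h hE).symm ▸ hv) ?_
  · intro α hα n hn
    refine ⟨mul_mem (mul_mem hα hn.1) (inv_mem hα), fun x hx => ?_, fun e => ?_⟩
    · rw [MulAut.mul_apply, MulAut.mul_apply,
        hn.2.1 _ (hinv _ (inv_mem hα) x hx)]
      exact MulEquiv.apply_symm_apply α x
    · have h7 := hinv _ hα _ (hn.2.2 (α⁻¹ e))
      rw [map_mul, map_inv, show α (α⁻¹ e) = e from MulEquiv.apply_symm_apply α e] at h7
      exact h7
  · haveI : Finite X := finite_of_le ‹_› (hXE.trans hES)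
    obtain ⟨n, hn⟩ := (h.pgrp.to_le (hXE.trans hES)).exists_card_eq
    intro ⟨a, ha⟩
    refine ⟨n, Subtype.ext (MulEquiv.ext fun e => ?_)⟩
    have hd : ∀ j : ℕ, (a ^ j) e = e * (e⁻¹ * a e) ^ j := by
      intro j
      induction j with
      | zero => simp
      | succ j ih =>
        rw [pow_succ', MulAut.mul_apply, ih, map_mul, map_pow, ha.2.1 _ (ha.2.2 e), pow_succ',
          ← mul_assoc e, mul_inv_cancel_left]
    show (a ^ p ^ n) e = e
    have h8 : (e⁻¹ * a e : E) ^ p ^ n = 1 := by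
      apply Subtype.ext
      rw [Subgroup.coe_pow, ← hn]
      exact congrArg Subtype.val (pow_card_eq_one' (x := (⟨_, ha.2.2 e⟩ : X)))
    rw [hd, h8, mul_one]
  · have hNγ : E.normalizerMonoidHom ⟨v, ((normalizerIn_eq h hE).symm ▸ hv : v ∈ normalizerIn S E).2⟩
        = γ := MulEquiv.ext fun x => Subtype.ext (hγe x).symm
    rw [hNγ]
    refine ⟨hγA, fun x hx => Subtype.ext ?_, fun e => ?_⟩
    · rw [hγe, h1 _ hx, mul_inv_cancel_right]
    · rw [Subgroup.coe_mul, hγe]; exact h2 _ e.2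

theorem zS_le_essential (h : Ctx p F) {E : Subgroup Ω} (hE : F.IsEssential p E) :
    zS S p ≤ E := by
  exact fun z hz => hE.1.2 E (isConj_refl F hE.1.1)
    (mem_centralizerIn.2 ⟨hz.1, fun x hx => hz.2.2 x (hE.1.1 hx)⟩)

theorem zS_ne_bot (h : Ctx p F) : zS S p ≠ ⊥ := by
  intro hbot
  have hne : S ≠ ⊥ := by
    rintro rfl
    exact h.not2 fun H N hN A _ _ => by
      rw [Nat.card_unique (α := A)]
      exact Nat.one_le_pow _ _ (Fact.out : p.Prime).pos
  haveI : Nontrivial S := (Subgroup.nontrivial_iff_ne_bot S).2 hne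
  haveI : Nontrivial (Subgroup.center S) := h.pgrp.center_nontrivial
  obtain ⟨z, hz⟩ := exists_prime_orderOf_dvd_card' (G := Subgroup.center S) p (by
    obtain ⟨n, hn⟩ := (h.pgrp.to_subgroup (Subgroup.center S)).exists_card_eq
    rcases n with _ | n
    · exact absurd Finite.one_lt_card (by rw [hn]; simp)
    · rw [hn]; exact dvd_pow_self p n.succ_ne_zero)
  have hzp : z ^ p = 1 := by rw [← hz]; exact pow_orderOf_eq_one z
  have hmem : ((z : S) : Ω) ∈ zS S p := ⟨(z : S).2,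
    congrArg (fun w : Subgroup.center S => ((w : S) : Ω)) hzp,
    fun s hs => congrArg Subtype.val (Subgroup.mem_center_iff.1 z.2 ⟨s, hs⟩)⟩
  rw [hbot, Subgroup.mem_bot] at hmem
  have : z = 1 := Subtype.ext (Subtype.ext hmem)
  rw [this, orderOf_one] at hz
  exact (Fact.out : p.Prime).ne_one hz.symm

theorem zS_elem : Elem p (zS S p) := ⟨fun _ ha => ha.2.1, fun a ha _ hb => hb.2.2 a ha.1⟩

theorem zS_inv_self : Inv F S (zS S p) := by
  intro α _ x hx
  refine ⟨(α x).2, ?_, fun s hs => ?_⟩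
  · rw [← Subgroup.coe_pow, ← map_pow, show x ^ p = 1 from Subtype.ext hx.2.1, map_one]
    rfl
  · obtain ⟨t, ht⟩ := α.surjective ⟨s, hs⟩
    have : t * x = x * t := Subtype.ext (hx.2.2 t t.2)
    have := congrArg (fun w => ((α w : S) : Ω)) this
    simpa [map_mul, ht] using this

/-- A nontrivial invariant subgroup of every essential subgroup contradicts the trivial core. -/
theorem false_of_inv (h : Ctx p F) {Q : Subgroup Ω} (hQ : Q ≠ ⊥) (hQS : Q ≤ S) (hQi : Inv F S Q)
    (hE : ∀ E, F.IsEssential p E → Q ≤ E ∧ Inv F E Q) : False := by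
  have hn := PearlExists.isNormal_of_essentials h.pgrp h.sat hQS hQi hE
  exact hQ (le_bot_iff.1 (h.core ▸ le_sSup hn))

theorem exists_noncentral (h : Ctx p F) : ∃ E, Noncentral F p E := by
  by_contra hcon
  push Not at hcon
  exact false_of_inv h (zS_ne_bot h) zS_le zS_inv_self fun E hE =>
    ⟨zS_le_essential h hE, by
      by_contra hi
      exact hcon E ⟨hE, hi⟩⟩

/-- Automorphisms of an essential subgroup fixing `Ω₁ Z(S)` agree on it with `Aut_F(S)`. -/
theorem restrict_zS (h : Ctx p F) {E : Subgroup Ω} (hE : F.IsEssential p E) {α : MulAut E}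
    (hα : α ∈ F.autGroup E) (hfix : img α (zS S p) = zS S p) :
    ∃ β ∈ F.autGroup S, ∀ (x : E) (hx : (x : Ω) ∈ S), (x : Ω) ∈ zS S p →
      ((β ⟨x, hx⟩ : S) : Ω) = ((α x : E) : Ω) := by
  have hES := hE.1.1
  let K : Subgroup (MulAut E) :=
    { carrier := {a | a ∈ F.autGroup E ∧ ∀ x : E, (x : Ω) ∈ zS S p → a x = x}
      one_mem' := ⟨one_mem _, fun x _ => rfl⟩
      mul_mem' := fun {a b} ha hb => ⟨mul_mem ha.1 hb.1,
        fun x hx => by rw [MulAut.mul_apply, hb.2 x hx, ha.2 x hx]⟩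
      inv_mem' := fun {a} ha => ⟨inv_mem ha.1,
        fun x hx => a.symm_apply_eq.2 (ha.2 x hx).symm⟩ }
  have hfwd : ∀ x : E, (x : Ω) ∈ zS S p → ((α x : E) : Ω) ∈ zS S p := fun x hx =>
    hfix ▸ mem_img.2 ⟨x, hx, rfl⟩
  have hbwd : ∀ x : E, (x : Ω) ∈ zS S p → ((α⁻¹ x : E) : Ω) ∈ zS S p := fun x hx => by
    have h1 : (x : Ω) ∈ img α (zS S p) := hfix.symm ▸ hx
    obtain ⟨y, hy, hyx⟩ := mem_img.1 h1
    rwa [show α⁻¹ x = y from α.symm_apply_eq.2 (Subtype.ext hyx).symm]
  have hPK : autInducedBy S E ≤ K := by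
    intro γ hγ
    obtain ⟨g, hg, hge⟩ := mem_autInducedBy.1 hγ
    exact ⟨autInducedBy_le_autGroup F hES hγ, fun x hx => Subtype.ext (by
      rw [hge, hx.2.2 g hg, mul_inv_cancel_right])⟩
  obtain ⟨k, hk, β, hβ, hβe⟩ := frattini_dec h hE (K := K) (fun a ha => ha.1) hPK hα
    fun a ha => ⟨mul_mem (mul_mem hα ha.1) (inv_mem hα), fun x hx => by
      rw [MulAut.mul_apply, MulAut.mul_apply, ha.2 _ (hbwd x hx)]
      exact MulEquiv.apply_symm_apply α x⟩
  refine ⟨β, hβ, fun x hx hxZ => ?_⟩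
  rw [← hβe x hx, MulAut.mul_apply, hk.2 _ (hfwd x hxZ)]

/-- The structure of `vsub`. -/
structure VSpec (F : FusionSystem S) (p : ℕ) (E V : Subgroup Ω) : Prop where
  elem : Elem p V
  le : V ≤ E
  inv : Inv F E V
  normal : ∀ s ∈ S, ∀ v ∈ V, s * v * s⁻¹ ∈ V
  zS_lt : zS S p < V
  cent : centralizerIn S V = E
  fixed : ∀ v ∈ V, (∀ s ∈ S, s * v = v * s) → v ∈ zS S p

theorem vsub_spec (h : Ctx p F) {E : Subgroup Ω} (hE : Noncentral F p E) :
    VSpec F p E (vsub F p E) := by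
  obtain ⟨hE, hmov⟩ := hE
  have hES := hE.1.1
  set V := vsub F p E with hV
  have hVle : V ≤ E := iSup_le fun α => img_le _ _
  -- every element is of exponent `p` and central in `E`
  let B : Subgroup Ω :=
    { carrier := {v | v ^ p = 1 ∧ v ∈ E ∧ ∀ e ∈ E, e * v = v * e}
      one_mem' := ⟨one_pow p, one_mem _, fun e _ => by rw [mul_one, one_mul]⟩
      mul_mem' := fun {a b} ha hb => ⟨by
          rw [(show Commute a b from hb.2.2 a ha.2.1).mul_pow, ha.1, hb.1, one_mul],
        mul_mem ha.2.1 hb.2.1, fun e he =>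
          (show Commute e (a * b) from
            (show Commute e a from ha.2.2 e he).mul_right (hb.2.2 e he))⟩
      inv_mem' := fun {a} ha => ⟨by rw [inv_pow, ha.1, inv_one], inv_mem ha.2.1,
        fun e he => (show Commute e a from ha.2.2 e he).inv_right⟩ }
  have hVB : V ≤ B := iSup_le fun α => by
    rintro _ ⟨x, hx, rfl⟩
    refine ⟨?_, ((α : MulAut E) x).2, fun e he => ?_⟩
    · rw [← map_pow, show x ^ p = 1 from Subtype.ext hx.2.1, map_one]
    · obtain ⟨e', he'⟩ := (α : MulAut E).surjective ⟨e, he⟩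
      have h1 := congrArg (fun w : E => (((α : MulAut E) w : E) : Ω))
        (show e' * x = x * e' from Subtype.ext (hx.2.2 e' (hES e'.2)))
      simpa [map_mul, he'] using h1
  have hinv : Inv F E V := by
    intro α hα x hx
    have hle : V ≤ ((V.subgroupOf E).comap α.toMonoidHom).map E.subtype := by
      refine iSup_le fun γ => ?_
      rintro _ ⟨z, hz, rfl⟩
      refine ⟨(γ : MulAut E) z, ?_, rfl⟩
      exact img_le_vsub (mul_mem hα γ.2) (mem_img.2 ⟨z, hz, rfl⟩)
    obtain ⟨y, hy, hyx⟩ := hle hx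
    rwa [← Subtype.ext (a1 := y) (a2 := x) hyx]
  have hnormal : ∀ s ∈ S, ∀ v ∈ V, s * v * s⁻¹ ∈ V := by
    intro s hs v hv
    obtain ⟨γ, -, hγA, hγe⟩ := exists_conj h hE hs
    have := hinv γ hγA ⟨v, hVle hv⟩ hv
    rwa [hγe] at this
  have hfixed : ∀ v ∈ V, (∀ s ∈ S, s * v = v * s) → v ∈ zS S p := fun v hv hc =>
    ⟨hES (hVle hv), (hVB hv).1, hc⟩
  have hlt : zS S p < V := by
    have hle : zS S p ≤ V := fun z hz =>
      img_le_vsub (one_mem _) (mem_img.2 ⟨⟨z, zS_le_essential h hE hz⟩, hz, rfl⟩)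
    refine lt_of_le_of_ne hle fun e => hmov fun α hα x hx => ?_
    rw [e] at hx ⊢
    exact hinv α hα x hx
  refine ⟨⟨fun a ha => (hVB ha).1, fun a ha b hb => (hVB hb).2.2 a (hVB ha).2.1⟩, hVle, hinv,
    hnormal, hlt, ?_, hfixed⟩
  -- the centralizer
  have hEC : E ≤ centralizerIn S V := fun e he =>
    mem_centralizerIn.2 ⟨hES he, fun v hv => ((hVB hv).2.2 e he).symm⟩
  have hne : centralizerIn S V ≠ S := fun e => hlt.not_ge fun v hv => hfixed v hv fun s hs =>
    ((mem_centralizerIn.1 (e.symm ▸ hs : s ∈ centralizerIn S V)).2 v hv).symm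
  haveI : Finite (centralizerIn S V) := finite_of_le ‹_› (centralizerIn_le V)
  haveI : Finite E := finite_of_le ‹_› hES
  refine (eq_of_le_of_card_le hEC ?_).symm
  have h1 := Subgroup.relIndex_mul_relIndex E (centralizerIn S V) S hEC (centralizerIn_le V)
  rw [relIndex_eq h hE] at h1
  rcases (Nat.dvd_prime (Fact.out : p.Prime)).1 ⟨_, h1.symm⟩ with h2 | h2
  · exact Nat.card_le_card_of_injective _
      (Subgroup.inclusion_injective (Subgroup.relIndex_eq_one.1 h2))
  · rw [h2] at h1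
    have h3 : (centralizerIn S V).relIndex S = 1 := by
      have h4 : p * (centralizerIn S V).relIndex S = p * 1 := by rw [h1, mul_one]
      exact Nat.eq_of_mul_eq_mul_left (Fact.out : p.Prime).pos h4
    exact absurd (le_antisymm (centralizerIn_le V) (Subgroup.relIndex_eq_one.1 h3)) hne

end Cfsg.Agent.EssMax
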