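import Cfsg.Agent.FusionSys.EssentialFlag
import Cfsg.Agent.FusRankThree.Transv
import Cfsg.Prelude.Def_CaseTheorems

/-!
Group theoretic helpers for the lemma on outside elements (S5181).
-/

set_option autoImplicit false
set_option linter.style.haveILetI false

open Cfsg
open Cfsg.Agent.FusRankThree
open scoped commutatorElement

namespace Cfsg.Agent.EssMax.LemA

universe u

variable {Q : Type u} [Group Q]

/-- The automorphisms stabilising `⊤ ≥ C ≥ W ≥ ⊥`. -/
def stab (C W : Subgroup Q) (hWC : W ≤ C) : Subgroup (MulAut Q) where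
  carrier := {k | (∀ x ∈ W, k x = x) ∧ (∀ x ∈ C, x⁻¹ * k x ∈ W) ∧ ∀ x, x⁻¹ * k x ∈ C}
  one_mem' := ⟨fun _ _ => rfl, fun x _ => by simp, fun x => by simp⟩
  mul_mem' {a b} ha hb := by
    refine ⟨fun x hx => by rw [MulAut.mul_apply, hb.1 x hx, ha.1 x hx], fun x hx => ?_, fun x => ?_⟩
    · have e : x⁻¹ * (a * b) x = x⁻¹ * a x * a (x⁻¹ * b x) := by
        rw [MulAut.mul_apply, map_mul, map_inv]; group
      rw [e, ha.1 _ (hb.2.1 x hx)]
      exact W.mul_mem (ha.2.1 x hx) (hb.2.1 x hx)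
    · have e : x⁻¹ * (a * b) x = x⁻¹ * a x * a (x⁻¹ * b x) := by
        rw [MulAut.mul_apply, map_mul, map_inv]; group
      have e' : a (x⁻¹ * b x) = (x⁻¹ * b x) * ((x⁻¹ * b x)⁻¹ * a (x⁻¹ * b x)) := by group
      rw [e, e']
      exact C.mul_mem (ha.2.2 x) (C.mul_mem (hb.2.2 x) (ha.2.2 _))
  inv_mem' {a} ha := by
    have hC : ∀ x, x⁻¹ * a⁻¹ x ∈ C := fun x => by
      have h := C.inv_mem (ha.2.2 (a⁻¹ x))
      rw [MulAut.apply_inv_self] at h
      simpa using h
    refine ⟨fun x hx => ?_, fun x hx => ?_, hC⟩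
    · conv_lhs => rw [← ha.1 x hx]
      exact MulAut.inv_apply_self _ _ _
    · have hy : a⁻¹ x ∈ C := by
        have := C.mul_mem hx (hC x)
        rwa [mul_inv_cancel_left] at this
      have h := W.inv_mem (ha.2.1 _ hy)
      rw [MulAut.apply_inv_self] at h
      simpa using h

theorem stab_isPGroup [Finite Q] {p : ℕ} [Fact p.Prime] (hQ : IsPGroup p Q) {C W : Subgroup Q}
    (hWC : W ≤ C) : IsPGroup p (stab C W hWC) := by
  refine FusionAux.isPGroup_of_pow_eq_one _ fun a ha => ?_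
  obtain ⟨e, he⟩ := FusionAux.exists_pow_fix_series hQ
    (fun i => if i = 0 then W else if i = 1 then C else ⊤) (by simpa using ha.1) 2
    (by intro i hi; interval_cases i <;> simp [hWC])
    (by
      intro i hi x hx
      interval_cases i
      · simpa using ha.2.1 x (by simpa using hx)
      · simpa using ha.2.2 x)
    2 le_rfl
  exact ⟨e, MulEquiv.ext fun x => he x (by simp)⟩

theorem card_step [Finite Q] {p : ℕ} [Fact p.Prime] (hQ : IsPGroup p Q) {A B : Subgroup Q}
    (h : A < B) : Nat.card A * p ≤ Nat.card B := by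
  obtain ⟨a, ha⟩ := (hQ.to_subgroup A).exists_card_eq
  obtain ⟨b, hb⟩ := (hQ.to_subgroup B).exists_card_eq
  have hlt : Nat.card A < Nat.card B :=
    lt_of_not_ge fun hge => h.ne (Subgroup.eq_of_le_of_card_ge h.le hge)
  rw [ha, hb] at hlt ⊢
  rw [← pow_succ]
  exact Nat.pow_le_pow_right (Fact.out : p.Prime).pos
    ((Nat.pow_lt_pow_iff_right (Fact.out : p.Prime).one_lt).1 hlt)

theorem normal_of_index [Finite Q] {p : ℕ} [Fact p.Prime] (hQ : IsPGroup p Q) {M : Subgroup Q}
    (hM : M.index = p) : M.Normal := by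
  obtain ⟨n, hn⟩ := hQ.exists_card_eq
  refine Subgroup.normal_of_index_eq_minFac_card ?_
  have hn0 : n ≠ 0 := by
    rintro rfl
    have := M.card_mul_index
    rw [hn, pow_zero] at this
    exact (Fact.out : p.Prime).ne_one (hM ▸ Nat.eq_one_of_mul_eq_one_left this)
  rw [hM, hn, (Fact.out : p.Prime).pow_minFac hn0]

theorem exists_mul_zpow [Finite Q] {p : ℕ} [Fact p.Prime] {M : Subgroup Q} [M.Normal]
    (hM : M.index = p) {g : Q} (hg : g ∉ M) (x : Q) : ∃ m ∈ M, ∃ i : ℤ, m * g ^ i = x := by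
  have hc : Nat.card (Q ⧸ M) = p := by rw [← Subgroup.index_eq_card, hM]
  have hne : QuotientGroup.mk' M g ≠ 1 := fun h => hg ((QuotientGroup.eq_one_iff g).1 h)
  obtain ⟨i, hi⟩ := Subgroup.mem_zpowers_iff.1
    ((zpowers_eq_top_of_prime_card hc hne) ▸ Subgroup.mem_top (QuotientGroup.mk' M x))
  refine ⟨x * (g ^ i)⁻¹, (QuotientGroup.eq_one_iff _).1 ?_, i, inv_mul_cancel_right _ _⟩
  change QuotientGroup.mk' M _ = 1
  rw [map_mul, map_inv, map_zpow, hi, mul_inv_cancel]

theorem sup_zpowers_eq_top [Finite Q] {p : ℕ} [Fact p.Prime] {M : Subgroup Q} [M.Normal]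
    (hM : M.index = p) {g : Q} (hg : g ∉ M) : M ⊔ Subgroup.zpowers g = ⊤ :=
  eq_top_iff.2 fun x _ => by
    obtain ⟨m, hm, i, rfl⟩ := exists_mul_zpow hM hg x
    exact Subgroup.mul_mem_sup hm (zpow_mem (Subgroup.mem_zpowers g) i)

theorem disp_pow {φ : MulAut Q} {g c : Q} (hg : φ g = g * c) (hc : φ c = c) :
    ∀ n : ℕ, (φ ^ n) g = g * c ^ n := by
  intro n
  induction n with
  | zero => simp
  | succ n ih => rw [pow_succ', MulAut.mul_apply, ih, map_mul, map_pow, hg, hc, pow_succ', mul_assoc]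

theorem disp [Finite Q] {p : ℕ} [Fact p.Prime] {D E : Subgroup Q} [D.Normal]
    (hD : D.index = p) {φ : MulAut Q} (hfix : ∀ d ∈ D, φ d = d)
    (hdisp : ∀ x, x⁻¹ * φ x ∈ D) (hφp : φ ^ p = 1) {g : Q} (hgE : g ∈ E) (hgD : g ∉ D) :
    ∃ c, φ g = g * c ∧ c ∈ D ∧ (∀ d ∈ D, c * d = d * c) ∧ c ^ p = 1 ∧
      (c ∈ E → φ ∈ stab E (D ⊓ E) inf_le_right) := by
  set c := g⁻¹ * φ g with hc
  have hg : φ g = g * c := by rw [hc, mul_inv_cancel_left]
  have hcD : c ∈ D := hdisp g
  refine ⟨c, hg, hcD, fun d hd => ?_, ?_, fun hcE => ?_⟩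
  · have h1 := hfix _ (Subgroup.Normal.conj_mem inferInstance d hd g)
    rw [map_mul, map_mul, map_inv, hg, hfix d hd] at h1
    have h2 : c * d * c⁻¹ = d := by
      calc c * d * c⁻¹ = g⁻¹ * (g * c * d * (g * c)⁻¹) * g := by group
        _ = g⁻¹ * (g * d * g⁻¹) * g := by rw [h1]
        _ = d := by group
    exact mul_inv_eq_iff_eq_mul.1 h2
  · have h1 := disp_pow hg (hfix c hcD) p
    rw [hφp, MulAut.one_apply] at h1
    exact mul_left_cancel (a := g) (by rw [← h1, mul_one])
  · have hgc : ∀ i : ℤ, (g * c) ^ i ∈ E := fun i => zpow_mem (E.mul_mem hgE hcE) i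
    have key : ∀ x, ∃ m ∈ D, ∃ i : ℤ, m * g ^ i = x ∧ φ x = m * (g * c) ^ i := fun x => by
      obtain ⟨m, hm, i, rfl⟩ := exists_mul_zpow hD hgD x
      exact ⟨m, hm, i, rfl, by rw [map_mul, map_zpow, hfix m hm, hg]⟩
    refine ⟨fun x hx => hfix x hx.1, fun x hx => ⟨hdisp x, ?_⟩, fun x => ?_⟩
    · obtain ⟨m, hm, i, hxe, hφx⟩ := key x
      have hmE : m ∈ E := by
        have := E.mul_mem hx (E.inv_mem (zpow_mem hgE i))
        rwa [← hxe, mul_inv_cancel_right] at this
      rw [hφx]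
      exact E.mul_mem (E.inv_mem hx) (E.mul_mem hmE (hgc i))
    · obtain ⟨m, hm, i, hxe, hφx⟩ := key x
      rw [hφx, ← hxe]
      have e : (m * g ^ i)⁻¹ * (m * (g * c) ^ i) = (g ^ i)⁻¹ * (g * c) ^ i := by group
      rw [e]
      exact E.mul_mem (E.inv_mem (zpow_mem hgE i)) (hgc i)

/-- Conjugates of the data of `disp`. -/
theorem conj_fix {α φ : MulAut Q} {D : Subgroup Q} (hfix : ∀ d ∈ D, φ d = d)
    (hdisp : ∀ x, x⁻¹ * φ x ∈ D) :
    (∀ e ∈ D.map α.toMonoidHom, (α * φ * α⁻¹) e = e) ∧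
      ∀ x, x⁻¹ * (α * φ * α⁻¹) x ∈ D.map α.toMonoidHom := by
  constructor
  · rintro _ ⟨d, hd, rfl⟩
    simp [hfix d hd]
  · intro x
    refine ⟨(α⁻¹ x)⁻¹ * φ (α⁻¹ x), hdisp _, ?_⟩
    simp

theorem mul_pow_central {u v w : Q} (hw : v * u = u * v * w) (hwu : Commute w u)
    (hwv : Commute w v) : ∀ n : ℕ, (u * v) ^ n = u ^ n * v ^ n * w ^ n.choose 2 := by
  have hvn : ∀ n : ℕ, v ^ n * u = u * v ^ n * w ^ n := by
    intro n
    induction n with
    | zero => simp
    | succ n ih =>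
      calc v ^ (n + 1) * u = v ^ n * (v * u) := by rw [pow_succ, mul_assoc]
        _ = v ^ n * u * v * w := by rw [hw]; group
        _ = u * v ^ n * (w ^ n * v) * w := by rw [ih]; group
        _ = u * v ^ n * (v * w ^ n) * w := by rw [(hwv.pow_left n).eq]
        _ = u * v ^ (n + 1) * w ^ (n + 1) := by rw [pow_succ v, pow_succ w]; group
  intro n
  induction n with
  | zero => simp
  | succ n ih =>
    have hc : (n + 1).choose 2 = n + n.choose 2 := by
      rw [Nat.choose_succ_succ', Nat.choose_one_right]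
    calc (u * v) ^ (n + 1) = u ^ n * v ^ n * (w ^ n.choose 2 * u) * v := by
          rw [pow_succ, ih]; group
      _ = u ^ n * (v ^ n * u) * w ^ n.choose 2 * v := by
          rw [(hwu.pow_left _).eq]; group
      _ = u ^ n * (u * v ^ n * w ^ n) * w ^ n.choose 2 * v := by rw [hvn]
      _ = u ^ (n + 1) * v ^ n * (w ^ (n + 1).choose 2 * v) := by rw [hc, pow_add, pow_succ u]; group
      _ = u ^ (n + 1) * v ^ n * (v * w ^ (n + 1).choose 2) := by rw [(hwv.pow_left _).eq]
      _ = u ^ (n + 1) * v ^ (n + 1) * w ^ (n + 1).choose 2 := by rw [pow_succ v]; group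

/-- In a group generated by elements of order `p` whose commutators are central of order `p`,
`p` odd, every element has order dividing `p`. -/
theorem pow_eq_one_of_gen {p : ℕ} [Fact p.Prime] (hp : p ≠ 2)
    (hcomm : ∀ a b : Q, ⁅a, b⁆ ∈ Subgroup.center Q ∧ ⁅a, b⁆ ^ p = 1) (s : Set Q)
    (hs : ∀ a ∈ s, a ^ p = 1) : ∀ q ∈ Subgroup.closure s, q ^ p = 1 := by
  intro q hq
  induction hq using Subgroup.closure_induction with
  | mem a ha => exact hs a ha
  | one => exact one_pow p
  | inv a _ ha => rw [inv_pow, ha, inv_one]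
  | mul u v _ _ hu hv =>
    obtain ⟨hc, hcp⟩ := hcomm v⁻¹ u⁻¹
    have hw : v * u = u * v * ⁅v⁻¹, u⁻¹⁆ := by rw [commutatorElement_def]; group
    rw [mul_pow_central hw (Subgroup.mem_center_iff.1 hc u).symm
      (Subgroup.mem_center_iff.1 hc v).symm p, hu, hv, one_mul, one_mul]
    have hp3 : 2 < p := lt_of_le_of_ne (Fact.out : p.Prime).two_le (Ne.symm hp)
    obtain ⟨m, hm⟩ := (Fact.out : p.Prime).dvd_choose_self (k := 2) (by omega) hp3
    rw [hm, pow_mul]
    have h1 : ⁅v⁻¹, u⁻¹⁆ ^ p = 1 := hcp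
    rw [h1, one_pow]

/-- A non-abelian group of order `p ^ 3` has sectional rank two. -/
theorem sectional_two_of_card_cube {p : ℕ} [Fact p.Prime] (hQ : Nat.card Q = p ^ 3)
    {a b : Q} (hab : a * b ≠ b * a) : Cfsg.SectionalPRankLE p 2 Q := by
  classical
  have hpp : p.Prime := Fact.out
  haveI : Finite Q := Nat.finite_of_card_ne_zero (by rw [hQ]; exact pow_ne_zero 3 hpp.ne_zero)
  intro H N hN B hBc hBp
  haveI := hN
  by_contra hlt
  push Not at hlt
  obtain ⟨k, hk⟩ := ((((IsPGroup.of_card hQ).to_subgroup H).to_quotient N).to_subgroup B).exists_card_eq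
  have hk3 : p ^ 3 ≤ Nat.card B := by
    rw [hk] at hlt ⊢
    exact Nat.pow_le_pow_right hpp.pos ((Nat.pow_lt_pow_iff_right hpp.one_lt).1 hlt)
  have h1 : Nat.card (↥H ⧸ N) * Nat.card N = Nat.card H :=
    (Subgroup.card_eq_card_quotient_mul_card_subgroup N).symm
  have h2 : Nat.card H ≤ p ^ 3 := hQ ▸ Nat.le_of_dvd Nat.card_pos
    (Subgroup.card_subgroup_dvd_card H)
  have h3 : Nat.card B ≤ Nat.card (↥H ⧸ N) :=
    Nat.le_of_dvd Nat.card_pos (Subgroup.card_subgroup_dvd_card B)
  have hN1 : Nat.card N = 1 := by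
    by_contra hne
    have h4 : 2 ≤ Nat.card N := by have := Nat.card_pos (α := N); omega
    have := Nat.mul_le_mul (hk3.trans h3) h4
    have := pow_pos hpp.pos 3
    omega
  have hH : H = ⊤ := Subgroup.eq_top_of_card_eq H (by
    rw [hQ]; rw [hN1, mul_one] at h1; omega)
  have hNbot : N = ⊥ := Subgroup.eq_bot_of_card_eq N hN1
  have hBtop : B = ⊤ := Subgroup.eq_top_of_card_eq B (by
    rw [hN1, mul_one] at h1; omega)
  set a' : H := ⟨a, hH ▸ Subgroup.mem_top _⟩
  set b' : H := ⟨b, hH ▸ Subgroup.mem_top _⟩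
  have h5 := congrArg Subtype.val (hBc.is_comm.comm
    (⟨QuotientGroup.mk' N a', hBtop ▸ Subgroup.mem_top _⟩ : B)
    ⟨QuotientGroup.mk' N b', hBtop ▸ Subgroup.mem_top _⟩)
  change QuotientGroup.mk' N a' * QuotientGroup.mk' N b' =
    QuotientGroup.mk' N b' * QuotientGroup.mk' N a' at h5
  rw [← map_mul, ← map_mul] at h5
  have h6 := (QuotientGroup.eq (s := N)).1 h5
  rw [hNbot, Subgroup.mem_bot, inv_mul_eq_one] at h6
  exact hab (congrArg Subtype.val h6)

set_option maxHeartbeats 400000 in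
/-- The subgroup of index `p ^ 2` cut out by two such automorphisms is central. -/
theorem inf_le_center [Finite Q] {p : ℕ} [Fact p.Prime] (hp : p ≠ 2) (hQ : IsPGroup p Q)
    (h3 : RankThree p Q) {D E : Subgroup Q} [D.Normal] [E.Normal] (hD : D.index = p)
    (hE : E.index = p) {c c2 : Q} (hcD : c ∈ D) (hcE : c ∉ E) (hc2E : c2 ∈ E) (hc2D : c2 ∉ D)
    (hc : ∀ d ∈ D, c * d = d * c) (hc2 : ∀ e ∈ E, c2 * e = e * c2) (hcp : c ^ p = 1)
    (hc2p : c2 ^ p = 1) :
    D ⊓ E ≤ Subgroup.center Q ∧ ⁅c2, c⁆ ∈ Subgroup.center Q ∧ ⁅c2, c⁆ ∈ D ⊓ E ∧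
      ⁅c2, c⁆ ^ p = 1 := by
  classical
  have hpp : p.Prime := Fact.out
  set R := D ⊓ E with hR
  set z := ⁅c2, c⁆ with hz
  have hzR : z ∈ R := by
    refine ⟨?_, ?_⟩
    · rw [hz, commutatorElement_def]
      exact D.mul_mem (Subgroup.Normal.conj_mem inferInstance c hcD c2) (D.inv_mem hcD)
    · rw [hz, commutatorElement_def, mul_assoc, mul_assoc, ← mul_assoc c]
      exact E.mul_mem hc2E (Subgroup.Normal.conj_mem inferInstance _ (E.inv_mem hc2E) c)
  have hRc : ∀ r ∈ R, Commute r c ∧ Commute r c2 := fun r hr =>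
    ⟨(show Commute c r from hc r hr.1).symm, (show Commute c2 r from hc2 r hr.2).symm⟩
  have hgen : R ⊔ Subgroup.zpowers c ⊔ Subgroup.zpowers c2 = ⊤ := by
    refine eq_top_iff.2 ((sup_zpowers_eq_top hD hc2D).ge.trans (sup_le_sup_right ?_ _))
    intro d hd
    obtain ⟨m, hm, i, rfl⟩ := exists_mul_zpow hE hcE d
    refine Subgroup.mul_mem_sup ⟨?_, hm⟩ (zpow_mem (Subgroup.mem_zpowers c) i)
    have := D.mul_mem hd (D.inv_mem (zpow_mem hcD i))
    rwa [mul_inv_cancel_right] at this
  have hzall : ∀ r ∈ R, Commute r z := fun r hr => by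
    obtain ⟨h1, h2⟩ := hRc r hr
    rw [hz, commutatorElement_def]
    exact ((h2.mul_right h1).mul_right h2.inv_right).mul_right h1.inv_right
  have hzc : z ∈ Subgroup.center Q := by
    refine Subgroup.mem_center_iff.2 fun g => ?_
    have hle : R ⊔ Subgroup.zpowers c ⊔ Subgroup.zpowers c2 ≤ Subgroup.centralizer {z} := by
      refine sup_le (sup_le (fun r hr => ?_) (Subgroup.zpowers_le.2 ?_)) (Subgroup.zpowers_le.2 ?_)
      · exact Subgroup.mem_centralizer_singleton_iff.2 (hzall r hr).eq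
      · exact Subgroup.mem_centralizer_singleton_iff.2 (hRc z hzR).1.eq.symm
      · exact Subgroup.mem_centralizer_singleton_iff.2 (hRc z hzR).2.eq.symm
    exact Subgroup.mem_centralizer_singleton_iff.1 (hle (hgen ▸ Subgroup.mem_top g))
  have hzp : z ^ p = 1 := by
    have h1 : c2 * c * c2⁻¹ = z * c := by rw [hz, commutatorElement_def]; group
    have h2 : (c2 * c * c2⁻¹) ^ p = 1 := by rw [conj_pow, hcp, mul_one, mul_inv_cancel]
    rw [h1, (show Commute z c from (hRc z hzR).1).mul_pow, hcp, mul_one] at h2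
    exact h2
  -- the elementary quotient
  set Φ := (frattini R).map R.subtype with hΦ
  set K := Φ ⊔ Subgroup.zpowers z with hK
  have hKR : K ≤ R := sup_le (Subgroup.map_subtype_le _) (Subgroup.zpowers_le.2 hzR)
  haveI hKn : K.Normal := by
    rw [← Subgroup.normalizer_eq_top_iff, eq_top_iff, ← hgen]
    have hfix : ∀ g, (∀ r ∈ R, Commute r g) → g ∈ Subgroup.normalizer (K : Set Q) := fun g hg => by
      refine Subgroup.mem_normalizer_fintype (S := (K : Set Q)) fun k hk => ?_
      rw [(show Commute g k from (hg k (hKR hk)).symm).eq, mul_inv_cancel_right]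
      exact hk
    refine sup_le (sup_le (fun r hr => ?_) (Subgroup.zpowers_le.2 (hfix c fun r hr => (hRc r hr).1)))
      (Subgroup.zpowers_le.2 (hfix c2 fun r hr => (hRc r hr).2))
    refine Subgroup.mem_normalizer_fintype (S := (K : Set Q)) fun k hk => ?_
    have hle : K ≤ K.comap (MulAut.conj r).toMonoidHom := by
      refine sup_le ?_ (Subgroup.zpowers_le.2 ?_)
      · rintro _ ⟨w, hw, rfl⟩
        refine Subgroup.mem_sup_left ⟨⟨r, hr⟩ * w * ⟨r, hr⟩⁻¹,
          Subgroup.Normal.conj_mem inferInstance w hw _, ?_⟩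
        simp
      · rw [Subgroup.mem_comap]
        show r * z * r⁻¹ ∈ K
        rw [(hzall r hr).eq, mul_inv_cancel_right]
        exact Subgroup.mem_sup_right (Subgroup.mem_zpowers z)
    exact hle hk
  set π := QuotientGroup.mk' K with hπ
  have hπK : ∀ k ∈ K, π k = 1 := fun k hk => (QuotientGroup.eq_one_iff k).2 hk
  have hπR : ∀ a ∈ R, ∀ b ∈ R, π a * π b = π b * π a := by
    intro a ha b hb
    rw [← commutatorElement_eq_one_iff_mul_comm, ← map_commutatorElement]
    exact hπK _ (Subgroup.mem_sup_left ⟨⁅⟨a, ha⟩, ⟨b, hb⟩⁆,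
      PGroup.commutatorElement_mem_frattini (hQ.to_subgroup R) _ _,
      map_commutatorElement R.subtype _ _⟩)
  have hπc : π c * π c2 = π c2 * π c := by
    symm
    rw [← commutatorElement_eq_one_iff_mul_comm, ← map_commutatorElement]
    exact hπK _ (Subgroup.mem_sup_right (Subgroup.mem_zpowers z))
  have hcomm : ∀ a b : Q, π a * π b = π b * π a := by
    intro a b
    refine commute_of_gen π ⊤ ((R : Set Q) ∪ {c, c2}) ⊥ ?_
      (fun m hm => by rw [Subgroup.mem_bot.1 hm, map_one]; exact one_mem _) ?_ a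
      (Subgroup.mem_top a) b (Subgroup.mem_top b)
    · rw [← hgen]
      refine le_trans (sup_le (sup_le ?_ ?_) ?_) le_sup_left
      · exact fun r hr => Subgroup.subset_closure (Or.inl hr)
      · exact Subgroup.zpowers_le.2 (Subgroup.subset_closure (by simp))
      · exact Subgroup.zpowers_le.2 (Subgroup.subset_closure (by simp))
    · rintro a (ha | rfl | rfl) b (hb | rfl | rfl)
      · exact hπR a ha b hb
      · rw [← map_mul, ← map_mul, (hRc a ha).1.eq]
      · rw [← map_mul, ← map_mul, (hRc a ha).2.eq]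
      · rw [← map_mul, ← map_mul, (hRc b hb).1.eq]
      · rfl
      · exact hπc
      · rw [← map_mul, ← map_mul, (hRc b hb).2.eq]
      · exact hπc.symm
      · rfl
  have hpow : ∀ a : Q, π a ^ p = 1 := by
    have hle : (⊤ : Subgroup Q) ≤ Subgroup.comap π
        ({ carrier := {q | q ^ p = 1 ∧ ∀ g, g * q = q * g}
           one_mem' := ⟨one_pow p, fun g => by simp⟩
           mul_mem' := fun {a b} ha hb => ⟨by
             rw [(show Commute a b from hb.2 a).mul_pow, ha.1, hb.1, one_mul],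
             fun g => ((show Commute g a from ha.2 g).mul_right (hb.2 g)).eq⟩
           inv_mem' := fun {a} ha => ⟨by rw [inv_pow, ha.1, inv_one],
             fun g => (show Commute g a from ha.2 g).inv_right.eq⟩ } : Subgroup (Q ⧸ K)) := by
      have hall : ∀ q : Q, ∀ g : Q ⧸ K, g * π q = π q * g := fun q g => by
        obtain ⟨g, rfl⟩ := QuotientGroup.mk'_surjective K g
        exact hcomm g q
      rw [← hgen]
      refine sup_le (sup_le (fun r hr => ⟨?_, hall r⟩) (Subgroup.zpowers_le.2 ⟨?_, hall c⟩))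
        (Subgroup.zpowers_le.2 ⟨?_, hall c2⟩)
      · rw [← map_pow]
        exact hπK _ (Subgroup.mem_sup_left ⟨⟨r, hr⟩ ^ p,
          PGroup.pow_mem_frattini (hQ.to_subgroup R) _, rfl⟩)
      · rw [← map_pow, hcp, map_one]
      · rw [← map_pow, hc2p, map_one]
    exact fun a => (hle (Subgroup.mem_top a)).1
  have hsec : K.relIndex ⊤ ≤ p ^ 3 := by
    refine h3 ⊤ K le_top (fun a _ => (QuotientGroup.eq_one_iff _).1 ?_) fun a _ b _ => ?_
    · change π (a ^ p) = 1
      rw [map_pow, hpow]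
    · refine (QuotientGroup.eq_one_iff _).1 ?_
      change π (a * b * a⁻¹ * b⁻¹) = 1
      rw [← commutatorElement_def, map_commutatorElement, commutatorElement_eq_one_iff_mul_comm]
      exact hcomm a b
  -- `R` is generated by `z` and one more element
  have hRK : K.relIndex R ≤ p := by
    rw [Subgroup.relIndex_top_right] at hsec
    have hRidx : R.index = p ^ 2 := by
      rw [hR, ← Subgroup.relIndex_mul_index (inf_le_left : D ⊓ E ≤ D), hD,
        Subgroup.inf_relIndex_left, sq]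
      congr 1
      rcases (Nat.dvd_prime hpp).1 (hE ▸ Subgroup.relIndex_dvd_index_of_normal E D) with h | h
      · exact absurd ((Subgroup.relIndex_eq_one.1 h) hcD) hcE
      · exact h
    rw [← Subgroup.relIndex_mul_index hKR, hRidx, pow_succ' p 2] at hsec
    exact Nat.le_of_mul_le_mul_right hsec (pow_pos hpp.pos 2)
  have hRcomm : ∀ a ∈ R, ∀ b ∈ R, Commute a b := by
    haveI : (K.subgroupOf R).Normal := hKn.subgroupOf R
    obtain ⟨r, hr⟩ : ∃ r : R, K.subgroupOf R ⊔ Subgroup.zpowers r = ⊤ := by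
      by_cases hall : ∀ r : R, r ∈ K.subgroupOf R
      · exact ⟨1, eq_top_iff.2 fun r _ => Subgroup.mem_sup_left (hall r)⟩
      · push Not at hall
        obtain ⟨r, hr⟩ := hall
        have hidx : (K.subgroupOf R).index = p := by
          refine le_antisymm hRK ?_
          obtain ⟨j, hj⟩ := (hQ.to_subgroup R).index (K.subgroupOf R)
          rw [hj]
          refine Nat.le_self_pow (fun h0 => hr ?_) p
          rw [h0, pow_zero] at hj
          rw [Subgroup.index_eq_one.1 hj]
          exact Subgroup.mem_top r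
        exact ⟨r, sup_zpowers_eq_top hidx hr⟩
    set T : Subgroup R := Subgroup.closure {r, ⟨z, hzR⟩} with hT
    have hT' : T = ⊤ := by
      refine PGroup.eq_top_of_sup_frattini (eq_top_iff.2 ?_)
      rw [← hr]
      refine sup_le ?_ ((Subgroup.zpowers_le.2 (Subgroup.subset_closure (by simp))).trans le_sup_left)
      intro k hk
      have hk' : (k : Q) ∈ (frattini R ⊔ Subgroup.zpowers (⟨z, hzR⟩ : R)).map R.subtype := by
        rw [Subgroup.map_sup, MonoidHom.map_zpowers]
        exact hk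
      obtain ⟨k', hk'', hkk⟩ := hk'
      rw [R.subtype_injective hkk] at hk''
      exact (sup_le le_sup_right ((Subgroup.zpowers_le.2
        (Subgroup.subset_closure (by simp))).trans le_sup_left) : _ ≤ T ⊔ frattini R) hk''
    intro a ha b hb
    have hab : ∀ u ∈ T, ∀ v ∈ T, u * v = v * u := by
      intro u hu v hv
      have hs : ∀ w ∈ ({r, ⟨z, hzR⟩} : Set R), T ≤ Subgroup.centralizer {w} := by
        intro w hw
        rw [hT, Subgroup.closure_le]
        intro w' hw'
        refine Subgroup.mem_centralizer_singleton_iff.2 (Subtype.ext ?_)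
        rcases hw with rfl | rfl <;> rcases hw' with rfl | rfl
        · rfl
        · exact (hzall _ w.2).eq.symm
        · exact (hzall _ w'.2).eq
        · rfl
      have hle2 : T ≤ Subgroup.centralizer {v} := by
        rw [hT, Subgroup.closure_le]
        intro w hw
        exact Subgroup.mem_centralizer_singleton_iff.2
          (Subgroup.mem_centralizer_singleton_iff.1 (hs w hw hv)).symm
      exact Subgroup.mem_centralizer_singleton_iff.1 (hle2 hu)
    exact congrArg Subtype.val (hab ⟨a, ha⟩ (hT' ▸ Subgroup.mem_top _) ⟨b, hb⟩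
      (hT' ▸ Subgroup.mem_top _))
  refine ⟨fun r hr => Subgroup.mem_center_iff.2 fun g => ?_, hzc, hzR, hzp⟩
  have hle : R ⊔ Subgroup.zpowers c ⊔ Subgroup.zpowers c2 ≤ Subgroup.centralizer {r} := by
    refine sup_le (sup_le (fun a ha => ?_) (Subgroup.zpowers_le.2 ?_)) (Subgroup.zpowers_le.2 ?_)
    · exact Subgroup.mem_centralizer_singleton_iff.2 (hRcomm a ha r hr).eq
    · exact Subgroup.mem_centralizer_singleton_iff.2 (hRc r hr).1.eq.symm
    · exact Subgroup.mem_centralizer_singleton_iff.2 (hRc r hr).2.eq.symm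
  exact Subgroup.mem_centralizer_singleton_iff.1 (hle (hgen ▸ Subgroup.mem_top g))

end Cfsg.Agent.EssMax.LemA
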