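import Cfsg.Agent.EssMax.Base
import Cfsg.Agent.EssMax.LemAAux
import Cfsg.Agent.H59.SpFourSylow

/-!
An outside element centralising a subgroup of index p of an essential subgroup (S5181).
-/

set_option autoImplicit false
set_option linter.style.haveILetI false

open Cfsg Cfsg.FusionSystem Cfsg.Agent.FusionSys Cfsg.Agent.FusRankThree
open scoped commutatorElement

namespace Cfsg.Agent.EssMax

universe u

namespace LemA

variable {Q : Type u} [Group Q]

theorem mem_zpowers_of_zpow {p : ℕ} [Fact p.Prime] {g : Q} (hg : g ^ p = 1) {i : ℤ}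
    (hi : g ^ i ≠ 1) : g ∈ Subgroup.zpowers (g ^ i) := by
  have hg1 : g ≠ 1 := fun h => hi (by rw [h, one_zpow])
  haveI : Finite (Subgroup.zpowers g) := Nat.finite_of_card_ne_zero (by
    rw [Nat.card_zpowers, orderOf_eq_prime hg hg1]; exact (Fact.out : p.Prime).ne_zero)
  have hc : Nat.card (Subgroup.zpowers g) = p := by
    rw [Nat.card_zpowers, orderOf_eq_prime hg hg1]
  have h := zpowers_eq_top_of_prime_card hc
    (g := (⟨g ^ i, zpow_mem (Subgroup.mem_zpowers g) i⟩ : Subgroup.zpowers g))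
    (fun h => hi (congrArg Subtype.val h))
  obtain ⟨k, hk⟩ := Subgroup.mem_zpowers_iff.1
    (h ▸ Subgroup.mem_top (⟨g, Subgroup.mem_zpowers g⟩ : Subgroup.zpowers g))
  exact Subgroup.mem_zpowers_iff.2 ⟨k, by simpa using congrArg Subtype.val hk⟩

theorem elem_closure {p : ℕ} {s : Set Q} (hcomm : ∀ a ∈ s, ∀ b ∈ s, a * b = b * a)
    (hpow : ∀ a ∈ s, a ^ p = 1) :
    (∀ a ∈ Subgroup.closure s, ∀ b ∈ Subgroup.closure s, a * b = b * a) ∧
      ∀ a ∈ Subgroup.closure s, a ^ p = 1 := by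
  have h1 : ∀ a ∈ Subgroup.closure s, ∀ b ∈ Subgroup.closure s, a * b = b * a := by
    have hs : ∀ w ∈ s, Subgroup.closure s ≤ Subgroup.centralizer {w} := fun w hw => by
      rw [Subgroup.closure_le]
      exact fun w' hw' => Subgroup.mem_centralizer_singleton_iff.2 (hcomm w' hw' w hw)
    intro a ha b hb
    have hle : Subgroup.closure s ≤ Subgroup.centralizer {b} := by
      rw [Subgroup.closure_le]
      exact fun w hw => Subgroup.mem_centralizer_singleton_iff.2
        (Subgroup.mem_centralizer_singleton_iff.1 (hs w hw hb)).symm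
    exact Subgroup.mem_centralizer_singleton_iff.1 (hle ha)
  refine ⟨h1, fun a ha => ?_⟩
  induction ha using Subgroup.closure_induction with
  | mem w hw => exact hpow w hw
  | one => exact one_pow p
  | inv w _ hw => rw [inv_pow, hw, inv_one]
  | mul u v hu hv iu iv => rw [(show Commute u v from h1 u hu v hv).mul_pow, iu, iv, one_mul]

end LemA

variable {Ω : Type u} [Group Ω] {S : Subgroup Ω} {p : ℕ} [Fact p.Prime] [Finite S]
  {F : FusionSystem S}

open LemA in
set_option maxHeartbeats 1600000 in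
/-- Either `S` is the Sylow subgroup of `Sp(4,p)`, or `|Ω₁Z(S)| ≠ p` and all commutators of `S` lie
in one central subgroup of order `p`. -/
theorem lemA (h : Ctx p F) {G D : Subgroup Ω} (hG : F.IsEssential p G) {y : Ω} (hy : y ∈ S)
    (hyG : y ∉ G) (hyp : y ^ p = 1) (hDG : D ≤ G) (hD : D.relIndex G = p)
    (hDy : ∀ d ∈ D, y * d = d * y) :
    SympSylow S p ∨ (Nat.card (zS S p) ≠ p ∧
      ∃ c ∈ zS S p, ∀ a ∈ S, ∀ b ∈ S, a * b * a⁻¹ * b⁻¹ ∈ Subgroup.zpowers c) := by
  classical
  have hpp : p.Prime := Fact.out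
  have hp2 : p ≠ 2 := by rintro rfl; exact absurd h.odd (by decide)
  have hGS : G ≤ S := hG.1.1
  have hDS : D ≤ S := hDG.trans hGS
  haveI : Finite G := finite_of_le ‹_› hGS
  haveI : Finite (MulAut G) := Finite.of_injective (fun a : MulAut G => (a : G → G))
    fun a b hab => MulEquiv.ext (congrFun hab)
  have hGp : IsPGroup p G := h.pgrp.to_le hGS
  have h3G : RankThree p G :=
    rankThree_of_injective h.rank (Subgroup.inclusion hGS) (Subgroup.inclusion_injective hGS)
  -- inside `S`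
  set GN := G.subgroupOf S with hGN
  have hGNidx : GN.index = p := relIndex_eq h hG
  haveI hGNn : GN.Normal := normal_of_index h.pgrp hGNidx
  set yN : S := ⟨y, hy⟩
  have hyGN : yN ∉ GN := hyG
  have hSdec : ∀ s : S, ∃ g ∈ GN, ∃ i : ℤ, g * yN ^ i = s := fun s =>
    exists_mul_zpow hGNidx hyGN s
  have hyn : y ∈ Subgroup.normalizer (G : Set Ω) := h.normal G hG hy
  -- conjugation by `y`
  obtain ⟨φ, hφP, hφA, hφ⟩ := exists_conj h hG hy
  set D0 := D.subgroupOf G with hD0
  have hD0idx : D0.index = p := hD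
  haveI hD0n : D0.Normal := normal_of_index hGp hD0idx
  have hfix : ∀ d ∈ D0, φ d = d := fun d hd => Subtype.ext (by
    rw [hφ, hDy (d : Ω) hd, mul_inv_cancel_right])
  have hφn : ∀ (n : ℕ) (x : G), (((φ ^ n) x : G) : Ω) = y ^ n * x * (y ^ n)⁻¹ := by
    intro n
    induction n with
    | zero => intro x; simp
    | succ n ih => intro x; rw [pow_succ', MulAut.mul_apply, hφ, ih, pow_succ']; group
  have hφp : φ ^ p = 1 := MulEquiv.ext fun x => Subtype.ext (by rw [hφn, hyp]; simp)
  have hdisp : ∀ x, x⁻¹ * φ x ∈ D0 := by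
    set DN := D.subgroupOf S with hDN
    have hDyn : ∀ d ∈ D, y * d * y⁻¹ = d := fun d hd => by
      rw [hDy d hd, mul_inv_cancel_right]
    haveI hDNn : DN.Normal := by
      refine ⟨fun d hd s => ?_⟩
      obtain ⟨g, hg, i, rfl⟩ := hSdec s
      have hy' : (yN ^ i) * d * (yN ^ i)⁻¹ = d := by
        have hc : Commute yN d := Subtype.ext (hDy d hd)
        rw [(hc.zpow_left i).eq, mul_inv_cancel_right]
      rw [show g * yN ^ i * d * (g * yN ^ i)⁻¹ = g * (yN ^ i * d * (yN ^ i)⁻¹) * g⁻¹ by group, hy']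
      exact hD0n.conj_mem ⟨(d : Ω), hDG hd⟩ hd ⟨(g : Ω), hg⟩
    set π := QuotientGroup.mk' DN
    have hDGN : DN ≤ GN := fun d hd => hDG hd
    have hcard : Nat.card (GN.map π) = p := by
      rw [← Subgroup.relIndex_ker, QuotientGroup.ker_mk', hGN, hDN, Subgroup.relIndex_subgroupOf hGS]
      exact hD
    haveI : (GN.map π).Normal := Subgroup.Normal.map hGNn _ (QuotientGroup.mk'_surjective _)
    have hcen := PGroup.le_center_of_card_eq (h.pgrp.to_quotient DN) hcard
    intro x
    have hx : (⟨(x : Ω), hGS x.2⟩ : S) ∈ GN := x.2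
    have h1 := Subgroup.mem_center_iff.1 (hcen (Subgroup.mem_map_of_mem π hx)) (π yN)
    have h2 : π (⟨(x : Ω), hGS x.2⟩⁻¹ * (yN * ⟨(x : Ω), hGS x.2⟩ * yN⁻¹)) = 1 := by
      rw [map_mul, map_mul, map_mul, map_inv, map_inv, h1, mul_inv_cancel_right, inv_mul_cancel]
    show (((x⁻¹ * φ x : G) : G) : Ω) ∈ D
    rw [Subgroup.coe_mul, Subgroup.coe_inv, hφ]
    have h3 : (⟨(x : Ω), hGS x.2⟩⁻¹ * (yN * ⟨(x : Ω), hGS x.2⟩ * yN⁻¹) : S) ∈ DN :=
      (QuotientGroup.eq_one_iff _).1 h2
    exact h3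
  -- `Aut_S(G)` is generated by `φ` and the inner automorphisms
  have hinn : ∀ z : G, MulAut.conj z ∈ Inn G := fun z => ⟨z, rfl⟩
  have hPle : ∀ M : Subgroup (MulAut G), Inn G ≤ M → φ ∈ M → autInducedBy S G ≤ M := by
    intro M hI hφM γ hγ
    obtain ⟨s, hs, hse⟩ := mem_autInducedBy.1 hγ
    obtain ⟨g, hg, i, hgi⟩ := hSdec ⟨s, hs⟩
    set gN : Subgroup.normalizer (G : Set Ω) := ⟨(g : Ω), Subgroup.le_normalizer hg⟩
    set yN' : Subgroup.normalizer (G : Set Ω) := ⟨y, hyn⟩
    have e1 : G.normalizerMonoidHom gN = MulAut.conj ⟨(g : Ω), hg⟩ :=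
      MulEquiv.ext fun x => Subtype.ext rfl
    have e2 : G.normalizerMonoidHom yN' = φ :=
      MulEquiv.ext fun x => Subtype.ext (hφ x).symm
    have e3 : γ = G.normalizerMonoidHom (gN * yN' ^ i) := MulEquiv.ext fun x => Subtype.ext (by
      rw [hse x, normalizerMonoidHom_coe]
      have : ((gN * yN' ^ i : Subgroup.normalizer (G : Set Ω)) : Ω) = s := by
        have := congrArg Subtype.val hgi
        simpa [gN, yN', yN] using this
      rw [this])
    rw [e3, map_mul, map_zpow, e1, e2]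
    exact M.mul_mem (hI (hinn _)) (M.zpow_mem hφM i)
  obtain ⟨α, hα, γ, hγ, hγP⟩ := exists_not_normalising h hG
  haveI hInn : (Inn G).Normal := ⟨by
    rintro n ⟨z, rfl⟩ a
    exact ⟨a z, MulEquiv.ext fun x => by simp⟩⟩
  set ψ := α * φ * α⁻¹ with hψ
  have hψP : ψ ∉ autInducedBy S G := fun hmem =>
    hγP (hPle ((autInducedBy S G).comap (MulAut.conj α).toMonoidHom)
      (fun n hn => inn_le_autInducedBy hGS (hInn.conj_mem n hn α)) hmem hγ)
  have hψA : ψ ∈ F.autGroup G := mul_mem (mul_mem hα hφA) (inv_mem hα)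
  have bad : ∀ (C W : Subgroup G) (hWC : W ≤ C), φ ∈ stab C W hWC → ψ ∈ stab C W hWC → False := by
    intro C W hWC h1 h2
    set K := (stab C W hWC ⊓ F.autGroup G) ⊔ Inn G with hK
    have hKp : IsPGroup p K :=
      ((stab_isPGroup hGp hWC).to_le inf_le_left).to_sup_of_normal_right
        (hGp.of_surjective (MulAut.conj (G := G)).rangeRestrict
          (MulAut.conj (G := G)).rangeRestrict_surjective)
    have hKA : K ≤ F.autGroup G := sup_le inf_le_right (inn_le_autGroup F hGS)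
    have hPK : autInducedBy S G ≤ K :=
      hPle K le_sup_right (Subgroup.mem_sup_left ⟨h1, hφA⟩)
    exact hψP (eq_autInduced_of_pgroup h hG hKA hKp hPK ▸ Subgroup.mem_sup_left ⟨h2, hψA⟩)
  obtain ⟨hψfix, hψdisp⟩ := conj_fix (α := α) hfix hdisp
  set E0 := D0.map α.toMonoidHom with hE0
  have hE0idx : E0.index = p := (Subgroup.index_map_equiv D0 α).trans hD0idx
  haveI hE0n : E0.Normal := normal_of_index hGp hE0idx
  have hψp : ψ ^ p = 1 := by rw [hψ, conj_pow, hφp, mul_one, mul_inv_cancel]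
  obtain ⟨g0, hg0E, hg0D⟩ : ∃ g ∈ E0, g ∉ D0 := by
    refine SetLike.not_le_iff_exists.1 fun hle => ?_
    have heq : E0 = D0 := Subgroup.eq_of_le_of_card_ge hle (by
      rw [hE0, Subgroup.card_map_of_injective (α : G ≃* G).injective])
    refine bad D0 D0 le_rfl ⟨hfix, fun x hx => ?_, hdisp⟩
      ⟨fun x hx => hψfix x (heq.symm ▸ hx), fun x hx => ?_, fun x => heq ▸ hψdisp x⟩
    · rw [hfix x hx, inv_mul_cancel]; exact one_mem _
    · rw [hψfix x (heq.symm ▸ hx), inv_mul_cancel]; exact one_mem _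
  obtain ⟨c0, -, hc0D, -, -, hc0st⟩ := disp hD0idx hfix hdisp hφp hg0E hg0D
  have hc0E : c0 ∉ E0 := fun hmem => bad E0 (D0 ⊓ E0) inf_le_right (hc0st hmem)
    ⟨fun x hx => hψfix x (Subgroup.mem_inf.1 hx).2, fun x hx => by
      rw [hψfix x hx, inv_mul_cancel]; exact one_mem _, hψdisp⟩
  obtain ⟨c2, -, hc2E, hc2cen, hc2p, hc2st⟩ := disp hE0idx hψfix hψdisp hψp hc0D hc0E
  have hc2D : c2 ∉ D0 := fun hmem => bad D0 (E0 ⊓ D0) inf_le_right
    ⟨fun x hx => hfix x hx.2, fun x hx => by
      rw [hfix x hx, inv_mul_cancel]; exact one_mem _, hdisp⟩ (hc2st hmem)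
  obtain ⟨c, hφc2, hcD, hccen, hcp, hcst⟩ := disp hD0idx hfix hdisp hφp hc2E hc2D
  have hcE : c ∉ E0 := fun hmem => bad E0 (D0 ⊓ E0) inf_le_right (hcst hmem)
    ⟨fun x hx => hψfix x hx.2, fun x hx => by
      rw [hψfix x hx, inv_mul_cancel]; exact one_mem _, hψdisp⟩
  obtain ⟨hRcen, hzcen, hzR, hzp⟩ := inf_le_center hp2 hGp h3G hD0idx hE0idx hcD hcE hc2E hc2D
    hccen hc2cen hcp hc2p
  set R := D0 ⊓ E0 with hR
  set z := ⁅c2, c⁆ with hz
  have hc1 : c ≠ 1 := fun e => hcE (e ▸ one_mem _)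
  have hφc : φ c = c := hfix c hcD
  -- decomposition
  have hdec : ∀ q : G, ∃ r ∈ R, ∃ i j : ℤ, r * c ^ i * c2 ^ j = q := by
    intro q
    obtain ⟨m, hm, j, rfl⟩ := exists_mul_zpow hD0idx hc2D q
    obtain ⟨r, hr, i, rfl⟩ := exists_mul_zpow hE0idx hcE m
    refine ⟨r, ⟨?_, hr⟩, i, j, rfl⟩
    have := D0.mul_mem hm (D0.inv_mem (zpow_mem hcD i))
    rwa [mul_inv_cancel_right] at this
  have hφq : ∀ (r : G) (i j : ℤ), r ∈ R →
      φ (r * c ^ i * c2 ^ j) = r * c ^ i * (c2 * c) ^ j := fun r i j hr => by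
    rw [map_mul, map_mul, map_zpow, map_zpow, hfix r hr.1, hφc, hφc2]
  -- transport to `S`
  set ι : G →* S := Subgroup.inclusion hGS with hι
  have hιinj : Function.Injective ι := Subgroup.inclusion_injective hGS
  have hιGN : ∀ q, ι q ∈ GN := fun q => q.2
  have hι_of : ∀ g ∈ GN, ∃ q, ι q = g := fun g hg => ⟨⟨(g : Ω), hg⟩, Subtype.ext rfl⟩
  have hconj : ∀ q : G, yN * ι q * yN⁻¹ = ι (φ q) := fun q => Subtype.ext (hφ q).symm
  have hycomm : ∀ q : G, φ q = q → Commute yN (ι q) := fun q hq =>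
    mul_inv_eq_iff_eq_mul.1 (by rw [hconj, hq])
  have htopS : GN ⊔ Subgroup.zpowers yN = ⊤ := sup_zpowers_eq_top hGNidx hyGN
  have hcenS : ∀ q : G, q ∈ Subgroup.center G → φ q = q → ι q ∈ Subgroup.center S := by
    intro q hq hφq
    refine Subgroup.mem_center_iff.2 fun s => ?_
    have hle : GN ⊔ Subgroup.zpowers yN ≤ Subgroup.centralizer {ι q} := by
      refine sup_le (fun g hg => ?_) (Subgroup.zpowers_le.2 ?_)
      · obtain ⟨g, rfl⟩ := hι_of g hg
        refine Subgroup.mem_centralizer_singleton_iff.2 ?_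
        rw [← map_mul, ← map_mul, Subgroup.mem_center_iff.1 hq g]
      · exact Subgroup.mem_centralizer_singleton_iff.2 (hycomm q hφq).eq
    exact Subgroup.mem_centralizer_singleton_iff.1 (hle (htopS ▸ Subgroup.mem_top s))
  have hzS : ∀ q : G, q ∈ Subgroup.center G → φ q = q → q ^ p = 1 → (q : Ω) ∈ zS S p :=
    fun q hq hφq hqp => ⟨hGS q.2, by simpa using congrArg Subtype.val hqp, fun s hs => by
      simpa [hι] using congrArg Subtype.val (Subgroup.mem_center_iff.1 (hcenS q hq hφq) ⟨s, hs⟩)⟩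
  have hRidx : R.index = p ^ 2 := by
    rw [hR, ← Subgroup.relIndex_mul_index (inf_le_left : D0 ⊓ E0 ≤ D0), hD0idx,
      Subgroup.inf_relIndex_left, sq]
    congr 1
    rcases (Nat.dvd_prime hpp).1 (hE0idx ▸ Subgroup.relIndex_dvd_index_of_normal E0 D0) with h1 | h1
    · exact absurd ((Subgroup.relIndex_eq_one.1 h1) hcD) hcE
    · exact h1
  have hScard : Nat.card S = p * Nat.card G := by
    rw [← Subgroup.card_mul_index GN, hGNidx, mul_comm,
      Nat.card_congr (Subgroup.subgroupOfEquivOfLe hGS).toEquiv]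
  by_cases hz1 : z = 1
  · -- abelian
    right
    have hcc2 : Commute c2 c := commutatorElement_eq_one_iff_mul_comm.1 hz1
    have hcQ : c ∈ Subgroup.center G := Subgroup.mem_center_iff.2 fun q => by
      obtain ⟨r, hr, i, j, rfl⟩ := hdec q
      exact (((show Commute r c from (hccen r hr.1).symm).mul_left
        ((Commute.refl c).zpow_left i)).mul_left (hcc2.zpow_left j)).eq
    have hc2Q : c2 ∈ Subgroup.center G := Subgroup.mem_center_iff.2 fun q => by
      obtain ⟨r, hr, i, j, rfl⟩ := hdec q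
      exact (((show Commute r c2 from (hc2cen r hr.2).symm).mul_left
        (hcc2.symm.zpow_left i)).mul_left ((Commute.refl c2).zpow_left j)).eq
    have hab : ∀ a b : G, a * b = b * a := fun a b => by
      obtain ⟨r, hr, i, j, rfl⟩ := hdec b
      exact Subgroup.mem_center_iff.1 (mul_mem (mul_mem (hRcen hr) (zpow_mem hcQ i))
        (zpow_mem hc2Q j)) a
    have hczS : (c : Ω) ∈ zS S p := hzS c hcQ hφc hcp
    have hcN : ι c ∈ Subgroup.center S := hcenS c hcQ hφc
    refine ⟨fun hcard => ?_, (c : Ω), hczS, fun a ha b hb => ?_⟩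
    · have hzle : Subgroup.zpowers (c : Ω) = zS S p := by
        haveI : Finite (zS S p) := Nat.finite_of_card_ne_zero (by rw [hcard]; exact hpp.ne_zero)
        refine Subgroup.eq_of_le_of_card_ge (Subgroup.zpowers_le.2 hczS) ?_
        rw [hcard, Nat.card_zpowers, Subgroup.orderOf_coe, orderOf_eq_prime hcp hc1]
      rcases ((hGp.to_subgroup R).card_eq_or_dvd) with h1 | h1
      · have hG2 : Nat.card G = p ^ 2 := by
          rw [← Subgroup.card_mul_index R, h1, hRidx, one_mul]
        refine h.not2 (sectional_two_of_card_cube (p := p) (a := yN) (b := ι c2)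
          (by rw [hScard, hG2, pow_succ' p 2]) fun hcm => hc1 ?_)
        have h2 := hconj c2
        rw [hcm, mul_inv_cancel_right, hφc2] at h2
        exact mul_left_cancel (a := c2) (by rw [mul_one]; exact (hιinj h2).symm)
      · obtain ⟨r, hr⟩ := exists_prime_orderOf_dvd_card' (G := R) p h1
        have hrp : (r : G) ^ p = 1 := by rw [← hr, ← Subgroup.coe_pow, pow_orderOf_eq_one]; rfl
        have hrz := hzS r (hRcen r.2) (hfix _ r.2.1) hrp
        rw [← hzle] at hrz
        obtain ⟨k, hk⟩ := Subgroup.mem_zpowers_iff.1 hrz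
        have hk' : c ^ k = (r : G) := Subtype.ext (by simpa using hk)
        have hr1 : (r : G) ≠ 1 := fun e => hpp.ne_one (by
          rw [← hr, ← Subgroup.orderOf_coe, e, orderOf_one])
        obtain ⟨m, hm⟩ := Subgroup.mem_zpowers_iff.1 (mem_zpowers_of_zpow hcp (hk' ▸ hr1))
        exact hcE (hm ▸ zpow_mem (hk' ▸ r.2.2) m)
    · have hCn : (Subgroup.zpowers (ι c)).Normal := ⟨fun w hw g => by
        rw [Subgroup.mem_center_iff.1 (Subgroup.zpowers_le.2 hcN hw) g, mul_inv_cancel_right]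
        exact hw⟩
      set π := QuotientGroup.mk' (Subgroup.zpowers (ι c))
      have hgy : ∀ g ∈ GN, π yN * π g = π g * π yN := fun g hg => by
        obtain ⟨q, rfl⟩ := hι_of g hg
        obtain ⟨r, hr, i, j, rfl⟩ := hdec q
        have h1 := congrArg π (hconj (r * c ^ i * c2 ^ j))
        rw [hφq r i j hr, hcc2.mul_zpow, ← mul_assoc] at h1
        simp only [map_mul, map_zpow, map_inv] at h1 ⊢
        have hπc : π (ι c) = 1 := (QuotientGroup.eq_one_iff _).2 (Subgroup.mem_zpowers _)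
        rw [hπc] at h1 ⊢
        simp only [one_zpow, mul_one] at h1 ⊢
        exact mul_inv_eq_iff_eq_mul.1 h1
      have hcomm := commute_of_gen π ⊤ ({yN} ∪ (GN : Set S)) ⊥ (by
          rw [sup_bot_eq, ← htopS]
          exact sup_le (fun g hg => Subgroup.subset_closure (Or.inr hg))
            (Subgroup.zpowers_le.2 (Subgroup.subset_closure (Or.inl rfl))))
        (fun m hm => by rw [Subgroup.mem_bot.1 hm, map_one]; exact one_mem _) (by
          rintro u (rfl | hu) v (rfl | hv)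
          · rfl
          · exact hgy v hv
          · exact (hgy u hu).symm
          · obtain ⟨u, rfl⟩ := hι_of u hu
            obtain ⟨v, rfl⟩ := hι_of v hv
            rw [← map_mul, ← map_mul, ← map_mul, ← map_mul, hab])
        ⟨a, ha⟩ (Subgroup.mem_top _) ⟨b, hb⟩ (Subgroup.mem_top _)
      rw [← commutatorElement_eq_one_iff_mul_comm, ← map_commutatorElement,
        QuotientGroup.mk'_apply, QuotientGroup.eq_one_iff] at hcomm
      obtain ⟨k, hk⟩ := Subgroup.mem_zpowers_iff.1 hcomm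
      exact Subgroup.mem_zpowers_iff.2
        ⟨k, by simpa [hι, commutatorElement_def] using congrArg Subtype.val hk⟩
  -- nonabelian
  left
  have hzzS : (z : Ω) ∈ zS S p := hzS z hzcen (hfix z hzR.1) hzp
  have hRN : ∀ r ∈ R, ι r ∈ Subgroup.center S := fun r hr => hcenS r (hRcen hr) (hfix r hr.1)
  -- elements of order `p` of `R`
  have hRp1 : ∀ t ∈ R, t ^ p = 1 → t ∈ Subgroup.zpowers z := by
    intro t ht htp
    by_contra htz
    set X1 := Subgroup.zpowers (ι z) with hX1
    set X2 := X1 ⊔ Subgroup.zpowers (ι t) with hX2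
    set X3 := X2 ⊔ Subgroup.zpowers (ι c) with hX3
    set X4 := X3 ⊔ Subgroup.zpowers yN with hX4
    have h12 : X1 < X2 := lt_of_le_of_ne le_sup_left fun e => htz (by
      have h1 : ι t ∈ X1 := e.symm ▸ Subgroup.mem_sup_right (Subgroup.mem_zpowers _)
      obtain ⟨k, hk⟩ := Subgroup.mem_zpowers_iff.1 h1
      exact Subgroup.mem_zpowers_iff.2 ⟨k, hιinj (by rw [map_zpow, hk])⟩)
    have h2R : X2 ≤ R.map ι := sup_le (Subgroup.zpowers_le.2 (Subgroup.mem_map_of_mem ι hzR))
      (Subgroup.zpowers_le.2 (Subgroup.mem_map_of_mem ι ht))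
    have h23 : X2 < X3 := lt_of_le_of_ne le_sup_left fun e => by
      have hm : ι c ∈ X3 := Subgroup.mem_sup_right (Subgroup.mem_zpowers _)
      rw [← e] at hm
      obtain ⟨r, hr, hrc⟩ := h2R hm
      obtain rfl := hιinj hrc
      exact hcE hr.2
    have h3G' : X3 ≤ GN := sup_le (h2R.trans (by rintro _ ⟨r, -, rfl⟩; exact hιGN r))
      (Subgroup.zpowers_le.2 (hιGN c))
    have h34 : X3 < X4 := lt_of_le_of_ne le_sup_left fun e => hyGN
      (h3G' (e.symm ▸ Subgroup.mem_sup_right (Subgroup.mem_zpowers yN)))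
    have hle : X4 ≤ Subgroup.closure {ι z, ι t, ι c, yN} :=
      sup_le (sup_le (sup_le (Subgroup.zpowers_le.2 (Subgroup.subset_closure (by simp)))
        (Subgroup.zpowers_le.2 (Subgroup.subset_closure (by simp))))
        (Subgroup.zpowers_le.2 (Subgroup.subset_closure (by simp))))
        (Subgroup.zpowers_le.2 (Subgroup.subset_closure (by simp)))
    have hcz := fun g => Subgroup.mem_center_iff.1 (hRN z hzR) g
    have hct := fun g => Subgroup.mem_center_iff.1 (hRN t ht) g
    obtain ⟨he1, he2⟩ := elem_closure (p := p) (s := ({ι z, ι t, ι c, yN} : Set S))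
      (by
        rintro a (rfl | rfl | rfl | rfl) b (rfl | rfl | rfl | rfl)
        all_goals first
          | rfl
          | exact hcz _
          | exact (hcz _).symm
          | exact hct _
          | exact (hct _).symm
          | exact (hycomm c hφc).eq
          | exact (hycomm c hφc).eq.symm)
      (by
        rintro a (rfl | rfl | rfl | rfl)
        · rw [← map_pow, hzp, map_one]
        · rw [← map_pow, htp, map_one]
        · rw [← map_pow, hcp, map_one]
        · exact Subtype.ext hyp)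
    have hbound := elem_card_le h (X := X4.map S.subtype)
      ⟨by rintro _ ⟨a, ha, rfl⟩; simpa using congrArg Subtype.val (he2 a (hle ha)),
        by rintro _ ⟨a, ha, rfl⟩ _ ⟨b, hb, rfl⟩
           simpa using congrArg Subtype.val (he1 a (hle ha) b (hle hb))⟩
      (Subgroup.map_subtype_le X4)
    rw [Subgroup.card_map_of_injective S.subtype_injective] at hbound
    have hX1c : Nat.card X1 = p := by
      rw [hX1, Nat.card_zpowers, orderOf_injective ι hιinj, orderOf_eq_prime hzp hz1]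
    have s1 := card_step h.pgrp h12
    have s2 := card_step h.pgrp h23
    have s3 := card_step h.pgrp h34
    have : p ^ 4 ≤ p ^ 3 := calc
      p ^ 4 = Nat.card X1 * p * p * p := by rw [hX1c]; ring
      _ ≤ Nat.card X2 * p * p := Nat.mul_le_mul_right _ (Nat.mul_le_mul_right _ s1)
      _ ≤ Nat.card X3 * p := Nat.mul_le_mul_right _ s2
      _ ≤ Nat.card X4 := s3
      _ ≤ p ^ 3 := hbound
    exact absurd this (not_le.2 (Nat.pow_lt_pow_right hpp.one_lt (by norm_num)))
  -- `Ω₁Z(S) = ⟨z⟩`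
  have hzS_le : ∀ w ∈ zS S p, ∃ k : ℤ, (z : Ω) ^ k = w := by
    intro w hw
    have hwG : w ∈ G := zS_le_essential h hG hw
    set q : G := ⟨w, hwG⟩ with hq
    have hqc : ∀ g : G, g * q = q * g := fun g => Subtype.ext (hw.2.2 g (hGS g.2))
    have hqφ : φ q = q := Subtype.ext (by
      rw [hφ]; show y * w * y⁻¹ = w; rw [hw.2.2 y hy, mul_inv_cancel_right])
    obtain ⟨r, hr, i, j, hq'⟩ := hdec q
    have hj : c2 ^ j = 1 := by
      by_contra hne
      obtain ⟨k, hk⟩ := Subgroup.mem_zpowers_iff.1 (mem_zpowers_of_zpow hc2p hne)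
      have h1 := hφq r i j hr
      rw [hq', hqφ, ← hq', mul_right_inj] at h1
      have h2 : φ (c2 ^ j) = c2 ^ j := by rw [map_zpow, hφc2]; exact h1.symm
      have h3 : φ c2 = c2 := by rw [← hk, map_zpow, h2]
      rw [hφc2] at h3
      exact hc1 (mul_eq_left.1 h3)
    have hi : c ^ i = 1 := by
      by_contra hne
      obtain ⟨k, hk⟩ := Subgroup.mem_zpowers_iff.1 (mem_zpowers_of_zpow hcp hne)
      apply hz1
      rw [hz, commutatorElement_eq_one_iff_mul_comm]
      have h1 := hqc c2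
      rw [← hq', hj, mul_one, ← mul_assoc, (hc2cen r hr.2), mul_assoc, mul_assoc,
        mul_right_inj] at h1
      have h2 : Commute c2 (c ^ i) := h1
      rw [← hk]
      exact (h2.zpow_right k).eq
    rw [hi, hj, mul_one, mul_one] at hq'
    obtain ⟨k, hk⟩ := Subgroup.mem_zpowers_iff.1
      (hRp1 r hr (hq' ▸ Subtype.ext (by simpa [hq] using hw.2.1)))
    exact ⟨k, by simpa [hq] using congrArg Subtype.val (hk.trans hq')⟩
  by_cases hRz : R ≤ Subgroup.zpowers z
  · -- order `p ^ 4`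
    have hRcard : Nat.card R = p := by
      refine le_antisymm ?_ ?_
      · refine le_trans (Nat.le_of_dvd Nat.card_pos (Subgroup.card_dvd_of_le hRz)) (le_of_eq ?_)
        rw [Nat.card_zpowers, orderOf_eq_prime hzp hz1]
      · have := Subgroup.card_dvd_of_le (Subgroup.zpowers_le.2 hzR)
        rw [Nat.card_zpowers, orderOf_eq_prime hzp hz1] at this
        exact Nat.le_of_dvd Nat.card_pos this
    have hN4 : Nat.card S = p ^ 4 := by
      rw [hScard, ← Subgroup.card_mul_index R, hRcard, hRidx]; ring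
    set A : Subgroup S := Subgroup.closure {ι z, ι c, yN} with hA
    have hcz := fun g => Subgroup.mem_center_iff.1 (hRN z hzR) g
    obtain ⟨he1, he2⟩ := elem_closure (p := p) (s := ({ι z, ι c, yN} : Set S))
      (by
        rintro a (rfl | rfl | rfl) b (rfl | rfl | rfl)
        all_goals first
          | rfl
          | exact hcz _
          | exact (hcz _).symm
          | exact (hycomm c hφc).eq
          | exact (hycomm c hφc).eq.symm)
      (by
        rintro a (rfl | rfl | rfl)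
        · rw [← map_pow, hzp, map_one]
        · rw [← map_pow, hcp, map_one]
        · exact Subtype.ext hyp)
    have hle3 : Nat.card A ≤ p ^ 3 := by
      rw [← Subgroup.card_map_of_injective (K := A) S.subtype_injective]
      refine elem_card_le h ⟨?_, ?_⟩ (Subgroup.map_subtype_le A)
      · rintro _ ⟨a, ha, rfl⟩
        simpa using congrArg Subtype.val (he2 a ha)
      · rintro _ ⟨a, ha, rfl⟩ _ ⟨b, hb, rfl⟩
        simpa using congrArg Subtype.val (he1 a ha b hb)
    have hge3 : p ^ 3 ≤ Nat.card A := by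
      set X1 := Subgroup.zpowers (ι z) with hX1
      set X2 := X1 ⊔ Subgroup.zpowers (ι c) with hX2
      have h1R : X1 ≤ R.map ι := Subgroup.zpowers_le.2 (Subgroup.mem_map_of_mem ι hzR)
      have h12 : X1 < X2 := lt_of_le_of_ne le_sup_left fun e => by
        have hm : ι c ∈ X2 := Subgroup.mem_sup_right (Subgroup.mem_zpowers _)
        rw [← e] at hm
        obtain ⟨r, hr, hrc⟩ := h1R hm
        obtain rfl := hιinj hrc
        exact hcE hr.2
      have h2G : X2 ≤ GN := sup_le (Subgroup.zpowers_le.2 (hιGN z)) (Subgroup.zpowers_le.2 (hιGN c))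
      have h2A : X2 < A := lt_of_le_of_ne (sup_le
          (Subgroup.zpowers_le.2 (Subgroup.subset_closure (by simp)))
          (Subgroup.zpowers_le.2 (Subgroup.subset_closure (by simp))))
        fun e => hyGN (h2G (e.symm ▸ Subgroup.subset_closure (by simp)))
      calc p ^ 3 = Nat.card X1 * p * p := by
            rw [hX1, Nat.card_zpowers, orderOf_injective ι hιinj, orderOf_eq_prime hzp hz1]; ring
        _ ≤ Nat.card X2 * p := Nat.mul_le_mul_right _ (card_step h.pgrp h12)
        _ ≤ Nat.card A := card_step h.pgrp h2A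
    have hAidx : A.index = p := by
      have h1 := A.card_mul_index
      rw [le_antisymm hle3 hge3, hN4, pow_succ p 3] at h1
      exact Nat.eq_of_mul_eq_mul_left (pow_pos hpp.pos 3) h1
    haveI : A.Normal := normal_of_index h.pgrp hAidx
    refine H59.SpSylow.iso_sylow_of_split hp2 hN4 he1 he2 (x := ι c2) (a := yN)
      (by rw [← map_pow, hc2p, map_one]) (Subgroup.subset_closure (by simp)) fun hcm => hz1 ?_
    have h1 : yN * ι c2 * yN⁻¹ = ι c2 * ι c := by rw [hconj, hφc2, map_mul]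
    have hyc : Commute yN (ι c)⁻¹ := (hycomm c hφc).inv_right
    have h2 : yN⁻¹ * ι c2 * yN = ι c2 * (ι c)⁻¹ := by
      have e : ι c2 = ι c2 * ι c * (ι c)⁻¹ := by group
      calc yN⁻¹ * ι c2 * yN = yN⁻¹ * (ι c2 * ι c * ((ι c)⁻¹ * yN)) := by rw [mul_assoc]; group
        _ = yN⁻¹ * (yN * ι c2 * yN⁻¹ * (yN * (ι c)⁻¹)) := by rw [h1, hyc.eq]
        _ = ι c2 * (ι c)⁻¹ := by group
    have h3 : yN⁻¹ * (ι c2 * yN * (ι c2)⁻¹) = ι c2 * (ι c)⁻¹ * (ι c2)⁻¹ := by
      rw [← h2]; group
    rw [h3] at hcm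
    rw [hz, commutatorElement_eq_one_iff_mul_comm]
    refine hιinj ?_
    rw [map_mul, map_mul]
    have h5 : ι c2 * ((ι c)⁻¹ * (ι c2)⁻¹) = (ι c)⁻¹ := by simpa [mul_assoc] using hcm.eq
    have h4 : Commute (ι c2) (ι c)⁻¹ := by
      rw [← mul_assoc] at h5
      exact mul_inv_eq_iff_eq_mul.1 h5
    have h6 := h4.inv_right
    rw [inv_inv] at h6
    exact h6.eq
  -- larger centre
  exfalso
  obtain ⟨x, hxR, hxz⟩ := SetLike.not_le_iff_exists.1 hRz
  let Rp : Subgroup G :=
    { carrier := {q | ∃ r ∈ R, r ^ p = q}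
      one_mem' := ⟨1, one_mem _, one_pow p⟩
      mul_mem' := by
        rintro _ _ ⟨a, ha, rfl⟩ ⟨b, hb, rfl⟩
        exact ⟨a * b, mul_mem ha hb,
          (show Commute a b from Subgroup.mem_center_iff.1 (hRcen hb) a).mul_pow p⟩
      inv_mem' := by
        rintro _ ⟨a, ha, rfl⟩
        exact ⟨a⁻¹, inv_mem ha, inv_pow a p⟩ }
  have hRpR : Rp ≤ R := by rintro _ ⟨r, hr, rfl⟩; exact pow_mem hr p
  have hzRp : z ∈ Rp := by
    obtain ⟨k, hk⟩ := hGp x
    obtain ⟨m, hm, hm'⟩ : ∃ m : ℕ, x ^ p ^ (m + 1) = 1 ∧ x ^ p ^ m ≠ 1 := by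
      induction k with
      | zero => exact absurd (by simpa using hk) (fun e : x = 1 => hxz (e ▸ one_mem _))
      | succ k ih =>
        by_cases h1 : x ^ p ^ k = 1
        · exact ih h1
        · exact ⟨k, hk, h1⟩
    rw [pow_succ, pow_mul] at hm
    have hw : x ^ p ^ m ∈ Subgroup.zpowers z := hRp1 _ (pow_mem hxR _) hm
    rcases Nat.eq_zero_or_pos m with rfl | hm0
    · exact absurd (by simpa using hw) hxz
    obtain ⟨k, hk'⟩ := Subgroup.mem_zpowers_iff.1 hw
    obtain ⟨l, hl⟩ := Subgroup.mem_zpowers_iff.1 (mem_zpowers_of_zpow hzp (hk' ▸ hm'))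
    rw [hk'] at hl
    rw [← hl]
    have hmem : x ^ p ^ m ∈ Rp := ⟨x ^ p ^ (m - 1), pow_mem hxR _, by
      rw [← pow_mul, ← pow_succ, show m - 1 + 1 = m by omega]⟩
    exact zpow_mem hmem l
  -- every `p`-th power of `S` lies in `Rp`
  set K := Rp.map ι with hK
  haveI hKn : K.Normal := ⟨by
    rintro _ ⟨r, hr, rfl⟩ g
    rw [Subgroup.mem_center_iff.1 (hRN r (hRpR hr)) g, mul_inv_cancel_right]
    exact ⟨r, hr, rfl⟩⟩
  set π := QuotientGroup.mk' K
  have hπz : π (ι z) = 1 := (QuotientGroup.eq_one_iff _).2 ⟨z, hzRp, rfl⟩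
  have hπcc : Commute (π (ι c2)) (π (ι c)) := by
    refine commutatorElement_eq_one_iff_mul_comm.1 ?_
    rw [← map_commutatorElement, ← map_commutatorElement]
    exact hπz
  have hπR : ∀ r ∈ R, ∀ g, Commute (π (ι r)) g := fun r hr g => by
    obtain ⟨g, rfl⟩ := QuotientGroup.mk'_surjective K g
    exact (show Commute g (ι r) from Subgroup.mem_center_iff.1 (hRN r hr) g).symm.map π
  have hπq : ∀ (r : G) (i j : ℤ), π (ι (r * c ^ i * c2 ^ j)) =
      π (ι r) * π (ι c) ^ i * π (ι c2) ^ j := fun r i j => by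
    simp only [map_mul, map_zpow]
  have hπab : ∀ a b : G, Commute (π (ι a)) (π (ι b)) := by
    intro a b
    obtain ⟨r, hr, i, j, rfl⟩ := hdec a
    obtain ⟨r', hr', i', j', rfl⟩ := hdec b
    rw [hπq, hπq]
    have h1 : ∀ g, Commute g (π (ι c)) → Commute g (π (ι c2)) →
        Commute g (π (ι r') * π (ι c) ^ i' * π (ι c2) ^ j') := fun g g1 g2 =>
      ((hπR r' hr' g).symm.mul_right (g1.zpow_right i')).mul_right (g2.zpow_right j')
    exact ((hπR r hr _).mul_left ((h1 _ (Commute.refl _) hπcc.symm).zpow_left i)).mul_left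
      ((h1 _ hπcc (Commute.refl _)).zpow_left j)
  set Cπ := Subgroup.zpowers (π (ι c)) with hCπ
  have hCcen : Cπ ≤ Subgroup.center (S ⧸ K) := by
    refine Subgroup.zpowers_le.2 (Subgroup.mem_center_iff.2 fun g => ?_)
    obtain ⟨g, rfl⟩ := QuotientGroup.mk'_surjective K g
    have hle : GN ⊔ Subgroup.zpowers yN ≤ (Subgroup.centralizer {π (ι c)}).comap π := by
      refine sup_le (fun w hw => ?_) (Subgroup.zpowers_le.2 ?_)
      · obtain ⟨w, rfl⟩ := hι_of w hw
        exact Subgroup.mem_centralizer_singleton_iff.2 (hπab w c).eq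
      · exact Subgroup.mem_centralizer_singleton_iff.2 ((hycomm c hφc).map π).eq
    exact Subgroup.mem_centralizer_singleton_iff.1 (hle (htopS ▸ Subgroup.mem_top g))
  haveI hCn : Cπ.Normal := ⟨fun w hw g => by
    rw [Subgroup.mem_center_iff.1 (hCcen hw) g, mul_inv_cancel_right]; exact hw⟩
  have hgy : ∀ q : G, (QuotientGroup.mk' Cπ) (π yN) * (QuotientGroup.mk' Cπ) (π (ι q)) =
      (QuotientGroup.mk' Cπ) (π (ι q)) * (QuotientGroup.mk' Cπ) (π yN) := by
    intro q
    obtain ⟨r, hr, i, j, rfl⟩ := hdec q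
    have h1 := congrArg π (hconj (r * c ^ i * c2 ^ j))
    rw [hφq r i j hr] at h1
    simp only [map_mul, map_zpow, map_inv] at h1
    rw [hπcc.mul_zpow] at h1
    have h1' := congrArg (QuotientGroup.mk' Cπ) h1
    have hc0 : (QuotientGroup.mk' Cπ) (π (ι c)) = 1 :=
      (QuotientGroup.eq_one_iff _).2 (Subgroup.mem_zpowers _)
    simp only [map_mul, map_zpow, map_inv, hc0, one_zpow, mul_one] at h1' ⊢
    exact mul_inv_eq_iff_eq_mul.1 h1'
  have hcomm : ∀ a b : S ⧸ K, ⁅a, b⁆ ∈ Subgroup.center (S ⧸ K) ∧ ⁅a, b⁆ ^ p = 1 := by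
    intro a b
    obtain ⟨a, rfl⟩ := QuotientGroup.mk'_surjective K a
    obtain ⟨b, rfl⟩ := QuotientGroup.mk'_surjective K b
    have h1 := commute_of_gen ((QuotientGroup.mk' Cπ).comp π) ⊤ ({yN} ∪ (GN : Set S)) ⊥ (by
        rw [sup_bot_eq, ← htopS]
        exact sup_le (fun g hg => Subgroup.subset_closure (Or.inr hg))
          (Subgroup.zpowers_le.2 (Subgroup.subset_closure (Or.inl rfl))))
      (fun m hm => by rw [Subgroup.mem_bot.1 hm, map_one]; exact one_mem _) (by
        rintro u (rfl | hu) v (rfl | hv)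
        · rfl
        · obtain ⟨v, rfl⟩ := hι_of v hv
          exact hgy v
        · obtain ⟨u, rfl⟩ := hι_of u hu
          exact (hgy u).symm
        · obtain ⟨u, rfl⟩ := hι_of u hu
          obtain ⟨v, rfl⟩ := hι_of v hv
          exact ((hπab u v).map (QuotientGroup.mk' Cπ)).eq)
      a (Subgroup.mem_top a) b (Subgroup.mem_top b)
    rw [MonoidHom.comp_apply, MonoidHom.comp_apply, ← commutatorElement_eq_one_iff_mul_comm,
      ← map_commutatorElement, QuotientGroup.mk'_apply Cπ, QuotientGroup.eq_one_iff] at h1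
    refine ⟨hCcen h1, ?_⟩
    obtain ⟨k, hk⟩ := Subgroup.mem_zpowers_iff.1 h1
    rw [← hk, ← zpow_natCast, ← zpow_mul, mul_comm, zpow_mul, zpow_natCast, ← map_pow,
      ← map_pow ι, hcp, map_one, map_one, one_zpow]
  have hpow : ∀ s : S, (π s) ^ p = 1 := by
    intro s
    refine pow_eq_one_of_gen hp2 hcomm
      (π '' ({yN, ι c, ι c2} ∪ ι '' (R : Set G))) ?_ (π s) ?_
    · rintro _ ⟨w, ((rfl | rfl | rfl) | ⟨r, hr, rfl⟩), rfl⟩
      · rw [← map_pow, show yN ^ p = 1 from Subtype.ext hyp, map_one]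
      · rw [← map_pow, ← map_pow ι, hcp, map_one, map_one]
      · rw [← map_pow, ← map_pow ι, hc2p, map_one, map_one]
      · rw [← map_pow, ← map_pow ι]
        exact (QuotientGroup.eq_one_iff _).2 ⟨r ^ p, ⟨r, hr, rfl⟩, rfl⟩
    · rw [← MonoidHom.map_closure]
      refine Subgroup.mem_map_of_mem π ?_
      have hle : GN ⊔ Subgroup.zpowers yN ≤
          Subgroup.closure ({yN, ι c, ι c2} ∪ ι '' (R : Set G)) := by
        refine sup_le (fun g hg => ?_) (Subgroup.zpowers_le.2 (Subgroup.subset_closure (by simp)))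
        obtain ⟨g, rfl⟩ := hι_of g hg
        obtain ⟨r, hr, i, j, rfl⟩ := hdec g
        rw [map_mul, map_mul, map_zpow, map_zpow]
        exact mul_mem (mul_mem (Subgroup.subset_closure (Or.inr ⟨r, hr, rfl⟩))
          (zpow_mem (Subgroup.subset_closure (by simp)) i))
          (zpow_mem (Subgroup.subset_closure (by simp)) j)
      exact hle (htopS ▸ Subgroup.mem_top s)
  -- contradiction with an essential moving `Ω₁Z(S)`
  obtain ⟨M, hM, hMinv⟩ := exists_noncentral h
  refine hMinv fun β hβ w hw => ?_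
  obtain ⟨k, hk⟩ := hzS_le _ hw
  obtain ⟨r, hr, hrk⟩ : z ^ k ∈ Rp := zpow_mem hzRp k
  have hrM : (r : Ω) ∈ M := by
    refine hM.1.2 M ?_ ?_
    · exact ⟨conjHom M 1, F.conj_mem hM.1.1 S.one_mem, by
        ext v
        simp [conjHom, MonoidHom.mem_range]⟩
    · exact mem_centralizerIn.2 ⟨hGS r.2, fun v hv => by
        simpa [hι] using congrArg Subtype.val
          (Subgroup.mem_center_iff.1 (hRN r hr) ⟨v, hM.1.1 hv⟩)⟩
  have hwr : (w : M) = (⟨r, hrM⟩ : M) ^ p := Subtype.ext (by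
    rw [← hk]
    simpa using (congrArg Subtype.val hrk).symm)
  set v : M := β ⟨r, hrM⟩
  have hvS : (v : Ω) ∈ S := hM.1.1 v.2
  have h1 := hpow ⟨(v : Ω), hvS⟩
  rw [← map_pow] at h1
  obtain ⟨q, hq, hqv⟩ := (QuotientGroup.eq_one_iff _).1 h1
  have hβw : ((β w : M) : Ω) = (q : Ω) := by
    rw [hwr, map_pow]
    simpa [hι] using (congrArg Subtype.val hqv).symm
  have hq1 : q ^ p = 1 := Subtype.ext (by
    rw [Subgroup.coe_pow, ← hβw, ← Subgroup.coe_pow, ← map_pow,
      show w ^ p = 1 from Subtype.ext hw.2.1, map_one]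
    rfl)
  obtain ⟨l, hl⟩ := Subgroup.mem_zpowers_iff.1 (hRp1 q (hRpR hq) hq1)
  rw [hβw, ← hl, Subgroup.coe_zpow]
  exact zpow_mem hzzS l

/-- The same for a `vsub` outside an essential subgroup. -/
theorem vsub_le_or (h : Ctx p F) {E G : Subgroup Ω} (hE : Noncentral F p E)
    (hG : F.IsEssential p G) :
    vsub F p E ≤ G ∨ SympSylow S p ∨ (Nat.card (zS S p) ≠ p ∧
      ∃ c ∈ zS S p, ∀ a ∈ S, ∀ b ∈ S, a * b * a⁻¹ * b⁻¹ ∈ Subgroup.zpowers c) := by
  by_cases hle : vsub F p E ≤ G
  · exact Or.inl hle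
  obtain ⟨y, hyV, hyG⟩ := SetLike.not_le_iff_exists.1 hle
  have hV := vsub_spec h hE
  have hyE : y ∈ E := hV.le hyV
  have hES : E ≤ S := hE.1.1.1
  have hGS : G ≤ S := hG.1.1
  haveI : Finite E := finite_of_le ‹_› hES
  haveI : Finite G := finite_of_le ‹_› hGS
  haveI : (E.subgroupOf S).Normal :=
    Subgroup.normal_subgroupOf_of_le_normalizer (h.normal E hE.1)
  have hEG : E.relIndex G = p := by
    have h1 : (E.subgroupOf S).relIndex (G.subgroupOf S) ∣ p :=
      (relIndex_eq h hE.1) ▸ Subgroup.relIndex_dvd_index_of_normal _ _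
    rw [Subgroup.relIndex_subgroupOf hGS] at h1
    rcases (Nat.dvd_prime (Fact.out : p.Prime)).1 h1 with h2 | h2
    · exfalso
      have hGE : G ≤ E := Subgroup.relIndex_eq_one.1 h2
      have h3 := Subgroup.relIndex_mul_relIndex G E S hGE hES
      rw [relIndex_eq h hE.1, relIndex_eq h hG] at h3
      exact hyG ((Subgroup.relIndex_eq_one.1
        ((Nat.mul_eq_right (Fact.out : p.Prime).ne_zero).1 h3)) hyE)
    · exact h2
  refine Or.inr (lemA h hG (hES hyE) hyG (hV.elem.1 y hyV) (D := E ⊓ G) inf_le_right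
    (by rw [Subgroup.inf_relIndex_right]; exact hEG) fun d hd => ?_)
  have hd' : d ∈ centralizerIn S (vsub F p E) := hV.cent.symm ▸ hd.1
  exact (mem_centralizerIn.1 hd').2 y hyV

end Cfsg.Agent.EssMax
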