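import Cfsg.Agent.EssMax.Base
import Cfsg.Agent.EssMax.LemA
import Cfsg.Agent.FusRankThree.JordanTools

/-!
Images of a small vsub inside every noncentral essential subgroup (S5181).
-/

set_option autoImplicit false
set_option linter.style.haveILetI false
set_option linter.unusedSectionVars false

open Cfsg Cfsg.FusionSystem Cfsg.Agent.FusionSys Cfsg.Agent.FusRankThree
open scoped commutatorElement

namespace Cfsg.Agent.EssMax

universe u

variable {Ω : Type u} [Group Ω] {S : Subgroup Ω} {p : ℕ} [Fact p.Prime] [Finite S]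
  {F : FusionSystem S}

namespace Pairs

theorem conj_pow_of {x a d : Ω} (hd : Commute x d) (h : x * a * x⁻¹ = d * a) (n : ℕ) :
    x ^ n * a * (x ^ n)⁻¹ = d ^ n * a := by
  induction n with
  | zero => simp
  | succ n ih =>
    calc x ^ (n + 1) * a * (x ^ (n + 1))⁻¹ = x * (x ^ n * a * (x ^ n)⁻¹) * x⁻¹ := by
          rw [pow_succ']; group
      _ = x * d ^ n * x⁻¹ * (x * a * x⁻¹) := by rw [ih]; group
      _ = d ^ (n + 1) * a := by
          rw [(hd.pow_right n).eq, mul_inv_cancel_right, h, ← mul_assoc, ← pow_succ]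

theorem eq_zpowers_of_card {Q : Subgroup Ω} (hQ : Nat.card Q = p) {x : Ω} (hx : x ∈ Q)
    (hx1 : x ≠ 1) : Subgroup.zpowers x = Q := by
  haveI : Finite Q := Nat.finite_of_card_ne_zero (by rw [hQ]; exact (Fact.out : p.Prime).ne_zero)
  refine Subgroup.eq_of_le_of_card_ge (Subgroup.zpowers_le.2 hx) (le_of_eq ?_)
  rw [Nat.card_zpowers, hQ]
  have hd := Subgroup.orderOf_dvd_natCard Q hx
  rw [hQ] at hd
  exact (((Nat.dvd_prime Fact.out).1 hd).resolve_left fun e => hx1 (orderOf_eq_one_iff.1 e)).symm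

/-- A nontrivial subgroup normalised by `S` contains `Ω₁Z(S)` when that has order `p`. -/
theorem zS_le_of_normal (hS : IsPGroup p S) (hz : Nat.card (zS S p) = p) {Q : Subgroup Ω}
    (hQS : Q ≤ S) (hQ : Q ≠ ⊥) (hn : ∀ s ∈ S, ∀ v ∈ Q, s * v * s⁻¹ ∈ Q) : zS S p ≤ Q := by
  haveI : (Q.subgroupOf S).Normal := ⟨fun v hv g => hn g g.2 v hv⟩
  have hne : Q.subgroupOf S ≠ ⊥ := fun e => hQ (by
    rw [Subgroup.eq_bot_iff_forall]
    intro v hv
    have h1 : (⟨v, hQS hv⟩ : S) ∈ Q.subgroupOf S := hv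
    rw [e, Subgroup.mem_bot] at h1
    exact congrArg Subtype.val h1)
  have hc := PGroup.inf_center_ne_bot hS (Q.subgroupOf S) hne
  obtain ⟨x, hx⟩ := exists_prime_orderOf_dvd_card' (G := ↥(Q.subgroupOf S ⊓ Subgroup.center S)) p
    ((hS.to_subgroup _).card_eq_or_dvd.resolve_left fun e => hc (Subgroup.card_eq_one.1 e))
  have hxz : ((x : S) : Ω) ∈ zS S p := by
    refine ⟨(x : S).2, ?_, fun s hs => ?_⟩
    · have h1 := pow_orderOf_eq_one x
      rw [hx] at h1
      exact congrArg (fun v : ↥(Q.subgroupOf S ⊓ Subgroup.center S) => ((v : S) : Ω)) h1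
    · exact congrArg Subtype.val (Subgroup.mem_center_iff.1 x.2.2 ⟨s, hs⟩)
  have hx1 : ((x : S) : Ω) ≠ 1 := fun e => by
    have : x = 1 := Subtype.ext (Subtype.ext e)
    rw [this, orderOf_one] at hx
    exact (Fact.out : p.Prime).ne_one hx.symm
  rw [← eq_zpowers_of_card hz hxz hx1, Subgroup.zpowers_le]
  exact x.2.1

/-- An invariant subgroup of an essential subgroup is normalised by `S`. -/
theorem conj_mem_of_inv (h : Ctx p F) {E Q : Subgroup Ω} (hE : F.IsEssential p E) (hQE : Q ≤ E)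
    (hQ : Inv F E Q) : ∀ s ∈ S, ∀ v ∈ Q, s * v * s⁻¹ ∈ Q := by
  intro s hs v hv
  obtain ⟨γ, -, hγ, hc⟩ := exists_conj h hE hs
  rw [← hc ⟨v, hQE hv⟩]
  exact hQ γ hγ _ hv

/-- A normal subgroup of order `p ^ 2` is centralised modulo `Ω₁Z(S)`. -/
theorem comm_mem_zS (hS : IsPGroup p S) (hz : Nat.card (zS S p) = p) {V : Subgroup Ω} (hVS : V ≤ S)
    (hn : ∀ s ∈ S, ∀ v ∈ V, s * v * s⁻¹ ∈ V) (hzV : zS S p ≤ V) (hV : Nat.card V = p ^ 2) :
    ∀ s ∈ S, ∀ v ∈ V, s * v * s⁻¹ * v⁻¹ ∈ zS S p := by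
  intro s hs v hv
  haveI : (V.subgroupOf S).Normal := ⟨fun w hw g => hn g g.2 w hw⟩
  haveI : ((zS S p).subgroupOf S).Normal := ⟨fun w hw g => by
    have e : g * w * g⁻¹ = w := by
      rw [show g * w = w * g from Subtype.ext (hw.2.2 g g.2), mul_inv_cancel_right]
    rwa [e]⟩
  have hr : ((zS S p).subgroupOf S).relIndex (V.subgroupOf S) ≤ p := by
    rw [Subgroup.relIndex_subgroupOf hVS]
    have h1 := Subgroup.relIndex_mul_relIndex ⊥ (zS S p) V bot_le hzV
    rw [Subgroup.relIndex_bot_left, Subgroup.relIndex_bot_left, hz, hV, pow_two] at h1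
    exact (Nat.eq_of_mul_eq_mul_left (Fact.out : p.Prime).pos h1).le
  have h1 := Jordan.commutator_le_of_relIndex (A := V.subgroupOf S) (B := (zS S p).subgroupOf S) hS
    (Subgroup.comap_mono hzV) hr
    (Subgroup.commutator_mem_commutator (show (⟨v, hVS hv⟩ : S) ∈ V.subgroupOf S from hv)
      (Subgroup.mem_top ⟨s, hs⟩))
  have h2 : ((⁅(⟨v, hVS hv⟩ : S), ⟨s, hs⟩⁆ : S) : Ω) ∈ zS S p := h1
  have h3 := inv_mem h2
  rwa [show ((⁅(⟨v, hVS hv⟩ : S), ⟨s, hs⟩⁆ : S) : Ω)⁻¹ = s * v * s⁻¹ * v⁻¹ by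
    simp [commutatorElement_def, mul_assoc]] at h3

theorem le_relIndex (hS : IsPGroup p S) {A B : Subgroup Ω} (hB : B ≤ S) (hAB : A ≤ B) {v : Ω}
    (hv : v ∈ B) (hvA : v ∉ A) : p ≤ A.relIndex B := by
  haveI : Finite B := finite_of_le ‹_› hB
  obtain ⟨k, hk⟩ := (hS.to_le hB).index (A.subgroupOf B)
  rcases k with _ | k
  · exact absurd (Subgroup.relIndex_eq_one.1 (by simpa [Subgroup.relIndex] using hk) hv) hvA
  · rw [Subgroup.relIndex, hk]
    exact Nat.le_self_pow (Nat.succ_ne_zero k) p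

end Pairs

open Pairs in
/-- With `|Ω₁Z(S)| = p` and all `vsub` of order `p ^ 2` inside all essential subgroups, every image of
a `vsub` under an automorphism of an essential subgroup is inside all noncentral ones. -/
theorem img_vsub_le (h : Ctx p F) (hz : Nat.card (zS S p) = p) (hnot : ¬ SympSylow S p)
    (hV : ∀ E, Noncentral F p E → Nat.card (vsub F p E) = p ^ 2)
    (hle : ∀ E, Noncentral F p E → ∀ G, F.IsEssential p G → vsub F p E ≤ G)
    {E E' G : Subgroup Ω} (hE : Noncentral F p E) (hE' : Noncentral F p E')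
    (hG : F.IsEssential p G) {α : MulAut G} (hα : α ∈ F.autGroup G) :
    img α (vsub F p E) ≤ E' := by
  classical
  have hpp : p.Prime := Fact.out
  have hp2 : 2 < p := by
    have h2 := hpp.two_le
    rcases h.odd with ⟨r, hr⟩
    omega
  have hGS : G ≤ S := hG.1.1
  have hES : E' ≤ S := hE'.1.1.1
  haveI : Finite G := finite_of_le ‹_› hGS
  haveI : Finite E' := finite_of_le ‹_› hES
  have hW := vsub_spec h hE
  have hW' := vsub_spec h hE'
  have hzG : zS S p ≤ G := zS_le_essential h hG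
  set W := vsub F p E with hWdef
  set W' := vsub F p E' with hW'def
  have hWG : W ≤ G := hle E hE G hG
  have hW'G : W' ≤ G := hle E' hE' G hG
  set A := img α W with hAdef
  intro a0 ha0
  by_contra ha0E
  have hAG : A ≤ G := img_le α W
  have ha0G : a0 ∈ G := hAG ha0
  have ha0S : a0 ∈ S := hGS ha0G
  have hGn : ∀ s ∈ S, ∀ v ∈ G, s * v * s⁻¹ ∈ G := fun s hs v hv =>
    (Subgroup.mem_normalizer_iff.1 (h.normal G hG hs) v).1 hv
  have hEn : ∀ s ∈ S, ∀ v ∈ E', s * v * s⁻¹ ∈ E' := fun s hs v hv =>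
    (Subgroup.mem_normalizer_iff.1 (h.normal E' hE'.1 hs) v).1 hv
  -- properties of the image
  have hAcard : Nat.card A = p ^ 2 := by
    rw [hAdef, img, Subgroup.card_map_of_injective (f := G.subtype.comp α.toMonoidHom)
      (G.subtype_injective.comp α.injective),
      Nat.card_congr (Subgroup.subgroupOfEquivOfLe hWG).toEquiv, hV E hE]
  have hApow : ∀ a ∈ A, a ^ p = 1 := by
    rintro _ ⟨x, hx, rfl⟩
    rw [← map_pow, show x ^ p = 1 from Subtype.ext (hW.elem.1 _ hx), map_one]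
  have hAc0 : ∀ a ∈ A, ∀ g ∈ G, a * g * a⁻¹ * g⁻¹ ∈ img α (zS S p) := by
    rintro _ ⟨x, hx, rfl⟩ g hg
    refine ⟨x * α.symm ⟨g, hg⟩ * x⁻¹ * (α.symm ⟨g, hg⟩)⁻¹, ?_, by simp⟩
    have h1 := inv_mem (comm_mem_zS h.pgrp hz (hW.le.trans hE.1.1.1) hW.normal hW.zS_lt.le (hV E hE)
      ((α.symm ⟨g, hg⟩ : G) : Ω) (hGS (α.symm ⟨g, hg⟩).2) (x : Ω) hx)
    show ((x * α.symm ⟨g, hg⟩ * x⁻¹ * (α.symm ⟨g, hg⟩)⁻¹ : G) : Ω) ∈ zS S p
    simpa [mul_assoc] using h1
  have hWc := comm_mem_zS h.pgrp hz (hW'.le.trans hES) hW'.normal hW'.zS_lt.le (hV E' hE')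
  -- an element of `W'` moved by `a0`
  obtain ⟨w, hw, hwne⟩ : ∃ w ∈ W', a0 * w ≠ w * a0 := by
    by_contra! hc
    exact ha0E (hW'.cent.le ⟨ha0S, Subgroup.mem_centralizer_iff.2 fun v hv => (hc v hv).symm⟩)
  have hwG : w ∈ G := hW'G hw
  have hwS : w ∈ S := hGS hwG
  set c := a0 * w * a0⁻¹ * w⁻¹ with hcdef
  have hcZ : c ∈ zS S p := hWc a0 ha0S w hw
  have hc1 : c ≠ 1 := fun e => hwne (mul_inv_eq_iff_eq_mul.1 (mul_inv_eq_one.1 e))
  have hcA : c ∈ img α (zS S p) := hAc0 a0 ha0 w hwG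
  have hαz : img α (zS S p) = zS S p := by
    have hcard : Nat.card (img α (zS S p)) = p := by
      rw [img, Subgroup.card_map_of_injective (f := G.subtype.comp α.toMonoidHom)
        (G.subtype_injective.comp α.injective),
        Nat.card_congr (Subgroup.subgroupOfEquivOfLe hzG).toEquiv, hz]
    rw [← eq_zpowers_of_card hcard hcA hc1, eq_zpowers_of_card hz hcZ hc1]
  have hAc : ∀ a ∈ A, ∀ g ∈ G, a * g * a⁻¹ * g⁻¹ ∈ zS S p := fun a ha g hg => hαz ▸ hAc0 a ha g hg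
  have hcen : ∀ z ∈ zS S p, ∀ s ∈ S, Commute z s := fun z hzz s hs => (hzz.2.2 s hs).symm
  -- `W'` is generated by `w` and `zS`
  have hwz : w ∉ zS S p := fun e => hwne (e.2.2 a0 ha0S)
  have hW'gen : W' ≤ zS S p ⊔ Subgroup.zpowers w := by
    have hle' : zS S p ⊔ Subgroup.zpowers w ≤ W' :=
      sup_le hW'.zS_lt.le (Subgroup.zpowers_le.2 hw)
    have h1 := le_relIndex h.pgrp (hle'.trans (hW'.le.trans hES)) le_sup_left
      (Subgroup.mem_sup_right (Subgroup.mem_zpowers w)) hwz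
    have h2 := Subgroup.relIndex_mul_relIndex ⊥ (zS S p) (zS S p ⊔ Subgroup.zpowers w) bot_le le_sup_left
    rw [Subgroup.relIndex_bot_left, Subgroup.relIndex_bot_left, hz] at h2
    haveI : Finite W' := finite_of_le ‹_› (hW'.le.trans hES)
    exact (Subgroup.eq_of_le_of_card_ge hle' (by
      rw [hV E' hE', ← h2, pow_two]
      exact Nat.mul_le_mul_left p h1)).ge
  have hcentW : ∀ g ∈ S, g * w = w * g → ∀ v ∈ W', g * v = v * g := by
    intro g hg hgw v hv
    have : zS S p ⊔ Subgroup.zpowers w ≤ Subgroup.centralizer ({g} : Set Ω) :=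
      sup_le (fun z hzz => Subgroup.mem_centralizer_singleton_iff.2 (hcen z hzz g hg).eq)
        (Subgroup.zpowers_le.2 (Subgroup.mem_centralizer_singleton_iff.2 hgw.symm))
    exact (Subgroup.mem_centralizer_singleton_iff.1 (this (hW'gen hv))).symm
  -- powers generate the centre part
  have hpowers : ∀ d ∈ zS S p, d ≠ 1 → ∀ z ∈ zS S p, ∃ n : ℕ, d ^ n = z := fun d hd hd1 z hzz => by
    have h1 : z ∈ Subgroup.zpowers d := (eq_zpowers_of_card hz hd hd1).ge hzz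
    haveI : Finite (Subgroup.zpowers d) :=
      finite_of_le ‹_› ((Subgroup.zpowers_le.2 hd).trans zS_le)
    have hfin : IsOfFinOrder d := isOfFinOrder_iff_pow_eq_one.2 ⟨p, hpp.pos, hd.2.1⟩
    exact (hfin.mem_powers_iff_mem_zpowers.2 h1)
  -- decomposition of `G`
  set C : Subgroup Ω := G ⊓ Subgroup.centralizer (W' : Set Ω) ⊓ Subgroup.centralizer ({a0} : Set Ω)
    with hCdef
  have hCG : C ≤ G := inf_le_left.trans inf_le_left
  have hCw : ∀ k ∈ C, ∀ v ∈ W', Commute k v := fun k hk v hv =>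
    (Subgroup.mem_centralizer_iff.1 hk.1.2 v hv).symm
  have hCa : ∀ k ∈ C, Commute k a0 := fun k hk => Subgroup.mem_centralizer_singleton_iff.1 hk.2
  have hdec : ∀ g ∈ G, ∃ i j : ℕ, ∃ k ∈ C, g = a0 ^ i * w ^ j * k := by
    intro g hg
    obtain ⟨i, hi⟩ := hpowers c hcZ hc1 _ (hWc g (hGS hg) w hw)
    have hai : a0 ^ i * w * (a0 ^ i)⁻¹ = c ^ i * w :=
      conj_pow_of (hcen c hcZ a0 ha0S).symm (by rw [hcdef]; group) i
    set g1 := (a0 ^ i)⁻¹ * g with hg1
    have hg1G : g1 ∈ G := G.mul_mem (G.inv_mem (G.pow_mem ha0G i)) hg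
    have hg1w : g1 * w = w * g1 := by
      have h1 : g * w * g⁻¹ = a0 ^ i * w * (a0 ^ i)⁻¹ := by rw [hai, hi]; group
      calc g1 * w = (a0 ^ i)⁻¹ * (g * w * g⁻¹) * g := by rw [hg1]; group
        _ = (a0 ^ i)⁻¹ * (a0 ^ i * w * (a0 ^ i)⁻¹) * g := by rw [h1]
        _ = w * g1 := by rw [hg1]; group
    obtain ⟨j, hj⟩ := hpowers c⁻¹ (inv_mem hcZ) (inv_ne_one.2 hc1) _
      (show g1 * a0 * g1⁻¹ * a0⁻¹ ∈ zS S p by
        have := inv_mem (hAc a0 ha0 g1 hg1G)
        rwa [show (a0 * g1 * a0⁻¹ * g1⁻¹)⁻¹ = g1 * a0 * g1⁻¹ * a0⁻¹ by group] at this)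
    have hwj : w ^ j * a0 * (w ^ j)⁻¹ = c⁻¹ ^ j * a0 :=
      conj_pow_of (hcen _ (inv_mem hcZ) w hwS).symm (by rw [hcdef]; group) j
    refine ⟨i, j, (w ^ j)⁻¹ * g1, ⟨⟨G.mul_mem (G.inv_mem (G.pow_mem hwG j)) hg1G, ?_⟩, ?_⟩, ?_⟩
    · refine Subgroup.mem_centralizer_iff.2 fun v hv => ?_
      exact ((Commute.inv_left ((show Commute w v from hW'.elem.2 w hw v hv).pow_left j)).mul_left
        (hcentW g1 (hGS hg1G) hg1w v hv)).symm
    · refine Subgroup.mem_centralizer_singleton_iff.2 ?_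
      have h1 : g1 * a0 * g1⁻¹ = w ^ j * a0 * (w ^ j)⁻¹ := by rw [hwj, hj]; group
      calc (w ^ j)⁻¹ * g1 * a0 = (w ^ j)⁻¹ * (g1 * a0 * g1⁻¹) * g1 := by group
        _ = (w ^ j)⁻¹ * (w ^ j * a0 * (w ^ j)⁻¹) * g1 := by rw [h1]
        _ = a0 * ((w ^ j)⁻¹ * g1) := by group
    · rw [hg1]; group
  -- commutators and powers of the outer factor
  have hta : ∀ i j : ℕ, ∀ g ∈ G,
      a0 ^ i * w ^ j * g * (a0 ^ i * w ^ j)⁻¹ * g⁻¹ ∈ zS S p := by
    intro i j g hg
    have ha : a0 ^ i ∈ A := A.pow_mem ha0 i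
    have hv : w ^ j ∈ W' := W'.pow_mem hw j
    have h1 : w ^ j * g * (w ^ j)⁻¹ * g⁻¹ ∈ zS S p := by
      have := inv_mem (hWc g (hGS hg) _ hv)
      rwa [show (g * w ^ j * g⁻¹ * (w ^ j)⁻¹)⁻¹ = w ^ j * g * (w ^ j)⁻¹ * g⁻¹ by group] at this
    have h2 := (hcen _ h1 _ (hGS (hAG ha))).eq
    rw [show a0 ^ i * w ^ j * g * (a0 ^ i * w ^ j)⁻¹ * g⁻¹ =
      a0 ^ i * (w ^ j * g * (w ^ j)⁻¹ * g⁻¹) * g * (a0 ^ i)⁻¹ * g⁻¹ by group, ← h2,
      show w ^ j * g * (w ^ j)⁻¹ * g⁻¹ * a0 ^ i * g * (a0 ^ i)⁻¹ * g⁻¹ =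
        (w ^ j * g * (w ^ j)⁻¹ * g⁻¹) * (a0 ^ i * g * (a0 ^ i)⁻¹ * g⁻¹) by group]
    exact mul_mem h1 (hAc _ ha g hg)
  have htp : ∀ i j : ℕ, (a0 ^ i * w ^ j) ^ p ∈ zS S p := by
    intro i j
    set a := a0 ^ i with hadef
    set v := w ^ j with hvdef
    have ha : a ∈ A := A.pow_mem ha0 i
    have hv : v ∈ W' := W'.pow_mem hw j
    have key : ∀ n : ℕ, ∃ z ∈ zS S p, (a * v) ^ n = z * (a ^ n * v ^ n) := by
      intro n
      induction n with
      | zero => exact ⟨1, one_mem _, by simp⟩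
      | succ n ih =>
        obtain ⟨z, hzz, he⟩ := ih
        have h1 : v ^ n * a * (v ^ n)⁻¹ * a⁻¹ ∈ zS S p := by
          have := inv_mem (hAc a ha (v ^ n) (hW'G (W'.pow_mem hv n)))
          rwa [show (a * v ^ n * a⁻¹ * (v ^ n)⁻¹)⁻¹ = v ^ n * a * (v ^ n)⁻¹ * a⁻¹ by group] at this
        have h2 := (hcen _ h1 (a ^ n) (hGS (G.pow_mem (hAG ha) n))).eq
        refine ⟨z * (v ^ n * a * (v ^ n)⁻¹ * a⁻¹), mul_mem hzz h1, ?_⟩
        rw [pow_succ, he, pow_succ a, pow_succ v]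
        calc z * (a ^ n * v ^ n) * (a * v)
            = z * (a ^ n * (v ^ n * a * (v ^ n)⁻¹ * a⁻¹)) * (a * v ^ n * v) := by group
          _ = z * (v ^ n * a * (v ^ n)⁻¹ * a⁻¹ * a ^ n) * (a * v ^ n * v) := by rw [h2]
          _ = z * (v ^ n * a * (v ^ n)⁻¹ * a⁻¹) * (a ^ n * a * (v ^ n * v)) := by group
    obtain ⟨z, hzz, he⟩ := key p
    rwa [he, hApow a ha, hW'.elem.1 v hv, one_mul, mul_one]
  -- `C` modulo `zS` is cyclic
  haveI : Finite C := finite_of_le ‹_› (hCG.trans hGS)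
  have hzC : zS S p ≤ C := fun z hzz => ⟨⟨hzG hzz, Subgroup.mem_centralizer_iff.2 fun v hv =>
    (hcen z hzz v (hES (hW'.le hv))).eq.symm⟩,
    Subgroup.mem_centralizer_singleton_iff.2 (hcen z hzz a0 ha0S).eq⟩
  have hCp : IsPGroup p C := h.pgrp.to_le (hCG.trans hGS)
  obtain ⟨c1, hc1C, hCgen⟩ : ∃ c1 ∈ C, C ≤ zS S p ⊔ Subgroup.zpowers c1 := by
    set R : Subgroup C := (zS S p).subgroupOf C ⊔ frattini C with hR
    have hRC : R.map C.subtype ≤ C := Subgroup.map_subtype_le R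
    have hzR : zS S p ≤ R.map C.subtype := fun z hzz =>
      ⟨⟨z, hzC hzz⟩, Subgroup.mem_sup_left hzz, rfl⟩
    have hidx : R.index ≤ p := by
      have hsec : (R.map C.subtype).relIndex G ≤ p ^ 3 := by
        refine section_card_le h (hRC.trans hCG) hGS ?_ ?_
        · intro g hg
          obtain ⟨i, j, k, hk, rfl⟩ := hdec g hg
          have hcm : Commute (a0 ^ i * w ^ j) k :=
            (((hCa k hk).pow_right i).mul_right ((hCw k hk w hw).pow_right j)).symm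
          rw [hcm.mul_pow]
          refine mul_mem (hzR (htp i j)) ⟨⟨k, hk⟩ ^ p, ?_, by simp⟩
          exact Subgroup.mem_sup_right (PGroup.pow_mem_frattini hCp _)
        · intro g hg g' hg'
          obtain ⟨i, j, k, hk, rfl⟩ := hdec g hg
          obtain ⟨i', j', k', hk', rfl⟩ := hdec g' hg'
          set t := a0 ^ i * w ^ j with ht
          set t' := a0 ^ i' * w ^ j' with ht'
          have hkt' : Commute k t' :=
            ((hCa k hk).pow_right i').mul_right ((hCw k hk w hw).pow_right j')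
          have hkc : k * k' * k⁻¹ * k'⁻¹ ∈ C :=
            C.mul_mem (C.mul_mem (C.mul_mem hk hk') (C.inv_mem hk)) (C.inv_mem hk')
          have hq : Commute (k * k' * k⁻¹ * k'⁻¹) t :=
            ((hCa _ hkc).pow_right i).mul_right ((hCw _ hkc w hw).pow_right j)
          have hq' : Commute (k * k' * k⁻¹ * k'⁻¹) t' :=
            ((hCa _ hkc).pow_right i').mul_right ((hCw _ hkc w hw).pow_right j')
          have hkk : k * (t' * k') * k⁻¹ * (t' * k')⁻¹ = k * k' * k⁻¹ * k'⁻¹ := by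
            calc k * (t' * k') * k⁻¹ * (t' * k')⁻¹ = k * t' * k' * k⁻¹ * k'⁻¹ * t'⁻¹ := by group
              _ = t' * (k * k' * k⁻¹ * k'⁻¹) * t'⁻¹ := by rw [hkt'.eq]; group
              _ = k * k' * k⁻¹ * k'⁻¹ := by rw [← hq'.eq, mul_inv_cancel_right]
          have hall : t * k * (t' * k') * (t * k)⁻¹ * (t' * k')⁻¹ =
              k * k' * k⁻¹ * k'⁻¹ * (t * (t' * k') * t⁻¹ * (t' * k')⁻¹) := by
            calc t * k * (t' * k') * (t * k)⁻¹ * (t' * k')⁻¹
                = t * (k * (t' * k') * k⁻¹ * (t' * k')⁻¹) * ((t' * k') * t⁻¹ * (t' * k')⁻¹) := by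
                  group
              _ = k * k' * k⁻¹ * k'⁻¹ * (t * (t' * k') * t⁻¹ * (t' * k')⁻¹) := by
                  rw [hkk, ← hq.eq]; group
          rw [hall]
          refine mul_mem ⟨⁅(⟨k, hk⟩ : C), ⟨k', hk'⟩⁆,
            Subgroup.mem_sup_right (PGroup.commutatorElement_mem_frattini hCp _ _), ?_⟩
            (hzR (hta i j _ hg'))
          simp [commutatorElement_def]
      have hM : C ≤ G ⊓ Subgroup.centralizer (W' : Set Ω) := inf_le_left
      have h1 := Subgroup.relIndex_mul_relIndex (R.map C.subtype) C G hRC hCG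
      have h2 := Subgroup.relIndex_mul_relIndex C (G ⊓ Subgroup.centralizer (W' : Set Ω)) G hM inf_le_left
      have h3 : p ≤ C.relIndex (G ⊓ Subgroup.centralizer (W' : Set Ω)) :=
        le_relIndex h.pgrp (inf_le_left.trans hGS) hM (v := w)
          ⟨hwG, Subgroup.mem_centralizer_iff.2 fun v hv => hW'.elem.2 v hv w hw⟩
          fun e => hwne (hCa w e).eq.symm
      have h4 : p ≤ (G ⊓ Subgroup.centralizer (W' : Set Ω)).relIndex G :=
        le_relIndex h.pgrp hGS inf_le_left (v := a0) ha0G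
          fun e => hwne (Subgroup.mem_centralizer_iff.1 e.2 w hw).symm
      have h5 : (R.map C.subtype).relIndex C = R.index := by
        have h0 := Subgroup.relIndex_map_map_of_injective R ⊤ C.subtype_injective
        rwa [← MonoidHom.range_eq_map, Subgroup.range_subtype, Subgroup.relIndex_top_right] at h0
      rw [h5] at h1
      have h6 : R.index * (p * p) ≤ p * (p * p) := by
        calc R.index * (p * p) ≤ R.index * C.relIndex G := by
              rw [← h2]; exact Nat.mul_le_mul_left _ (Nat.mul_le_mul h3 h4)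
          _ ≤ p * (p * p) := by rw [h1]; exact hsec.trans (le_of_eq (by ring))
      exact Nat.le_of_mul_le_mul_right h6 (Nat.mul_pos hpp.pos hpp.pos)
    have hgen : ∀ c1 : C, R ⊔ Subgroup.zpowers c1 = ⊤ → C ≤ zS S p ⊔ Subgroup.zpowers (c1 : Ω) := by
      intro c1 e
      have h1 : (zS S p).subgroupOf C ⊔ Subgroup.zpowers c1 = ⊤ := by
        refine frattini_nongenerating ?_
        rw [← e, hR, sup_right_comm]
      intro v hv
      have h2 : (⟨v, hv⟩ : C) ∈ (zS S p ⊔ Subgroup.zpowers (c1 : Ω)).subgroupOf C := by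
        refine (show (zS S p).subgroupOf C ⊔ Subgroup.zpowers c1 ≤ _ from sup_le
          (Subgroup.comap_mono le_sup_left) (Subgroup.zpowers_le.2
            (Subgroup.mem_sup_right (Subgroup.mem_zpowers _)))) (h1 ▸ Subgroup.mem_top _)
      exact h2
    by_cases hRt : R = ⊤
    · exact ⟨1, one_mem _, hgen 1 (by rw [hRt, top_sup_eq])⟩
    · obtain ⟨c1, hc1⟩ : ∃ c1, c1 ∉ R := by
        by_contra! hc
        exact hRt ((Subgroup.eq_top_iff' R).2 hc)
      refine ⟨c1, c1.2, hgen c1 ?_⟩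
      obtain ⟨n, hn⟩ := hCp.index R
      have hn1 : R.index = p := by
        rcases n with _ | n
        · exact absurd (Subgroup.index_eq_one.1 (by simpa using hn)) hRt
        · refine le_antisymm hidx ?_
          rw [hn]
          exact Nat.le_self_pow (Nat.succ_ne_zero n) p
      have hd : (R ⊔ Subgroup.zpowers c1).index ∣ p :=
        hn1 ▸ Subgroup.index_dvd_of_le le_sup_left
      rcases (Nat.dvd_prime hpp).1 hd with e | e
      · exact Subgroup.index_eq_one.1 e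
      · exfalso
        have h1 := Subgroup.relIndex_mul_index (show R ≤ R ⊔ Subgroup.zpowers c1 from le_sup_left)
        rw [e, hn1] at h1
        have h2 : R.relIndex (R ⊔ Subgroup.zpowers c1) = 1 :=
          Nat.eq_of_mul_eq_mul_right hpp.pos (h1.trans (one_mul p).symm)
        exact hc1 (Subgroup.relIndex_eq_one.1 h2 (Subgroup.mem_sup_right (Subgroup.mem_zpowers c1)))
  have hCcomm : ∀ k ∈ C, ∀ k' ∈ C, Commute k k' := by
    intro k hk k' hk'
    have h1 : zS S p ⊔ Subgroup.zpowers c1 ≤ Subgroup.centralizer ({c1} : Set Ω) :=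
      sup_le (fun z hzz => Subgroup.mem_centralizer_singleton_iff.2
        (hcen z hzz c1 (hGS (hCG hc1C))).eq)
        (Subgroup.zpowers_le.2 (Subgroup.mem_centralizer_singleton_iff.2 rfl))
    have h2 : zS S p ⊔ Subgroup.zpowers c1 ≤ Subgroup.centralizer ({k} : Set Ω) :=
      sup_le (fun z hzz => Subgroup.mem_centralizer_singleton_iff.2
        (hcen z hzz k (hGS (hCG hk))).eq)
        (Subgroup.zpowers_le.2 (Subgroup.mem_centralizer_singleton_iff.2
          (Subgroup.mem_centralizer_singleton_iff.1 (h1 (hCgen hk))).symm))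
    exact (Subgroup.mem_centralizer_singleton_iff.1 (h2 (hCgen hk'))).symm
  -- the intersection
  set M : Subgroup Ω := G ⊓ E' with hMdef
  have ha0ord : orderOf a0 = p :=
    orderOf_eq_prime (hApow a0 ha0) fun e => ha0E (e ▸ one_mem E')
  have hMdec : ∀ m ∈ M, ∃ j : ℕ, ∃ k ∈ C, m = w ^ j * k := by
    intro m hm
    obtain ⟨i, j, k, hk, rfl⟩ := hdec m hm.1
    have hkE : k ∈ E' := hW'.cent.le ⟨hGS (hCG hk), hk.1.2⟩
    have hai : a0 ^ i ∈ E' := by
      have h1 := E'.mul_mem (E'.mul_mem hm.2 (E'.inv_mem hkE)) (E'.inv_mem (E'.pow_mem (hW'.le hw) j))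
      rwa [show a0 ^ i * w ^ j * k * k⁻¹ * (w ^ j)⁻¹ = a0 ^ i by group] at h1
    have hai1 : a0 ^ i = 1 := by
      by_contra hne
      have hco : i.Coprime (orderOf a0) := by
        rw [ha0ord, Nat.coprime_comm, hpp.coprime_iff_not_dvd]
        intro hd
        exact hne (orderOf_dvd_iff_pow_eq_one.1 (ha0ord ▸ hd))
      obtain ⟨r, hr⟩ := exists_pow_eq_self_of_coprime hco
      exact ha0E (hr ▸ E'.pow_mem hai r)
    exact ⟨j, k, hk, by rw [hai1, one_mul]⟩
  have hMcomm : ∀ m ∈ M, ∀ m' ∈ M, Commute m m' := by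
    intro m hm m' hm'
    obtain ⟨j, k, hk, rfl⟩ := hMdec m hm
    obtain ⟨j', k', hk', rfl⟩ := hMdec m' hm'
    exact ((Commute.pow_pow (Commute.refl w) j j').mul_right ((hCw k' hk' w hw).symm.pow_left j)).mul_left
      (((hCw k hk w hw).pow_right j').mul_right (hCcomm k hk k' hk'))
  have hW'M : W' ≤ M := le_inf hW'G hW'.le
  have hCM : C ≤ M := fun k hk => ⟨hCG hk, hW'.cent.le ⟨hGS (hCG hk), hk.1.2⟩⟩
  have hMn : ∀ s ∈ S, ∀ v ∈ M, s * v * s⁻¹ ∈ M := fun s hs v hv =>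
    ⟨hGn s hs v hv.1, hEn s hs v hv.2⟩
  obtain ⟨x, hxE, hxG⟩ : ∃ x ∈ E', x ∉ G := by
    by_contra! hc
    have h1 := Subgroup.relIndex_mul_relIndex E' G S (fun v hv => hc v hv) hGS
    rw [relIndex_eq h hG, relIndex_eq h hE'.1] at h1
    have h2 : E'.relIndex G = 1 := Nat.eq_of_mul_eq_mul_right hpp.pos (h1.trans (one_mul p).symm)
    exact ha0E (Subgroup.relIndex_eq_one.1 h2 ha0G)
  have hxS : x ∈ S := hES hxE
  have hxfin : IsOfFinOrder x := by
    have h1 : IsOfFinOrder (⟨x, hxS⟩ : S) := isOfFinOrder_of_finite _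
    exact S.subtype.isOfFinOrder h1
  have hEdec : ∀ e ∈ E', ∃ m ∈ M, ∃ i : ℕ, e = m * x ^ i := by
    intro e he
    have hxn : Subgroup.zpowers x ≤ Subgroup.normalizer (G : Set Ω) :=
      Subgroup.zpowers_le.2 (h.normal G hG hxS)
    have hS' : G ⊔ Subgroup.zpowers x = S := by
      refine le_antisymm (sup_le hGS (Subgroup.zpowers_le.2 hxS)) ?_
      have h1 := Subgroup.relIndex_mul_relIndex G (G ⊔ Subgroup.zpowers x) S le_sup_left
        (sup_le hGS (Subgroup.zpowers_le.2 hxS))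
      rw [relIndex_eq h hG] at h1
      have h2 := le_relIndex h.pgrp (sup_le hGS (Subgroup.zpowers_le.2 hxS)) le_sup_left
        (Subgroup.mem_sup_right (Subgroup.mem_zpowers x)) hxG
      rcases (Nat.dvd_prime hpp).1 ⟨_, h1.symm⟩ with e1 | e1
      · rw [e1] at h2
        exact absurd h2 (not_le.2 hpp.one_lt)
      · rw [e1] at h1
        exact Subgroup.relIndex_eq_one.1
          (Nat.eq_of_mul_eq_mul_left hpp.pos (h1.trans (mul_one p).symm))
    have he' : e ∈ G ⊔ Subgroup.zpowers x := hS'.symm ▸ hES he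
    rw [← SetLike.mem_coe, Subgroup.coe_mul_of_right_le_normalizer_left G _ hxn] at he'
    obtain ⟨g, hg, v, hv, rfl⟩ := he'
    obtain ⟨i, rfl⟩ := hxfin.mem_powers_iff_mem_zpowers.2 hv
    refine ⟨g, ⟨hg, ?_⟩, i, rfl⟩
    have := mul_mem he (inv_mem (E'.pow_mem hxE i))
    rwa [show g * x ^ i * (x ^ i)⁻¹ = g by group] at this
  -- the derived group is cyclic
  let f : M →* Ω := MonoidHom.mk' (fun m => x * m * x⁻¹ * (m : Ω)⁻¹) (fun m n => by
    have hc1' : Commute (m : Ω)⁻¹ (x * n * x⁻¹ * (n : Ω)⁻¹) :=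
      (hMcomm _ m.2 _ (M.mul_mem (hMn x hxS n n.2) (M.inv_mem n.2))).inv_left
    calc x * ((m * n : M) : Ω) * x⁻¹ * ((m * n : M) : Ω)⁻¹
        = x * m * x⁻¹ * ((x * n * x⁻¹ * (n : Ω)⁻¹) * (m : Ω)⁻¹) := by
          rw [Subgroup.coe_mul]; group
      _ = x * m * x⁻¹ * (m : Ω)⁻¹ * (x * n * x⁻¹ * (n : Ω)⁻¹) := by rw [← hc1'.eq]; group)
  set d := x * c1 * x⁻¹ * c1⁻¹ with hddef
  set D := Subgroup.zpowers d with hDdef
  have hdM : d ∈ M := M.mul_mem (hMn x hxS c1 (hCM hc1C)) (M.inv_mem (hCM hc1C))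
  have hDM : D ≤ M := Subgroup.zpowers_le.2 hdM
  have hf : ∀ m ∈ M, x * m * x⁻¹ * m⁻¹ ∈ D := by
    set Km : Subgroup Ω := (D.comap f).map M.subtype with hKm
    have hmem : ∀ v (hv : v ∈ M), x * v * x⁻¹ * v⁻¹ ∈ D → v ∈ Km := fun v hv he =>
      ⟨⟨v, hv⟩, he, rfl⟩
    have hWK : ∀ v ∈ W', v ∈ Km := fun v hv => hmem v (hW'M hv) (by
      have e : x * v = v * x := (Subgroup.mem_centralizer_iff.1 (hW'.cent.ge hxE).2 v hv).symm
      rw [e, mul_inv_cancel_right, mul_inv_cancel]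
      exact one_mem D)
    intro m hm
    obtain ⟨j, k, hk, rfl⟩ := hMdec m hm
    have hk' : k ∈ Km := (show zS S p ⊔ Subgroup.zpowers c1 ≤ Km from
      sup_le (fun z hzz => hWK z (hW'.zS_lt.le hzz))
        (Subgroup.zpowers_le.2 (hmem c1 (hCM hc1C) (Subgroup.mem_zpowers d)))) (hCgen hk)
    obtain ⟨⟨v, hv⟩, he, hve⟩ := Km.mul_mem (hWK _ (W'.pow_mem hw j)) hk'
    change v = _ at hve
    subst hve
    exact he
  have hxD : ∀ v ∈ D, x * v * x⁻¹ ∈ D := fun v hv => by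
    have h1 := mul_mem (hf v (hDM hv)) hv
    rwa [show x * v * x⁻¹ * v⁻¹ * v = x * v * x⁻¹ by group] at h1
  have hMD : ∀ m ∈ M, ∀ v ∈ D, m * v * m⁻¹ ∈ D := fun m hm v hv => by
    rwa [(hMcomm m hm v (hDM hv)).eq, mul_inv_cancel_right]
  have hxim : ∀ (i : ℕ), ∀ m ∈ M, x ^ i * m * (x ^ i)⁻¹ * m⁻¹ ∈ D := by
    intro i
    induction i with
    | zero => intro m _; simp [one_mem]
    | succ i ih =>
      intro m hm
      rw [show x ^ (i + 1) * m * (x ^ (i + 1))⁻¹ * m⁻¹ =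
        x * (x ^ i * m * (x ^ i)⁻¹ * m⁻¹) * x⁻¹ * (x * m * x⁻¹ * m⁻¹) by rw [pow_succ']; group]
      exact mul_mem (hxD _ (ih m hm)) (hf m hm)
  have hcomD : ∀ e ∈ E', ∀ e' ∈ E', e * e' * e⁻¹ * e'⁻¹ ∈ D := by
    intro e he e' he'
    obtain ⟨m, hm, i, rfl⟩ := hEdec e he
    obtain ⟨m', hm', i', rfl⟩ := hEdec e' he'
    have hmx : ∀ n : ℕ, m * x ^ i * x ^ n * (m * x ^ i)⁻¹ * (x ^ n)⁻¹ ∈ D := by
      intro n
      have h1 := inv_mem (hxim n m hm)
      rwa [show (x ^ n * m * (x ^ n)⁻¹ * m⁻¹)⁻¹ = m * x ^ i * x ^ n * (m * x ^ i)⁻¹ * (x ^ n)⁻¹ by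
        group] at h1
    have hmm : m * x ^ i * m' * (m * x ^ i)⁻¹ * m'⁻¹ ∈ D := by
      rw [show m * x ^ i * m' * (m * x ^ i)⁻¹ * m'⁻¹ =
        m * (x ^ i * m' * (x ^ i)⁻¹ * m'⁻¹) * m⁻¹ * (m * m' * m⁻¹ * m'⁻¹) by group]
      refine mul_mem (hMD m hm _ (hxim i m' hm')) ?_
      rw [(hMcomm m hm m' hm').eq, mul_inv_cancel_right, mul_inv_cancel]
      exact one_mem D
    rw [show m * x ^ i * (m' * x ^ i') * (m * x ^ i)⁻¹ * (m' * x ^ i')⁻¹ =
      (m * x ^ i * m' * (m * x ^ i)⁻¹ * m'⁻¹) *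
        (m' * (m * x ^ i * x ^ i' * (m * x ^ i)⁻¹ * (x ^ i')⁻¹) * m'⁻¹) by group]
    exact mul_mem hmm (hMD m' hm' _ (hmx i'))
  -- `E'` is abelian
  have hEab : ∀ e ∈ E', ∀ e' ∈ E', e * e' = e' * e := by
    by_contra hnab
    push Not at hnab
    obtain ⟨e, he, e', he', hne⟩ := hnab
    set K : Subgroup Ω := Subgroup.closure {v | ∃ a ∈ E', ∃ b ∈ E', a * b * a⁻¹ * b⁻¹ = v}
      with hKdef
    have hKD : K ≤ D := (Subgroup.closure_le _).2 (by rintro _ ⟨a, ha, b, hb, rfl⟩; exact hcomD a ha b hb)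
    have hKE : K ≤ E' := fun v hv => (hDM (hKD hv)).2
    have hKinv : Inv F E' K := by
      intro β _
      have : K.subgroupOf E' ≤ (K.subgroupOf E').comap β.toMonoidHom := by
        intro v hv
        have hgen : K ≤ ((K.subgroupOf E').comap β.toMonoidHom).map E'.subtype := by
          refine (Subgroup.closure_le _).2 ?_
          rintro _ ⟨a, ha, b, hb, rfl⟩
          refine ⟨⟨a, ha⟩ * ⟨b, hb⟩ * (⟨a, ha⟩ : E')⁻¹ * (⟨b, hb⟩ : E')⁻¹, ?_, by simp⟩
          show ((β (⟨a, ha⟩ * ⟨b, hb⟩ * (⟨a, ha⟩ : E')⁻¹ * (⟨b, hb⟩ : E')⁻¹) : E') : Ω) ∈ K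
          refine Subgroup.subset_closure ⟨β ⟨a, ha⟩, (β ⟨a, ha⟩).2, β ⟨b, hb⟩, (β ⟨b, hb⟩).2, ?_⟩
          simp only [map_mul, map_inv, Subgroup.coe_mul, Subgroup.coe_inv]
        obtain ⟨u, hu, huv⟩ := hgen hv
        have : u = v := Subtype.ext huv
        exact this ▸ hu
      exact fun v hv => this hv
    have hDc : ∀ a ∈ D, ∀ b ∈ D, Commute a b := fun a ha b hb => hMcomm a (hDM ha) b (hDM hb)
    let K0 : Subgroup Ω :=
      { carrier := {v | v ∈ K ∧ v ^ p = 1}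
        one_mem' := ⟨one_mem _, one_pow _⟩
        mul_mem' := fun {a b} ha hb => ⟨mul_mem ha.1 hb.1, by
          rw [(hDc a (hKD ha.1) b (hKD hb.1)).mul_pow, ha.2, hb.2, one_mul]⟩
        inv_mem' := fun {a} ha => ⟨inv_mem ha.1, by rw [inv_pow, ha.2, inv_one]⟩ }
    have hK0E : K0 ≤ E' := fun v hv => hKE hv.1
    have hK0inv : Inv F E' K0 := fun β hβ v hv =>
      ⟨hKinv β hβ v hv.1, by
        rw [← Subgroup.coe_pow, ← map_pow, show v ^ p = 1 from Subtype.ext hv.2, map_one]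
        rfl⟩
    haveI : Finite K := finite_of_le ‹_› (hKE.trans hES)
    have hKne : K ≠ ⊥ := fun eb => by
      have h1 : e * e' * e⁻¹ * e'⁻¹ ∈ K := Subgroup.subset_closure ⟨e, he, e', he', rfl⟩
      rw [eb, Subgroup.mem_bot] at h1
      exact hne (mul_inv_eq_iff_eq_mul.1 (mul_inv_eq_one.1 h1))
    obtain ⟨u, hu⟩ := exists_prime_orderOf_dvd_card' (G := K) p
      ((h.pgrp.to_le (hKE.trans hES)).card_eq_or_dvd.resolve_left fun e1 =>
        hKne (Subgroup.card_eq_one.1 e1))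
    have hu0 : (u : Ω) ∈ K0 := ⟨u.2, by
      rw [← Subgroup.coe_pow, ← hu, pow_orderOf_eq_one]; rfl⟩
    have hu1 : (u : Ω) ≠ 1 := fun e1 => by
      rw [show u = 1 from Subtype.ext e1, orderOf_one] at hu
      exact hpp.ne_one hu.symm
    have hzK : zS S p ≤ K0 := zS_le_of_normal h.pgrp hz (hK0E.trans hES)
      (fun eb => hu1 (by rwa [eb, Subgroup.mem_bot] at hu0)) (conj_mem_of_inv h hE'.1 hK0E hK0inv)
    haveI : IsCyclic D := Subgroup.isCyclic_zpowers d
    haveI : IsCyclic K0 := Subgroup.isCyclic_of_le (show K0 ≤ D from fun v hv => hKD hv.1)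
    haveI : Finite K0 := finite_of_le ‹_› (hK0E.trans hES)
    obtain ⟨g, hg⟩ := IsCyclic.exists_ofOrder_eq_natCard (α := K0)
    have hcard : Nat.card K0 ≤ p := hg ▸ Nat.le_of_dvd hpp.pos
      (orderOf_dvd_of_pow_eq_one (Subtype.ext (by rw [Subgroup.coe_pow]; exact g.2.2)))
    have heq : zS S p = K0 := Subgroup.eq_of_le_of_card_ge hzK (hz.symm ▸ hcard)
    exact hE'.2 (heq ▸ hK0inv)
  -- exponent `p`
  have hEexp : ∀ e ∈ E', e ^ p = 1 := by
    by_contra hc
    push Not at hc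
    obtain ⟨e0, he0, he0p⟩ := hc
    let Pw : Subgroup Ω :=
      { carrier := {v | ∃ e ∈ E', e ^ p = v}
        one_mem' := ⟨1, one_mem _, one_pow _⟩
        mul_mem' := by
          rintro _ _ ⟨a, ha, rfl⟩ ⟨b, hb, rfl⟩
          exact ⟨a * b, mul_mem ha hb, (show Commute a b from hEab a ha b hb).mul_pow p⟩
        inv_mem' := by
          rintro _ ⟨a, ha, rfl⟩
          exact ⟨a⁻¹, inv_mem ha, inv_pow a p⟩ }
    have hPE : Pw ≤ E' := by rintro _ ⟨a, ha, rfl⟩; exact E'.pow_mem ha p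
    have hPinv : Inv F E' Pw := by
      rintro β - v ⟨a, ha, hav⟩
      refine ⟨((β ⟨a, ha⟩ : E') : Ω), (β ⟨a, ha⟩).2, ?_⟩
      rw [← Subgroup.coe_pow, ← map_pow, show (⟨a, ha⟩ : E') ^ p = v from Subtype.ext hav]
    have hzP : zS S p ≤ Pw := zS_le_of_normal h.pgrp hz (hPE.trans hES)
      (fun eb => he0p (by
        have h1 : e0 ^ p ∈ Pw := ⟨e0, he0, rfl⟩
        rwa [eb, Subgroup.mem_bot] at h1)) (conj_mem_of_inv h hE'.1 hPE hPinv)
    have hWP : W' ≤ Pw := iSup_le fun β => by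
      rintro _ ⟨v, hv, rfl⟩
      exact hPinv β β.2 v (hzP hv)
    obtain ⟨e, he, hew⟩ := hWP hw
    have heG : e ∉ G := by
      intro heG
      obtain ⟨j, k, hk, hek⟩ := hMdec e ⟨heG, he⟩
      rw [hek, ((hCw k hk w hw).symm.pow_left j).mul_pow, ← pow_mul, mul_comm j, pow_mul,
        hW'.elem.1 w hw, one_pow, one_mul] at hew
      exact hwne (hew ▸ ((hCa k hk).pow_left p).eq.symm)
    set b := e⁻¹ * (a0 * e * a0⁻¹) with hbdef
    have hbE : b ∈ E' := mul_mem (inv_mem he) (hEn a0 ha0S e he)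
    have hbG : b ∈ G := by
      rw [hbdef, show e⁻¹ * (a0 * e * a0⁻¹) = e⁻¹ * a0 * e⁻¹⁻¹ * a0⁻¹ by group]
      exact mul_mem (hGn e⁻¹ (inv_mem (hES he)) a0 ha0G) (inv_mem ha0G)
    set y := a0 * b * a0⁻¹ * b⁻¹ with hydef
    have hy : y ∈ zS S p := hAc a0 ha0 b hbG
    have hiter : ∀ n : ℕ, a0 ^ n * e * (a0 ^ n)⁻¹ = e * b ^ n * y ^ n.choose 2 := by
      intro n
      induction n with
      | zero => simp
      | succ n ih =>
        have hay : a0 * y ^ n.choose 2 * a0⁻¹ = y ^ n.choose 2 := by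
          rw [← ((hcen y hy a0 ha0S).pow_left _).eq, mul_inv_cancel_right]
        have hbn : a0 * b ^ n * a0⁻¹ = y ^ n * b ^ n := by
          have h1 : a0 * b * a0⁻¹ = y * b := by rw [hydef]; group
          rw [← MulAut.conj_apply, map_pow, MulAut.conj_apply, h1,
            (hcen y hy b (hES hbE)).mul_pow]
        calc a0 ^ (n + 1) * e * (a0 ^ (n + 1))⁻¹ = a0 * (a0 ^ n * e * (a0 ^ n)⁻¹) * a0⁻¹ := by
              rw [pow_succ']; group
          _ = a0 * e * a0⁻¹ * (a0 * b ^ n * a0⁻¹) * (a0 * y ^ n.choose 2 * a0⁻¹) := by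
              rw [ih]; group
          _ = e * b * (y ^ n * b ^ n) * y ^ n.choose 2 := by
              rw [hbn, hay, show a0 * e * a0⁻¹ = e * b by rw [hbdef]; group]
          _ = e * b * (b ^ n * y ^ n) * y ^ n.choose 2 := by
              rw [((hcen y hy b (hES hbE)).pow_pow n n).eq]
          _ = e * b ^ (n + 1) * y ^ (n + 1).choose 2 := by
              rw [Nat.choose_succ_succ' n 1, Nat.choose_one_right, pow_add y, pow_succ' b]
              group
    have hbp : b ^ p = 1 := by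
      have h1 := hiter p
      obtain ⟨r, hr⟩ := hpp.dvd_choose_self (by norm_num : 2 ≠ 0) hp2
      rw [hr, pow_mul, hy.2.1, one_pow, mul_one, hApow a0 ha0, one_mul, inv_one, mul_one] at h1
      exact mul_left_cancel (h1.symm.trans (mul_one e).symm)
    apply hwne
    have h1 : a0 * w * a0⁻¹ = w := by
      rw [← hew, ← MulAut.conj_apply, map_pow, MulAut.conj_apply,
        show a0 * e * a0⁻¹ = e * b by rw [hbdef]; group,
        (show Commute e b from hEab e he b hbE).mul_pow, hbp, mul_one]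
    exact mul_inv_eq_iff_eq_mul.1 h1
  -- the end
  have hEcard : Nat.card E' ≤ p ^ 3 := elem_card_le h ⟨hEexp, hEab⟩ hES
  have hGcard : Nat.card G = Nat.card E' := by
    have h1 := Subgroup.relIndex_mul_relIndex ⊥ G S bot_le hGS
    have h2 := Subgroup.relIndex_mul_relIndex ⊥ E' S bot_le hES
    rw [Subgroup.relIndex_bot_left, Subgroup.relIndex_bot_left, relIndex_eq h hG] at h1
    rw [Subgroup.relIndex_bot_left, Subgroup.relIndex_bot_left, relIndex_eq h hE'.1] at h2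
    exact Nat.eq_of_mul_eq_mul_right hpp.pos (h1.trans h2.symm)
  have hD : W'.relIndex G = p := by
    refine le_antisymm ?_ (le_relIndex h.pgrp hGS hW'G ha0G fun e => ha0E (hW'.le e))
    have h1 := Subgroup.relIndex_mul_relIndex ⊥ W' G bot_le hW'G
    rw [Subgroup.relIndex_bot_left, Subgroup.relIndex_bot_left, hV E' hE', hGcard] at h1
    refine Nat.le_of_mul_le_mul_left ?_ (pow_pos hpp.pos 2)
    rw [h1, ← pow_succ]
    exact hEcard
  rcases lemA h hG hxS hxG (hEexp x hxE) hW'G hD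
    (fun v hv => (Subgroup.mem_centralizer_iff.1 (hW'.cent.ge hxE).2 v hv).symm) with h1 | ⟨h1, -⟩
  · exact hnot h1
  · exact h1 hz

end Cfsg.Agent.EssMax
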