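import Cfsg.Agent.EssMax.Base
import Cfsg.Agent.FusionSys.Essential

/-!
Transport of essential subgroups by automorphisms of S (S5181).
-/

set_option autoImplicit false

open Cfsg Cfsg.FusionSystem Cfsg.Agent.FusionSys Cfsg.Agent.FusRankThree

namespace Cfsg.Agent.EssMax

universe u

variable {Ω : Type u} [Group Ω] {S : Subgroup Ω} {p : ℕ}

namespace TransportAux

/-- The image of a strongly `p`-embedded subgroup under an isomorphism. -/
theorem spe_map {X Y : Type*} [Group X] [Group Y] [Finite X] [Fact p.Prime] (f : X ≃* Y)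
    {K : Subgroup X} (hK : IsStronglyPEmbedded p K) :
    IsStronglyPEmbedded p (K.map f.toMonoidHom) := by
  have : Finite Y := Finite.of_equiv X f.toEquiv
  obtain ⟨hd, hY, R, hR⟩ := spe_exists_sylow hK
  refine ⟨Nat.card_congr f.toEquiv ▸ hd, fun e => hY ?_,
    R.mapSurjective (f := f.toMonoidHom) f.surjective, ?_⟩
  · refine Subgroup.map_injective (f := f.toMonoidHom) f.injective ?_
    rw [e, Subgroup.map_top_of_surjective f.toMonoidHom f.surjective]
  · refine iSup_le ?_
    rintro ⟨Q, hQR, hQ⟩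
    have hQR' : Q ≤ (R : Subgroup X).map f.toMonoidHom := hQR
    have hQ₀ : Q.comap f.toMonoidHom ≤ (R : Subgroup X) := by
      intro x hx
      obtain ⟨y, hy, hyx⟩ := hQR' hx
      rwa [← f.injective hyx]
    have hmap : (Q.comap f.toMonoidHom).map f.toMonoidHom = Q :=
      Subgroup.map_comap_eq_self_of_surjective f.surjective Q
    have hne : Q.comap f.toMonoidHom ≠ ⊥ := by
      intro e
      refine hQ ?_
      intro A _ _
      rw [e, Subgroup.map_bot] at hmap
      have : Subsingleton Q := hmap ▸ inferInstance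
      rw [Nat.card_unique, Nat.sub_self, pow_zero]
    show Subgroup.normalizer (Q : Set Y) ≤ _
    rw [← hmap]
    refine (le_of_eq (Subgroup.map_equiv_normalizer_eq _ f).symm).trans ?_
    exact Subgroup.map_mono (hR _ hQ₀ hne)

theorem aut_symm_mem {F : FusionSystem S} {β : MulAut S} (hβ : β ∈ F.autGroup S) :
    (β.symm : MulAut S) ∈ F.autGroup S :=
  inv_mem hβ

theorem mem_img_iff {E : Subgroup Ω} {α : MulAut E} {X : Subgroup Ω} (hX : X ≤ E) {v : Ω} :
    v ∈ img α X ↔ ∃ (x : Ω) (hx : x ∈ X), ((α ⟨x, hX hx⟩ : E) : Ω) = v :=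
  ⟨fun ⟨x, hx, e⟩ => ⟨x, hx, e⟩, fun ⟨x, hx, e⟩ => ⟨⟨x, hX hx⟩, hx, e⟩⟩

theorem zS_fix [Fact p.Prime] [Finite S] {F : FusionSystem S} {β : MulAut S} (hβ : β ∈ F.autGroup S) (x : S) :
    ((β x : S) : Ω) ∈ zS S p ↔ (x : Ω) ∈ zS S p := by
  refine ⟨fun hx => ?_, fun hx => zS_inv_self β hβ x hx⟩
  have := zS_inv_self (F := F) (β.symm : MulAut S) (aut_symm_mem hβ) (β x) hx
  simpa using this

end TransportAux

open TransportAux

variable [Fact p.Prime] [Finite S] {F : FusionSystem S}

theorem isEssential_map (h : Ctx p F) {E : Subgroup Ω} (hE : F.IsEssential p E) {β : MulAut S}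
    (hβ : β ∈ F.autGroup S) : F.IsEssential p (img β E) := by
  have hES : E ≤ S := hE.1.1
  have hbe : IsIso F β := (mem_autGroup F le_rfl).1 hβ
  set e : E ≃* ↥(img β E) := restrIso β hES with he
  have hi : IsIso F e := hbe.restrict hES
  have hle : img β E ≤ S := img_le β E
  -- the image is normal in `S`
  have hnorm : S ≤ Subgroup.normalizer (img β E : Set Ω) := by
    have key : ∀ s ∈ S, ∀ y ∈ img β E, s * y * s⁻¹ ∈ img β E := by
      intro s hs y hy
      obtain ⟨x, hx, rfl⟩ := mem_img.1 hy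
      set t : S := β.symm ⟨s, hs⟩ with ht
      refine mem_img.2 ⟨t * x * t⁻¹, ?_, ?_⟩
      · push_cast
        exact (Subgroup.mem_normalizer_iff.1 (h.normal E hE t.2) _).1 hx
      · rw [ht, map_mul, map_mul, map_inv, MulEquiv.apply_symm_apply]
        rfl
    intro s hs
    refine Subgroup.mem_normalizer_iff.2 fun y => ⟨key s hs y, fun hy => ?_⟩
    have := key s⁻¹ (S.inv_mem hs) _ hy
    simpa [mul_assoc] using this
  refine ⟨⟨hle, fun Q hQ => hE.1.2 Q (isConj_trans hi.isConj hQ)⟩, ⟨hle, fun Q _ => ?_⟩, ?_⟩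
  · have : Finite (normalizerIn S (img β E)) := finite_of_le ‹_› (normalizerIn_le _)
    refine Subgroup.card_le_of_le ?_
    exact (normalizerIn_le Q).trans (le_inf le_rfl hnorm)
  · obtain ⟨hn, Y, hY⟩ := hE.2.2
    have := hn
    have hnE : ((Inn ↥(img β E)).subgroupOf (F.autGroup (img β E))).Normal := by
      refine ⟨fun a ha b => ?_⟩
      rw [Subgroup.mem_subgroupOf] at ha ⊢
      obtain ⟨g, hg⟩ := ha
      refine ⟨(b : MulAut ↥(img β E)) g, ?_⟩
      rw [Subgroup.coe_mul, Subgroup.coe_mul, Subgroup.coe_inv, ← hg]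
      ext x
      simp [MulAut.mul_apply, MulAut.conj_apply]
    refine ⟨hnE, ?_⟩
    have := hnE
    have hmap : ((Inn ↥E).subgroupOf (F.autGroup E)).map (autGroupCongr F hi).toMonoidHom =
        (Inn ↥(img β E)).subgroupOf (F.autGroup (img β E)) := by
      ext α
      simp only [Subgroup.mem_map, Subgroup.mem_subgroupOf]
      constructor
      · rintro ⟨a, ⟨g, hg⟩, rfl⟩
        refine ⟨e g, ?_⟩
        show _ = ((autGroupCongr F hi a : F.autGroup (img β E)) : MulAut ↥(img β E))
        rw [autGroupCongr_coe, ← hg]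
        ext x
        simp [MulAut.conj_apply]
      · rintro ⟨g, hg⟩
        refine ⟨(autGroupCongr F hi).symm α, ⟨e.symm g, ?_⟩, ?_⟩
        · have h1 : MulAut.congr e (((autGroupCongr F hi).symm α : F.autGroup E) : MulAut E) =
              (α : MulAut ↥(img β E)) := by
            rw [← autGroupCongr_coe F hi, MulEquiv.apply_symm_apply]
          refine (MulAut.congr e).injective ?_
          rw [h1, ← hg]
          ext x
          simp [MulAut.conj_apply]
        · exact (autGroupCongr F hi).apply_symm_apply α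
    have : Finite E := finite_of_le ‹_› hES
    exact ⟨_, spe_map (QuotientGroup.congr _ _ (autGroupCongr F hi) hmap) hY⟩

theorem noncentral_map (h : Ctx p F) {E : Subgroup Ω} (hE : Noncentral F p E) {β : MulAut S}
    (hβ : β ∈ F.autGroup S) :
    Noncentral F p (img β E) ∧ vsub F p (img β E) = img β (vsub F p E) := by
  have hES : E ≤ S := hE.1.1.1
  have hbe : IsIso F β := (mem_autGroup F le_rfl).1 hβ
  set e : E ≃* ↥(img β E) := restrIso β hES with he
  have hi : IsIso F e := hbe.restrict hES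
  have hz : zS S p ≤ E := zS_le_essential h hE.1
  have hecoe : ∀ x : E, ((e x : ↥(img β E)) : Ω) = ((β ⟨x, hES x.2⟩ : S) : Ω) := fun x => rfl
  have hesymm : ∀ w : ↥(img β E), ((e.symm w : E) : Ω) ∈ zS S p ↔ (w : Ω) ∈ zS S p := by
    intro w
    obtain ⟨x, rfl⟩ := e.surjective w
    rw [MulEquiv.symm_apply_apply, hecoe]
    exact (zS_fix (F := F) hβ ⟨x, hES x.2⟩).symm
  refine ⟨⟨isEssential_map h hE.1 hβ, fun hI => hE.2 fun α hα x hx => ?_⟩, ?_⟩
  · have h1 := hI _ (autCongr_mem F hi hα) (e x)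
      (by rw [hecoe]; exact (zS_fix (F := F) hβ _).2 hx)
    rw [autCongr_apply, MulEquiv.symm_apply_apply, hecoe] at h1
    exact (zS_fix (F := F) hβ _).1 h1
  · have hv : vsub F p E ≤ E := iSup_le fun α => img_le _ _
    refine le_antisymm (iSup_le fun α => ?_) ?_
    · intro v hv'
      obtain ⟨w, hw, rfl⟩ := mem_img.1 hv'
      set a : MulAut E := MulAut.congr e.symm (α : MulAut ↥(img β E)) with ha
      have ha' : a ∈ F.autGroup E := autCongr_mem F hi.symm α.2
      refine (mem_img_iff (hv.trans hES)).2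
        ⟨(a (e.symm w) : E), img_le_vsub ha' ⟨e.symm w, (hesymm w).2 hw, rfl⟩, ?_⟩
      have h2 : e (a (e.symm w)) = (α : MulAut ↥(img β E)) w := by
        rw [ha, autCongr_apply, MulEquiv.symm_symm, MulEquiv.apply_symm_apply,
          MulEquiv.apply_symm_apply]
      rw [← h2]
      exact (hecoe (a (e.symm w))).symm
    · intro v hv'
      obtain ⟨x, hx, rfl⟩ := mem_img.1 hv'
      have hxE : (x : Ω) ∈ E := hv hx
      have hcl : vsub F p E ≤
          ((vsub F p (img β E)).comap ((img β E).subtype.comp e.toMonoidHom)).map E.subtype := by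
        refine iSup_le fun α => ?_
        intro y hy
        obtain ⟨z, hzz, rfl⟩ := mem_img.1 hy
        refine ⟨(α : MulAut E) z, ?_, rfl⟩
        show ((e ((α : MulAut E) z) : ↥(img β E)) : Ω) ∈ vsub F p (img β E)
        refine img_le_vsub (autCongr_mem F hi α.2)
          (mem_img.2 ⟨e z, (hecoe z) ▸ (zS_fix (F := F) hβ ⟨z, hES z.2⟩).2 hzz, ?_⟩)
        rw [autCongr_apply, MulEquiv.symm_apply_apply]
      obtain ⟨y, hy, hyx⟩ := hcl hx
      have h3 : ((e y : ↥(img β E)) : Ω) ∈ vsub F p (img β E) := hy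
      rw [hecoe] at h3
      rwa [show (⟨(y : Ω), hES y.2⟩ : S) = x from Subtype.ext hyx] at h3

end Cfsg.Agent.EssMax
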