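import Cfsg.Agent.EssMax.UniqTools

/-!
A single noncentral essential subgroup with a small vsub (S5181).
-/

set_option autoImplicit false
set_option linter.style.haveILetI false
set_option linter.unusedVariables false

open Cfsg Cfsg.FusionSystem Cfsg.Agent.FusionSys Cfsg.Agent.FusRankThree
open scoped commutatorElement

namespace Cfsg.Agent.EssMax

universe u

variable {Ω : Type u} [Group Ω] {S : Subgroup Ω} {p : ℕ} [Fact p.Prime] [Finite S]
  {F : FusionSystem S}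

omit [Fact p.Prime] [Finite S] in
theorem aut_comm {E : Subgroup Ω} (α : MulAut E) (a b : E) :
    ((α ⁅a, b⁆ : E) : Ω) = ⁅((α a : E) : Ω), ((α b : E) : Ω)⁆ := by
  rw [map_commutatorElement]; rfl

omit [Fact p.Prime] [Finite S] in
theorem inv_back {E X : Subgroup Ω} (hi : Inv F E X) {α : MulAut E} (hα : α ∈ F.autGroup E)
    {x : E} (hx : ((α x : E) : Ω) ∈ X) : (x : Ω) ∈ X := by
  have := hi α⁻¹ (inv_mem hα) (α x) hx
  rwa [show α⁻¹ (α x) = x from MulEquiv.symm_apply_apply α x] at this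

/-- The data attached to an essential subgroup moving `W`. -/
structure YSpec (F : FusionSystem S) (p : ℕ) (W G Y : Subgroup Ω) : Prop where
  elem : Elem p Y
  card : Nat.card Y = p ^ 3
  le : Y ≤ G
  le' : W ≤ Y
  inv : Inv F G Y
  normal : ∀ s ∈ S, ∀ y ∈ Y, s * y * s⁻¹ ∈ Y
  commW : ∀ s ∈ S, ∀ y ∈ Y, ⁅s, y⁆ ∈ W
  char : ∀ s ∈ S, (∀ y ∈ Y, ⁅s, y⁆ ∈ zS S p) ↔ s ∈ G

omit [Fact p.Prime] [Finite S] in
theorem zS_conj {z : Ω} (hz : z ∈ zS S p) {s : Ω} (hs : s ∈ S) : s * z * s⁻¹ = z :=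
  conj_eq_self (hz.2.2 s hs)

theorem comm_vsub_mem (h : Ctx p F) {E W : Subgroup Ω} (hES : E ≤ S) (spec : VSpec F p E W)
    (hz : Nat.card (zS S p) = p) (hW : Nat.card W = p ^ 2) {s w : Ω} (hs : s ∈ S) (hw : w ∈ W) :
    ⁅s, w⁆ ∈ zS S p := by
  refine comm_mem_of_prime h.pgrp (spec.le.trans hES) spec.zS_lt.le
    (fun s hs r hr => by rw [zS_conj hr hs]; exact hr) spec.normal ?_ hs hw
  have h1 := card_rel spec.zS_lt.le
  rw [hW, hz, sq] at h1
  exact (Nat.eq_of_mul_eq_mul_left (Fact.out : p.Prime).pos h1).symm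

theorem mover_spec (h : Ctx p F) {E W : Subgroup Ω} (hES : E ≤ S) (spec : VSpec F p E W)
    (hz : Nat.card (zS S p) = p) (hW : Nat.card W = p ^ 2)
    (hSW : ∀ β ∈ F.autGroup S, img β W = W) {G : Subgroup Ω} (hG : F.IsEssential p G)
    (hGZ : Inv F G (zS S p)) (hWG : W ≤ G) (himg : ∀ α ∈ F.autGroup G, img α W ≤ E)
    (hmove : ¬ Inv F G W) : ∃ Y, YSpec F p W G Y ∧ Y ≤ E := by
  have hpp : p.Prime := Fact.out
  have hGS := hG.1.1
  have hWc : ∀ w ∈ W, ∀ e ∈ E, w * e = e * w := fun w hw e he =>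
    (mem_centralizerIn.1 (spec.cent.symm ▸ he : e ∈ centralizerIn S W)).2 w hw
  set Y := ⨆ α : F.autGroup G, img (α : MulAut G) W with hY
  have himgY : ∀ α ∈ F.autGroup G, img α W ≤ Y := fun α hα =>
    le_iSup (fun α : F.autGroup G => img (α : MulAut G) W) ⟨α, hα⟩
  have hWY : W ≤ Y := fun w hw =>
    himgY 1 (one_mem _) (mem_img.2 ⟨⟨w, hWG hw⟩, hw, rfl⟩)
  have hYG : Y ≤ G := iSup_le fun α => img_le _ _
  have hYE : Y ≤ E := iSup_le fun α => himg _ α.2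
  have hYS : Y ≤ S := hYG.trans hGS
  have hab : Y ≤ Subgroup.centralizer (Y : Set Ω) := by
    refine iSup_le fun α => Subgroup.le_centralizer_iff.1 (iSup_le fun β => ?_)
    intro v hv
    refine Subgroup.mem_centralizer_iff.2 fun u hu => ?_
    obtain ⟨y, hy, rfl⟩ := mem_img.1 hv
    obtain ⟨x, hx, rfl⟩ := mem_img.1 hu
    have h1 : ((((α : MulAut G)⁻¹ * (β : MulAut G)) y : G) : Ω) ∈ E :=
      himg _ (mul_mem (inv_mem α.2) β.2) (mem_img.2 ⟨y, hy, rfl⟩)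
    have h2 : x * ((α : MulAut G)⁻¹ * (β : MulAut G)) y =
        ((α : MulAut G)⁻¹ * (β : MulAut G)) y * x := Subtype.ext (hWc _ hx _ h1)
    have h3 := congrArg (fun u : G => (((α : MulAut G) u : G) : Ω)) h2
    simpa using h3
  have habc : ∀ a ∈ Y, ∀ b ∈ Y, a * b = b * a := fun a ha b hb =>
    Subgroup.mem_centralizer_iff.1 (hab hb) a ha
  let B : Subgroup Ω :=
    { carrier := {u | u ∈ Y ∧ u ^ p = 1}
      one_mem' := ⟨one_mem _, one_pow p⟩
      mul_mem' := fun {a b} ha hb => ⟨mul_mem ha.1 hb.1, by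
        rw [(show Commute a b from habc a ha.1 b hb.1).mul_pow, ha.2, hb.2, one_mul]⟩
      inv_mem' := fun {a} ha => ⟨inv_mem ha.1, by rw [inv_pow, ha.2, inv_one]⟩ }
  have hYB : Y ≤ B := iSup_le fun α => by
    rintro _ ⟨x, hx, rfl⟩
    refine ⟨himgY _ α.2 (mem_img.2 ⟨x, hx, rfl⟩), ?_⟩
    rw [← map_pow, show x ^ p = 1 from Subtype.ext (spec.elem.1 _ hx), map_one]
  have helem : Elem p Y := ⟨fun a ha => (hYB ha).2, habc⟩
  have hinv : Inv F G Y := by
    intro α hα x hx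
    have hle : Y ≤ ((Y.subgroupOf G).comap α.toMonoidHom).map G.subtype := by
      refine iSup_le fun γ => ?_
      rintro _ ⟨z, hz, rfl⟩
      refine ⟨(γ : MulAut G) z, ?_, rfl⟩
      exact himgY _ (mul_mem hα γ.2) (mem_img.2 ⟨z, hz, rfl⟩)
    obtain ⟨y, hy, hyx⟩ := hle hx
    rwa [← Subtype.ext (a1 := y) (a2 := x) hyx]
  have hnormal : ∀ s ∈ S, ∀ y ∈ Y, s * y * s⁻¹ ∈ Y := by
    intro s hs y hy
    obtain ⟨γ, -, hγA, hγe⟩ := exists_conj h hG hs
    have := hinv γ hγA ⟨y, hYG hy⟩ hy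
    rwa [hγe] at this
  have hlt : ¬ Y ≤ W := fun hle => hmove fun α hα x hx =>
    hle (himgY α hα (mem_img.2 ⟨x, hx, rfl⟩))
  have hcard : Nat.card Y = p ^ 3 := by
    refine le_antisymm (elem_card_le h helem hYS) ?_
    have h1 := mul_card_le h.pgrp hYS hWY hlt
    rw [hW] at h1
    exact le_trans (le_of_eq (pow_succ' p 2)) h1
  have hrel : W.relIndex Y = p := by
    have h1 := card_rel hWY
    rw [hcard, hW, pow_succ] at h1
    exact (Nat.eq_of_mul_eq_mul_left (pow_pos hpp.pos 2) h1).symm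
  have hcW : ∀ s ∈ S, ∀ y ∈ Y, ⁅s, y⁆ ∈ W := fun s hs y hy =>
    comm_mem_of_prime h.pgrp hYS hWY spec.normal hnormal hrel hs hy
  let C : Subgroup Ω :=
    { carrier := {s | s ∈ S ∧ ∀ y ∈ Y, ⁅s, y⁆ ∈ zS S p}
      one_mem' := ⟨one_mem _, fun y _ => by rw [commutatorElement_one_left]; exact one_mem _⟩
      mul_mem' := fun {a b} ha hb => ⟨mul_mem ha.1 hb.1, fun y hy => by
        rw [comm_mul_left, zS_conj (hb.2 y hy) ha.1]
        exact mul_mem (hb.2 y hy) (ha.2 y hy)⟩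
      inv_mem' := fun {a} ha => ⟨inv_mem ha.1, fun y hy => by
        have e : ⁅a⁻¹, y⁆ = a⁻¹ * ⁅a, y⁆⁻¹ * a⁻¹⁻¹ := by
          simp only [commutatorElement_def]; group
        rw [e, zS_conj (inv_mem (ha.2 y hy)) (inv_mem ha.1)]
        exact inv_mem (ha.2 y hy)⟩ }
  have hGC : G ≤ C := by
    intro g hg
    refine ⟨hGS hg, ?_⟩
    have hle : Y ≤ cinto Y (zS S p) {g} (fun v hv q hq => by
        rw [zS_conj hq (hYS hv)]; exact hq) := by
      refine iSup_le fun α => ?_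
      rintro _ ⟨x, hx, rfl⟩
      refine ⟨himgY _ α.2 (mem_img.2 ⟨x, hx, rfl⟩), fun a ha => ?_⟩
      obtain rfl := ha
      obtain ⟨g', hg'⟩ := (α : MulAut G).surjective ⟨a, hg⟩
      have h1 : ((⁅g', x⁆ : G) : Ω) ∈ zS S p :=
        comm_vsub_mem h hES spec hz hW (hGS g'.2) hx
      have h2 := hGZ _ α.2 _ h1
      rw [aut_comm, hg'] at h2
      exact h2
    exact fun y hy => (hle hy).2 g rfl
  have hCne : ¬ S ≤ C := by
    intro hSC
    let K : Subgroup (MulAut G) :=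
      { carrier := {a | a ∈ F.autGroup G ∧
          ∀ y : G, (y : Ω) ∈ Y → ((y⁻¹ * a y : G) : Ω) ∈ zS S p}
        one_mem' := ⟨one_mem _, fun y _ => by simp⟩
        mul_mem' := fun {a b} ha hb => ⟨mul_mem ha.1 hb.1, fun y hy => by
          have e : y⁻¹ * (a * b) y = (y⁻¹ * b y) * ((b y)⁻¹ * a (b y)) := by
            rw [MulAut.mul_apply]; group
          rw [e, Subgroup.coe_mul]
          exact mul_mem (hb.2 y hy) (ha.2 _ (hinv _ hb.1 y hy))⟩
        inv_mem' := fun {a} ha => ⟨inv_mem ha.1, fun y hy => by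
          have h1 := (zS S p).inv_mem (ha.2 (a⁻¹ y) (hinv _ (inv_mem ha.1) y hy))
          rw [show a (a⁻¹ y) = y from MulEquiv.apply_symm_apply a y] at h1
          simpa using h1⟩ }
    have hPK : autInducedBy S G ≤ K := by
      intro γ hγ
      obtain ⟨g, hg, hge⟩ := mem_autInducedBy.1 hγ
      refine ⟨autInducedBy_le_autGroup F hGS hγ, fun y hy => ?_⟩
      have h1 := (hSC hg).2 _ hy
      have e : ((y⁻¹ * γ y : G) : Ω) = (y : Ω)⁻¹ * ⁅g, (y : Ω)⁆ * (y : Ω)⁻¹⁻¹ := by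
        rw [Subgroup.coe_mul, hge, commutatorElement_def]; push_cast; group
      rw [e, zS_conj h1 (inv_mem (hYS hy))]
      exact h1
    refine hmove fun α hα x hx => ?_
    obtain ⟨k, hk, β, hβ, hβe⟩ := frattini_dec h hG (K := K) (fun a ha => ha.1) hPK hα
      fun a ha => ⟨mul_mem (mul_mem hα ha.1) (inv_mem hα), fun y hy => by
        have h1 := hGZ α hα _ (ha.2 (α⁻¹ y) (hinv _ (inv_mem hα) y hy))
        rw [map_mul, map_inv, show α (α⁻¹ y) = y from MulEquiv.apply_symm_apply α y] at h1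
        rwa [MulAut.mul_apply, MulAut.mul_apply]⟩
    have h1 := hk.2 (α x) (himgY α hα (mem_img.2 ⟨x, hx, rfl⟩))
    have h2 : (((k * α) x : G) : Ω) ∈ W := by
      rw [hβe x (hGS x.2), ← hSW β hβ]
      exact mem_img.2 ⟨⟨x, hGS x.2⟩, hx, rfl⟩
    rw [MulAut.mul_apply] at h2
    have h3 := mul_mem h2 (inv_mem (spec.zS_lt.le h1))
    simpa using h3
  have hCG : C ≤ G := by
    by_contra hne
    exact hCne (max_index h hG hGC (fun s hs => hs.1) hne)
  exact ⟨Y, ⟨helem, hcard, hYG, hWY, hinv, hnormal, hcW,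
    fun s hs => ⟨fun hy => hCG ⟨hs, hy⟩, fun hsG => (hGC hsG).2⟩⟩, hYE⟩

omit [Fact p.Prime] [Finite S] in
/-- Powers in a subgroup of exponent `p` commutators central. -/
theorem mul_pow_eq_one (hodd : Odd p) {E : Subgroup Ω} {a b : Ω} (ha : a ∈ E) (hb : b ∈ E)
    (hc : ∀ e ∈ E, e * ⁅b, a⁆ = ⁅b, a⁆ * e) (hcp : ⁅b, a⁆ ^ p = 1) :
    (a * b) ^ p = a ^ p * b ^ p := by
  have h1 := PGroup.mul_pow_of_odd (x := (⟨a, ha⟩ : E)) (y := ⟨b, hb⟩) hodd
    (Subgroup.mem_center_iff.2 fun g => Subtype.ext (hc g g.2))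
    (Subtype.ext (by rw [Subgroup.coe_pow]; exact hcp))
  exact congrArg Subtype.val h1

/-- The largest subgroup of exponent `p` of `E` centralised by `E` modulo `W` is `Y`. -/
theorem pe_le (h : Ctx p F) {E W G Y : Subgroup Ω} (hE : Noncentral F p E)
    (spec : VSpec F p E W) (hz : Nat.card (zS S p) = p) (hW : Nat.card W = p ^ 2)
    (hY : YSpec F p W G Y) (hYE : Y ≤ E) {v : Ω} (hv : v ∈ E) (hvp : v ^ p = 1)
    (hvc : ∀ e ∈ E, ⁅e, v⁆ ∈ W) : v ∈ Y := by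
  have hpp : p.Prime := Fact.out
  have hES := hE.1.1.1
  have hWc : ∀ w ∈ W, ∀ e ∈ E, e * w = w * e := fun w hw e he =>
    ((mem_centralizerIn.1 (spec.cent.symm ▸ he : e ∈ centralizerIn S W)).2 w hw).symm
  have hcj : ∀ v ∈ E, ∀ q ∈ W, v * q * v⁻¹ ∈ W := fun v hv q hq => by
    rw [conj_eq_self (hWc q hq v hv)]; exact hq
  let PE : Subgroup Ω :=
    { carrier := {v | v ∈ E ∧ v ^ p = 1 ∧ ∀ e ∈ E, ⁅e, v⁆ ∈ W}
      one_mem' := ⟨one_mem _, one_pow p, fun e _ => by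
        rw [commutatorElement_one_right]; exact one_mem _⟩
      mul_mem' := fun {a b} ha hb => by
        have hc := ha.2.2 b hb.1
        refine ⟨mul_mem ha.1 hb.1, ?_, fun e he =>
          ((cinto E W E hcj).mul_mem ⟨ha.1, ha.2.2⟩ ⟨hb.1, hb.2.2⟩).2 e he⟩
        rw [mul_pow_eq_one h.odd ha.1 hb.1 (hWc _ hc) (spec.elem.1 _ hc), ha.2.1, hb.2.1, one_mul]
      inv_mem' := fun {a} ha => ⟨inv_mem ha.1, by rw [inv_pow, ha.2.1, inv_one], fun e he =>
        ((cinto E W E hcj).inv_mem ⟨ha.1, ha.2.2⟩).2 e he⟩ }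
  have hPS : PE ≤ S := fun x hx => hES hx.1
  have hYP : Y ≤ PE := fun y hy =>
    ⟨hYE hy, hY.elem.1 y hy, fun e he => hY.commW e (hES he) y hy⟩
  suffices hle : PE ≤ Y from hle ⟨hv, hvp, hvc⟩
  by_contra hne
  by_cases hab : ∀ a ∈ PE, ∀ b ∈ PE, a * b = b * a
  · have h1 := elem_card_le h (X := PE) ⟨fun a ha => ha.2.1, hab⟩ hPS
    have h2 := mul_card_le h.pgrp hPS hYP hne
    rw [hY.card] at h2
    have := Nat.mul_lt_mul_of_pos_right hpp.one_lt (pow_pos hpp.pos 3)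
    rw [one_mul] at this
    omega
  push Not at hab
  obtain ⟨a0, ha0, b0, hb0, hab0⟩ := hab
  haveI : Finite PE := finite_of_le ‹_› hPS
  obtain ⟨n, hn⟩ := (h.pgrp.to_le hPS).exists_card_eq
  rcases Nat.lt_or_ge n 5 with hn5 | hn5
  swap
  · refine pair_false h (fun w hw => hYP (hY.le' hw)) hPS spec.elem hW
      (fun w hw x hx => hWc w hw x hx.1) (fun x hx => hx.2.1)
      (fun a ha b hb => hb.2.2 a ha.1) ?_
    rw [hn]
    exact Nat.pow_le_pow_right hpp.pos hn5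
  have hrel : Y.relIndex PE = p := by
    refine le_antisymm ?_ (le_relIndex h.pgrp hPS hYP hne)
    have h1 := card_rel hYP
    rw [hn, hY.card] at h1
    refine Nat.le_of_mul_le_mul_left ?_ (pow_pos hpp.pos 3)
    rw [← h1, ← pow_succ]
    exact Nat.pow_le_pow_right hpp.pos (by omega)
  have hnormal : ∀ s ∈ S, ∀ x ∈ PE, s * x * s⁻¹ ∈ PE := by
    intro s hs x hx
    obtain ⟨γ, -, hγA, hγe⟩ := exists_conj h hE.1 hs
    refine ⟨by rw [← hγe ⟨x, hx.1⟩]; exact (γ _).2, by rw [conj_pow, hx.2.1]; group, fun e he => ?_⟩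
    obtain ⟨e', he'⟩ := γ.surjective ⟨e, he⟩
    have h1 := spec.inv γ hγA ⁅e', ⟨x, hx.1⟩⁆ (hx.2.2 e' e'.2)
    rw [aut_comm, he', hγe] at h1
    exact h1
  have hfix : ∀ x ∈ PE, ∀ y ∈ Y, ⁅x, y⁆ ∈ zS S p := by
    intro x hx y hy
    have hxy : ⁅x, y⁆ ∈ W := (hYP hy).2.2 x hx.1
    refine spec.fixed _ hxy fun s hs => ?_
    have hy1 : ⁅s, x⁆ ∈ Y :=
      comm_mem_of_prime h.pgrp hPS hYP hY.normal hnormal hrel hs hx
    have hw := hY.commW s hs y hy
    have e1 : s * ⁅x, y⁆ * s⁻¹ = ⁅⁅s, x⁆ * x, ⁅s, y⁆ * y⁆ := by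
      simp only [commutatorElement_def]; group
    have e2 : ⁅x, ⁅s, y⁆ * y⁆ = ⁅x, y⁆ := by
      have : ⁅x, ⁅s, y⁆ * y⁆ = ⁅x, ⁅s, y⁆⁆ * (⁅s, y⁆ * ⁅x, y⁆ * ⁅s, y⁆⁻¹) := by
        simp only [commutatorElement_def]; group
      rw [this, commutatorElement_eq_one_iff_mul_comm.2 (hWc _ hw x hx.1), one_mul,
        conj_eq_self (spec.elem.2 _ hw _ hxy)]
    have e3 : ⁅⁅s, x⁆, ⁅s, y⁆ * y⁆ = 1 := commutatorElement_eq_one_iff_mul_comm.2
      (hY.elem.2 _ hy1 _ (mul_mem (hY.le' hw) hy))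
    rw [comm_mul_left, e2, e3, mul_one, conj_eq_self (hWc _ hxy _ (hYE hy1))] at e1
    exact mul_inv_eq_iff_eq_mul.1 e1
  obtain ⟨t, ht, htY⟩ : ∃ t ∈ PE, t ∉ Y := Set.not_subset.1 hne
  have hgen : ∀ (X : Subgroup Ω), Y ≤ X → X ≤ PE → t ∈ X → PE ≤ X := by
    intro X h1 h2 h3 x hx
    obtain ⟨i, hi⟩ := exists_pow_coset hPS (fun a ha r hr => hY.normal a (hPS ha) r hr) hrel
      ht htY hx
    rw [show x = x * (t ^ i)⁻¹ * t ^ i by group]
    exact mul_mem (h1 hi) (pow_mem h3 i)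
  have hZc : ∀ v ∈ PE, ∀ q ∈ zS S p, v * q * v⁻¹ ∈ zS S p := fun v hv q hq => by
    rw [zS_conj hq (hPS hv)]; exact hq
  have ht2 : ∀ x ∈ PE, ⁅t, x⁆ ∈ zS S p := fun x hx =>
    ((hgen (cinto PE (zS S p) {t} hZc) (fun y hy => ⟨hYP hy, fun a ha => by
      obtain rfl := ha; exact hfix _ ht y hy⟩) (fun x hx => hx.1) ⟨ht, fun a ha => by
      obtain rfl := ha; rw [commutatorElement_self]; exact one_mem _⟩) hx).2 t rfl
  have hall : ∀ a ∈ PE, ∀ x ∈ PE, ⁅a, x⁆ ∈ zS S p := fun a ha x hx =>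
    ((hgen (cinto PE (zS S p) {a} hZc) (fun y hy => ⟨hYP hy, fun b hb => by
      obtain rfl := hb; exact hfix _ ha y hy⟩) (fun x hx => hx.1) ⟨ht, fun b hb => by
      obtain rfl := hb
      rw [← commutatorElement_inv t]
      exact inv_mem (ht2 _ ha)⟩) hx).2 a rfl
  have hc0 := hall a0 ha0 b0 hb0
  have hc1 : ⁅a0, b0⁆ ≠ 1 := fun e => hab0 (commutatorElement_eq_one_iff_mul_comm.1 e)
  haveI : Finite (zS S p) := finite_of_le ‹_› zS_le
  have hgenZ := zpowers_eq_top_of_prime_card hz (g := (⟨_, hc0⟩ : zS S p))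
    fun e => hc1 (congrArg Subtype.val e)
  refine hE.2 fun α hα x hx => ?_
  obtain ⟨m, hm⟩ : (⟨(x : Ω), hx⟩ : zS S p) ∈ Subgroup.zpowers (⟨_, hc0⟩ : zS S p) :=
    hgenZ ▸ Subgroup.mem_top _
  have hx' : x = ⁅(⟨a0, ha0.1⟩ : E), ⟨b0, hb0.1⟩⁆ ^ m := by
    apply Subtype.ext
    rw [Subgroup.coe_zpow]
    exact (congrArg Subtype.val hm).symm
  rw [hx', map_zpow, Subgroup.coe_zpow, aut_comm]
  refine zpow_mem (hall _ ?_ _ ?_) m
  · refine ⟨(α _).2, ?_, fun e he => ?_⟩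
    · rw [← Subgroup.coe_pow, ← map_pow, show (⟨a0, ha0.1⟩ : E) ^ p = 1 from Subtype.ext ha0.2.1,
        map_one]; rfl
    · obtain ⟨e', he'⟩ := α.surjective ⟨e, he⟩
      have h1 := spec.inv α hα ⁅e', ⟨a0, ha0.1⟩⁆ (ha0.2.2 e' e'.2)
      rwa [aut_comm, he'] at h1
  · refine ⟨(α _).2, ?_, fun e he => ?_⟩
    · rw [← Subgroup.coe_pow, ← map_pow, show (⟨b0, hb0.1⟩ : E) ^ p = 1 from Subtype.ext hb0.2.1,
        map_one]; rfl
    · obtain ⟨e', he'⟩ := α.surjective ⟨e, he⟩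
      have h1 := spec.inv α hα ⁅e', ⟨b0, hb0.1⟩⁆ (hb0.2.2 e' e'.2)
      rwa [aut_comm, he'] at h1

/-- An essential subgroup fixing `W` fixes `Y`. -/
theorem inv_other (h : Ctx p F) {E W G Y : Subgroup Ω} (hE : Noncentral F p E)
    (spec : VSpec F p E W) (hz : Nat.card (zS S p) = p) (hW : Nat.card W = p ^ 2)
    (hG : F.IsEssential p G) (hY : YSpec F p W G Y) (hYE : Y ≤ E)
    (hpe : ∀ v ∈ E, v ^ p = 1 → (∀ e ∈ E, ⁅e, v⁆ ∈ W) → v ∈ Y)
    {H : Subgroup Ω} (hH : F.IsEssential p H) (hWH : W ≤ H) (hHW : Inv F H W)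
    (hHZ : Inv F H (zS S p)) (hHE : H ≠ E) (hHG : H ≠ G) : Y ≤ H ∧ Inv F H Y := by
  have hpp : p.Prime := Fact.out
  have hES := hE.1.1.1
  have hHS := hH.1.1
  have hGS := hG.1.1
  have hWc : ∀ w ∈ W, ∀ e ∈ E, e * w = w * e := fun w hw e he =>
    ((mem_centralizerIn.1 (spec.cent.symm ▸ he : e ∈ centralizerIn S W)).2 w hw).symm
  have hcS : ∀ s ∈ S, ∀ w ∈ W, ⁅s, w⁆ ∈ zS S p := fun s hs w hw =>
    comm_vsub_mem h hES spec hz hW hs hw
  have hYH : Y ≤ H := by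
    intro y hy
    refine mem_of_chain h hH hWH hHW (hES (hYE hy))
      (fun x hx => hY.elem.2 y hy x (hY.le' hx)) fun e he => ?_
    have e1 : e⁻¹ * (y * e * y⁻¹) = ⁅e⁻¹, y⁆ := by simp only [commutatorElement_def]; group
    rw [e1]
    exact hY.commW _ (S.inv_mem (hHS he)) y hy
  refine ⟨hYH, ?_⟩
  have hEinv : ∀ α ∈ F.autGroup H, ∀ x : H, (x : Ω) ∈ E → ((α x : H) : Ω) ∈ E := by
    intro α hα x hx
    rw [← spec.cent]
    refine mem_centralizerIn.2 ⟨hHS (α x).2, fun w hw => ?_⟩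
    have h1 : x * α⁻¹ ⟨w, hWH hw⟩ = α⁻¹ ⟨w, hWH hw⟩ * x :=
      Subtype.ext (hWc _ (hHW _ (inv_mem hα) _ hw) _ hx)
    have h2 := congrArg (fun u => ((α u : H) : Ω)) h1
    simpa using h2.symm
  have hcj : ∀ v ∈ E, ∀ q ∈ W, v * q * v⁻¹ ∈ W := fun v hv q hq => by
    rw [conj_eq_self (hWc q hq v hv)]; exact hq
  let PH : Subgroup Ω :=
    { carrier := {v | v ∈ H ∧ v ∈ E ∧ v ^ p = 1 ∧ ∀ e ∈ H, ⁅e, v⁆ ∈ W}
      one_mem' := ⟨one_mem _, one_mem _, one_pow p, fun e _ => by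
        rw [commutatorElement_one_right]; exact one_mem _⟩
      mul_mem' := fun {a b} ha hb => by
        have hc := ha.2.2.2 b hb.1
        refine ⟨mul_mem ha.1 hb.1, mul_mem ha.2.1 hb.2.1, ?_, fun e he =>
          ((cinto E W H hcj).mul_mem ⟨ha.2.1, ha.2.2.2⟩ ⟨hb.2.1, hb.2.2.2⟩).2 e he⟩
        rw [mul_pow_eq_one h.odd ha.2.1 hb.2.1 (hWc _ hc) (spec.elem.1 _ hc), ha.2.2.1, hb.2.2.1,
          one_mul]
      inv_mem' := fun {a} ha => ⟨inv_mem ha.1, inv_mem ha.2.1,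
        by rw [inv_pow, ha.2.2.1, inv_one], fun e he =>
        ((cinto E W H hcj).inv_mem ⟨ha.2.1, ha.2.2.2⟩).2 e he⟩ }
  have hPS : PH ≤ S := fun x hx => hES hx.2.1
  have hYP : Y ≤ PH := fun y hy =>
    ⟨hYH hy, hYE hy, hY.elem.1 y hy, fun e he => hY.commW e (hHS he) y hy⟩
  have hPinv : Inv F H PH := by
    intro α hα x hx
    refine ⟨(α x).2, hEinv α hα x hx.2.1, ?_, fun e he => ?_⟩
    · rw [← Subgroup.coe_pow, ← map_pow, show x ^ p = 1 from Subtype.ext hx.2.2.1, map_one]; rfl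
    · obtain ⟨e', he'⟩ := α.surjective ⟨e, he⟩
      have h1 := hHW α hα ⁅e', x⁆ (hx.2.2.2 e' e'.2)
      rwa [aut_comm, he'] at h1
  by_cases hPY : PH ≤ Y
  · intro α hα x hx
    exact hPY (hPinv α hα x (hYP hx))
  obtain ⟨v, hv, hvY⟩ : ∃ v ∈ PH, v ∉ Y := Set.not_subset.1 hPY
  have hPnormal : ∀ s ∈ S, ∀ x ∈ PH, s * x * s⁻¹ ∈ PH := by
    intro s hs x hx
    obtain ⟨γ, -, hγA, hγe⟩ := exists_conj h hH hs
    have := hPinv γ hγA ⟨x, hx.1⟩ hx
    rwa [hγe] at this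
  obtain ⟨h0, h0H, h0E⟩ : ∃ a ∈ H, a ∉ E :=
    Set.not_subset.1 fun hle => hHE (eq_of_le_essential h hH hE.1 hle)
  have hcomm : ∀ a ∈ PH, ∀ b ∈ PH, ⁅a, b⁆ ∈ zS S p := by
    intro a ha b hb
    have hab : ⁅a, b⁆ ∈ W := hb.2.2.2 a ha.1
    have hfix : h0 * ⁅a, b⁆ = ⁅a, b⁆ * h0 := by
      have e1 : h0 * ⁅a, b⁆ * h0⁻¹ = ⁅⁅h0, a⁆ * a, ⁅h0, b⁆ * b⁆ := by
        simp only [commutatorElement_def]; group
      have hw1 := ha.2.2.2 h0 h0H
      have hw2 := hb.2.2.2 h0 h0H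
      have e2 : ⁅a, ⁅h0, b⁆ * b⁆ = ⁅a, b⁆ := by
        have : ⁅a, ⁅h0, b⁆ * b⁆ = ⁅a, ⁅h0, b⁆⁆ * (⁅h0, b⁆ * ⁅a, b⁆ * ⁅h0, b⁆⁻¹) := by
          simp only [commutatorElement_def]; group
        rw [this, commutatorElement_eq_one_iff_mul_comm.2 (hWc _ hw2 a ha.2.1), one_mul,
          conj_eq_self (spec.elem.2 _ hw2 _ hab)]
      have e3 : ⁅⁅h0, a⁆, ⁅h0, b⁆ * b⁆ = 1 := commutatorElement_eq_one_iff_mul_comm.2
        (hWc _ hw1 _ (mul_mem (spec.le hw2) hb.2.1)).symm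
      rw [comm_mul_left, e2, e3, mul_one, conj_eq_self (spec.elem.2 _ hw1 _ hab)] at e1
      exact mul_inv_eq_iff_eq_mul.1 e1
    refine spec.fixed _ hab fun s hs => ?_
    have hle : S ≤ S ⊓ Subgroup.centralizer {⁅a, b⁆} := by
      refine max_index h hE.1 (fun e he => ⟨hES he, Subgroup.mem_centralizer_iff.2 fun u hu => by
        obtain rfl := hu; exact (hWc _ hab e he).symm⟩) inf_le_left fun hle => h0E (hle
          ⟨hHS h0H, Subgroup.mem_centralizer_iff.2 fun u hu => by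
            obtain rfl := hu; exact hfix.symm⟩)
    exact (Subgroup.mem_centralizer_iff.1 (hle hs).2 _ rfl).symm
  have hZP : zS S p ≤ PH := fun z hzm => hYP (hY.le' (spec.zS_lt.le hzm))
  have hcardP : Nat.card PH = p ^ 4 := by
    refine le_antisymm ?_ ?_
    · rw [card_rel hZP, hz, pow_succ' p 3]
      exact Nat.mul_le_mul_left p (section_card_le h hZP hPS
        (fun a ha => by rw [ha.2.2.1]; exact one_mem _)
        (fun a ha b hb => by rw [← commutatorElement_def]; exact hcomm a ha b hb))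
    · refine le_trans (le_of_eq ?_) (mul_card_le h.pgrp hPS hYP hPY)
      rw [hY.card, pow_succ' p 3]
  have hrel : Y.relIndex PH = p := by
    have h1 := card_rel hYP
    rw [hcardP, hY.card, pow_succ p 3] at h1
    exact (Nat.eq_of_mul_eq_mul_left (pow_pos hpp.pos 3) h1).symm
  have hgen : ∀ (X : Subgroup Ω), Y ≤ X → v ∈ X → PH ≤ X := by
    intro X h1 h3 x hx
    obtain ⟨i, hi⟩ := exists_pow_coset hPS (fun a ha r hr => hY.normal a (hPS ha) r hr) hrel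
      hv hvY hx
    rw [show x = x * (v ^ i)⁻¹ * v ^ i by group]
    exact mul_mem (h1 hi) (pow_mem h3 i)
  obtain ⟨e, he, hye⟩ : ∃ e ∈ E, ⁅e, v⁆ ∉ W := by
    by_contra hcon
    push Not at hcon
    exact hvY (hpe v hv.2.1 hv.2.2.1 hcon)
  have hy' : ⁅e, v⁆ ∈ Y :=
    comm_mem_of_prime h.pgrp hPS hYP hY.normal hPnormal hrel (hES he) hv
  set y' := ⁅e, v⁆ with hy'def
  have hYW : W.relIndex Y = p := by
    have h1 := card_rel hY.le'
    rw [hY.card, hW, pow_succ p 2] at h1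
    exact (Nat.eq_of_mul_eq_mul_left (pow_pos hpp.pos 2) h1).symm
  have hZc : ∀ v ∈ S, ∀ q ∈ zS S p, v * q * v⁻¹ ∈ zS S p := fun v hv q hq => by
    rw [zS_conj hq hv]; exact hq
  have hYS : Y ≤ S := hYE.trans hES
  have hGmem : ∀ k ∈ S, ⁅k, y'⁆ ∈ zS S p → k ∈ G := by
    intro k hk hky
    refine (hY.char k hk).1 fun y hy => ?_
    obtain ⟨i, hi⟩ := exists_pow_coset hYS (fun a ha r hr => spec.normal a (hYS ha) r hr) hYW
      hy' hye hy
    have h1 : y ∈ cinto S (zS S p) {k} hZc := by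
      rw [show y = y * (y' ^ i)⁻¹ * y' ^ i by group]
      exact mul_mem ⟨hYS (hY.le' hi), fun a ha => by obtain rfl := ha; exact hcS _ hk _ hi⟩
        (pow_mem (show y' ∈ cinto S (zS S p) {k} hZc from
          ⟨hYS hy', fun a ha => by obtain rfl := ha; exact hky⟩) i)
    exact h1.2 k rfl
  obtain ⟨g, hgH, hgG⟩ : ∃ a ∈ H, a ∉ G :=
    Set.not_subset.1 fun hle => hHG (eq_of_le_essential h hH hG hle)
  set c := ⁅g, e⁆ with hcdef
  have hcE : c ∈ E := comm_mem h hE.1 (hHS hgH) (hES he)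
  have hcH : c ∈ H := comm_mem h hH (hHS hgH) (hES he)
  have hcG : c ∈ G := comm_mem h hG (hHS hgH) (hES he)
  have hw : ⁅g, v⁆ ∈ W := hv.2.2.2 g hgH
  set t := ⁅c, v⁆ with htdef
  have ht : t ∈ W := hv.2.2.2 c hcH
  have htZ : t ∉ zS S p := by
    intro htZ
    have hu : ⁅g, y'⁆ ∈ W := hY.commW g (hHS hgH) y' hy'
    have hz1 : ⁅c, y'⁆ ∈ zS S p := (hY.char c (hES hcE)).2 hcG y' hy'
    have e1 : (g * e) * v * (g * e)⁻¹ = ⁅g, y'⁆ * y' * ⁅g, v⁆ * v := by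
      simp only [y', commutatorElement_def]; group
    have e2 : (e * g) * v * (e * g)⁻¹ = ⁅g, v⁆ * y' * v := by
      have : (e * g) * v * (e * g)⁻¹ = e * ⁅g, v⁆ * e⁻¹ * (y' * v) := by
        simp only [y', commutatorElement_def]; group
      rw [this, conj_eq_self (hWc _ hw e he), mul_assoc]
    have e3 : (g * e) * v * (g * e)⁻¹ = c * ((e * g) * v * (e * g)⁻¹) * c⁻¹ := by
      simp only [c, commutatorElement_def]; group
    have e4 : c * (⁅g, v⁆ * y' * v) * c⁻¹ = ⁅g, v⁆ * (⁅c, y'⁆ * y') * (t * v) := by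
      have : c * (⁅g, v⁆ * y' * v) * c⁻¹ = (c * ⁅g, v⁆ * c⁻¹) * (⁅c, y'⁆ * y') * (t * v) := by
        simp only [t, commutatorElement_def]; group
      rw [this, conj_eq_self (hWc _ hw c hcE)]
    rw [e1, e2, e4, ← mul_assoc _ t, mul_left_inj] at e3
    -- all factors commute
    have hW' : ∀ a ∈ W, ∀ b ∈ Y, a * b = b * a := fun a ha b hb => hY.elem.2 a (hY.le' ha) b hb
    have e5 : ⁅g, y'⁆ = ⁅c, y'⁆ * t := by
      have h1 : ⁅g, y'⁆ * y' * ⁅g, v⁆ = (⁅g, v⁆ * ⁅g, y'⁆) * y' := by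
        rw [mul_assoc, ← hW' _ hw y' hy', ← mul_assoc, spec.elem.2 _ hu _ hw]
      have h2 : ⁅g, v⁆ * (⁅c, y'⁆ * y') * t = (⁅g, v⁆ * (⁅c, y'⁆ * t)) * y' := by
        rw [mul_assoc, mul_assoc ⁅c, y'⁆, ← hW' t ht y' hy', ← mul_assoc ⁅c, y'⁆, ← mul_assoc]
      rw [h1, h2, mul_left_inj, mul_right_inj] at e3
      exact e3
    exact hgG (hGmem g (hHS hgH) (e5 ▸ mul_mem hz1 htZ))
  by_cases hDG : ∀ d ∈ H, d ∈ E → d ∈ G
  · let P1 := cinto PH (zS S p) {d | d ∈ H ∧ d ∈ E} fun v hv q hq => hZc v (hPS hv) q hq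
    have hP1 : Inv F H P1 := by
      intro α hα x hx
      refine ⟨hPinv α hα x hx.1, fun d hd => ?_⟩
      have hd' : ((α⁻¹ ⟨d, hd.1⟩ : H) : Ω) ∈ E := hEinv _ (inv_mem hα) _ hd.2
      have h1 := hHZ α hα ⁅α⁻¹ ⟨d, hd.1⟩, x⁆ (hx.2 _ ⟨(α⁻¹ ⟨d, hd.1⟩).2, hd'⟩)
      rwa [aut_comm, show α (α⁻¹ ⟨d, hd.1⟩) = (⟨d, hd.1⟩ : H) from
        MulEquiv.apply_symm_apply α _] at h1
    have hYP1 : Y ≤ P1 := fun y hy =>
      ⟨hYP hy, fun d hd => (hY.char d (hHS hd.1)).2 (hDG d hd.1 hd.2) y hy⟩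
    have hP1Y : P1 ≤ Y := by
      intro x hx
      by_contra hxY
      obtain ⟨i, hi⟩ := exists_pow_coset hPS (fun a ha r hr => hY.normal a (hPS ha) r hr) hrel
        hx.1 hxY hv
      have h1 : v ∈ P1 := by
        rw [show v = v * (x ^ i)⁻¹ * x ^ i by group]
        exact mul_mem (hYP1 hi) (pow_mem hx i)
      exact htZ (h1.2 c ⟨hcH, hcE⟩)
    intro α hα x hx
    exact hP1Y (hP1 α hα x (hYP1 hx))
  exfalso
  push Not at hDG
  obtain ⟨d0, d0H, d0E, d0G⟩ := hDG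
  obtain ⟨j, hj⟩ := exists_pow_coset le_rfl
    (fun a ha r hr => (Subgroup.mem_normalizer_iff.1 (h.normal G hG ha) r).1 hr)
    (relIndex_eq h hG) (hES d0E) d0G (hHS h0H)
  set d := h0 * (d0 ^ j)⁻¹ with hd
  have hdH : d ∈ H := mul_mem h0H (inv_mem (pow_mem d0H j))
  have hdE : d ∉ E := fun hh => h0E (by
    rw [show h0 = d * d0 ^ j by rw [hd]; group]; exact mul_mem hh (pow_mem d0E j))
  have hZW : (zS S p).relIndex W = p := by
    have h1 := card_rel spec.zS_lt.le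
    rw [hW, hz, sq] at h1
    exact (Nat.eq_of_mul_eq_mul_left hpp.pos h1).symm
  obtain ⟨i, hi⟩ := exists_pow_coset (spec.le.trans hES)
    (fun a ha r hr => hZc a (hES (spec.le ha)) r hr) hZW ht htZ (hv.2.2.2 d hdH)
  have hcpow : ∀ n : ℕ, ⁅c ^ n, v⁆ = t ^ n := by
    intro n
    induction n with
    | zero => simp
    | succ n ih =>
      rw [pow_succ, comm_mul_left, ih, ← htdef, conj_eq_self (hWc _ ht _ (pow_mem hcE n)),
        pow_succ']
  set k := (c ^ i)⁻¹ * d with hk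
  have hkH : k ∈ H := mul_mem (inv_mem (pow_mem hcH i)) hdH
  have hkG : k ∈ G := mul_mem (inv_mem (pow_mem hcG i)) hj
  have hkE : k ∉ E := fun hh => hdE (by
    rw [show d = c ^ i * k by rw [hk]; group]; exact mul_mem (pow_mem hcE i) hh)
  have hkS := hHS hkH
  have hkv : ⁅k, v⁆ ∈ zS S p := by
    have e1 : ⁅(c ^ i)⁻¹, v⁆ = (c ^ i)⁻¹ * (t ^ i)⁻¹ * (c ^ i)⁻¹⁻¹ := by
      rw [← hcpow]; simp only [commutatorElement_def]; group
    rw [hk, comm_mul_left, e1,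
      conj_eq_self (hWc _ (hv.2.2.2 d hdH) _ (inv_mem (pow_mem hcE i))),
      conj_eq_self (hWc _ (inv_mem (pow_mem ht i)) _ (inv_mem (pow_mem hcE i)))]
    exact hi
  have hkP : ∀ x ∈ PH, ⁅k, x⁆ ∈ zS S p := fun x hx =>
    ((hgen (cinto S (zS S p) {k} hZc) (fun y hy => ⟨hYS hy, fun a ha => by
      obtain rfl := ha; exact (hY.char _ hkS).2 hkG y hy⟩) ⟨hPS hv, fun a ha => by
      obtain rfl := ha; exact hkv⟩) hx).2 k rfl
  set kp := k ^ p with hkp
  have hkpE : kp ∈ E := by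
    haveI hn : (E.subgroupOf S).Normal := ⟨fun n hn g =>
      (Subgroup.mem_normalizer_iff.1 (h.normal E hE.1 g.2) n).1 hn⟩
    have hcq : Nat.card (↥S ⧸ E.subgroupOf S) = p := by
      rw [← Subgroup.index_eq_card]; exact relIndex_eq h hE.1
    have h1 : ((⟨k, hkS⟩ : S) : ↥S ⧸ E.subgroupOf S) ^ p = 1 := by
      have := pow_card_eq_one' (x := ((⟨k, hkS⟩ : S) : ↥S ⧸ E.subgroupOf S))
      rwa [hcq] at this
    rw [← QuotientGroup.mk_pow, QuotientGroup.eq_one_iff] at h1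
    exact h1
  have hkpP : ∀ x ∈ PH, kp * x = x * kp := by
    intro x hx
    have hz' := hkP x hx
    have h1 : ∀ n : ℕ, k ^ n * x * (k ^ n)⁻¹ = ⁅k, x⁆ ^ n * x := by
      intro n
      induction n with
      | zero => simp
      | succ n ih =>
        have : k ^ (n + 1) * x * (k ^ (n + 1))⁻¹ =
            (k * ⁅k, x⁆ ^ n * k⁻¹) * (⁅k, x⁆ * x) := by
          rw [pow_succ', show k * k ^ n * x * (k * k ^ n)⁻¹ = k * (k ^ n * x * (k ^ n)⁻¹) * k⁻¹
            by group, ih, commutatorElement_def]; group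
        rw [this, zS_conj (pow_mem hz' n) hkS, ← mul_assoc, ← pow_succ]
    have h2 := h1 p
    rw [hz'.2.1, one_mul] at h2
    exact mul_inv_eq_iff_eq_mul.1 h2
  let R : Subgroup Ω :=
    { carrier := {x | ∃ z ∈ zS S p, ∃ n : ℤ, x = z * kp ^ n}
      one_mem' := ⟨1, one_mem _, 0, by simp⟩
      mul_mem' := by
        rintro _ _ ⟨a, ha, m, rfl⟩ ⟨b, hb, n, rfl⟩
        refine ⟨a * b, mul_mem ha hb, m + n, ?_⟩
        have e1 : kp ^ m * b = b * kp ^ m :=
          hb.2.2 _ (S.zpow_mem (pow_mem hkS p) m)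
        rw [mul_assoc, ← mul_assoc (kp ^ m), e1, zpow_add]; group
      inv_mem' := by
        rintro _ ⟨a, ha, m, rfl⟩
        refine ⟨a⁻¹, inv_mem ha, -m, ?_⟩
        rw [mul_inv_rev, zpow_neg]
        exact (inv_mem ha).2.2 _ (inv_mem (S.zpow_mem (pow_mem hkS p) m)) }
  have hRS : R ≤ E := by
    rintro _ ⟨a, ha, m, rfl⟩
    exact mul_mem (spec.le (spec.zS_lt.le ha)) (zpow_mem hkpE m)
  have hRP : ∀ x ∈ R, x ∈ PH → x ∈ zS S p := by
    rintro _ ⟨a, ha, m, rfl⟩ hx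
    have hu : kp ^ m ∈ PH := by
      have := mul_mem (inv_mem (hZP ha)) hx
      simpa using this
    refine mul_mem ha ?_
    set u := kp ^ m
    have huc : ∀ x ∈ PH, u * x = x * u := fun x hx =>
      (Commute.zpow_left (show Commute kp x from hkpP x hx) m).eq
    have huk : k * u = u * k :=
      ((Commute.refl k).pow_right p).zpow_right m
    have huY : u ∈ Y := by
      by_contra huY
      have hel := elem_sup hY.elem hu.2.2.1 fun y hy => huc y (hYP hy)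
      have hS' : Y ⊔ Subgroup.zpowers u ≤ S := sup_le hYS (Subgroup.zpowers_le.2 (hPS hu))
      have h1 := elem_card_le h hel hS'
      have h2 := mul_card_le h.pgrp hS' (le_sup_left (b := Subgroup.zpowers u))
        fun hh => huY (hh (le_sup_right (a := Y) (Subgroup.mem_zpowers u)))
      rw [hY.card] at h2
      have := Nat.mul_lt_mul_of_pos_right hpp.one_lt (pow_pos hpp.pos 3)
      rw [one_mul] at this
      omega
    have huW : u ∈ W := by
      by_contra huW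
      have hvc : ∀ y ∈ Y, v * y = y * v := by
        intro y hy
        obtain ⟨l, hl⟩ := exists_pow_coset hYS (fun a ha r hr => spec.normal a (hYS ha) r hr)
          hYW huY huW hy
        have h1 : Commute v (y * (u ^ l)⁻¹) := hWc _ hl v hv.2.1
        have h2 : Commute v (u ^ l) := (show Commute v u from (huc v hv).symm).pow_right l
        have h3 := h1.mul_right h2
        rwa [inv_mul_cancel_right] at h3
      have hel := elem_sup hY.elem hv.2.2.1 hvc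
      have hS' : Y ⊔ Subgroup.zpowers v ≤ S := sup_le hYS (Subgroup.zpowers_le.2 (hPS hv))
      have h1 := elem_card_le h hel hS'
      have h2 := mul_card_le h.pgrp hS' (le_sup_left (b := Subgroup.zpowers v))
        fun hh => hvY (hh (le_sup_right (a := Y) (Subgroup.mem_zpowers v)))
      rw [hY.card] at h2
      have := Nat.mul_lt_mul_of_pos_right hpp.one_lt (pow_pos hpp.pos 3)
      rw [one_mul] at this
      omega
    refine spec.fixed u huW fun s hs => ?_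
    have hle : S ≤ S ⊓ Subgroup.centralizer {u} := by
      refine max_index h hE.1 (fun e he => ⟨hES he, Subgroup.mem_centralizer_iff.2 fun w hw => by
        obtain rfl := hw; exact (hWc _ huW e he).symm⟩) inf_le_left fun hle => hkE (hle
          ⟨hkS, Subgroup.mem_centralizer_iff.2 fun w hw => by
            obtain rfl := hw; exact huk.symm⟩)
    exact (Subgroup.mem_centralizer_iff.1 (hle hs).2 _ rfl).symm
  set H0 := PH ⊔ Subgroup.zpowers k
  have hH0S : H0 ≤ S := sup_le hPS (Subgroup.zpowers_le.2 hkS)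
  have hkH0 : k ∈ H0 := le_sup_right (a := PH) (Subgroup.mem_zpowers k)
  have hPH0 : PH ≤ H0 := le_sup_left
  have hRH0 : R ≤ H0 := by
    rintro _ ⟨a, ha, m, rfl⟩
    exact mul_mem (hPH0 (hZP ha)) (zpow_mem (pow_mem hkH0 p) m)
  have hZR : zS S p ≤ R := fun z hzm => ⟨z, hzm, 0, by simp⟩
  have hc0 : ∀ a ∈ H0, ∀ b ∈ H0, ⁅a, b⁆ ∈ zS S p := by
    have hk0 : H0 ≤ cinto S (zS S p) {k} hZc :=
      sup_le (fun x hx => ⟨hPS hx, fun a ha => by obtain rfl := ha; exact hkP x hx⟩)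
        (Subgroup.zpowers_le.2 ⟨hkS, fun a ha => by
          obtain rfl := ha; rw [commutatorElement_self]; exact one_mem _⟩)
    have hx0 : ∀ x ∈ PH, H0 ≤ cinto S (zS S p) {x} hZc := fun x hx =>
      sup_le (fun y hy => ⟨hPS hy, fun a ha => by obtain rfl := ha; exact hcomm _ hx y hy⟩)
        (Subgroup.zpowers_le.2 ⟨hkS, fun a ha => by
          obtain rfl := ha
          rw [← commutatorElement_inv k]
          exact inv_mem (hkP _ hx)⟩)
    intro a ha b hb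
    have hle : H0 ≤ cinto S (zS S p) {a} hZc :=
      sup_le (fun x hx => ⟨hPS hx, fun u hu => by
          obtain rfl := hu
          rw [← commutatorElement_inv x]
          exact inv_mem ((hx0 x hx ha).2 x rfl)⟩)
        (Subgroup.zpowers_le.2 ⟨hkS, fun u hu => by
          obtain rfl := hu
          rw [← commutatorElement_inv k]
          exact inv_mem ((hk0 ha).2 k rfl)⟩)
    exact (hle hb).2 a rfl
  have hp0 : ∀ a ∈ H0, a ^ p ∈ R := by
    let Pw : Subgroup Ω :=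
      { carrier := {a | a ∈ H0 ∧ a ^ p ∈ R}
        one_mem' := ⟨one_mem _, by rw [one_pow]; exact one_mem _⟩
        mul_mem' := fun {a b} ha hb => by
          refine ⟨mul_mem ha.1 hb.1, ?_⟩
          have hc := hc0 b hb.1 a ha.1
          rw [mul_pow_eq_one h.odd (E := S) (hH0S ha.1) (hH0S hb.1) hc.2.2 hc.2.1]
          exact mul_mem ha.2 hb.2
        inv_mem' := fun {a} ha => ⟨inv_mem ha.1, by rw [inv_pow]; exact inv_mem ha.2⟩ }
    have hle : H0 ≤ Pw := sup_le (fun x hx => ⟨hPH0 hx, by rw [hx.2.2.1]; exact one_mem _⟩)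
      (Subgroup.zpowers_le.2 ⟨hkH0, 1, one_mem _, 1, by rw [zpow_one, one_mul]⟩)
    exact fun a ha => (hle ha).2
  have hsec := section_card_le h hRH0 hH0S hp0
    fun a ha b hb => by rw [← commutatorElement_def]; exact hZR (hc0 a ha b hb)
  haveI : Finite H0 := finite_of_le ‹_› hH0S
  set X := R ⊔ PH
  have hXH0 : X ≤ H0 := sup_le hRH0 hPH0
  have hXE : X ≤ E := sup_le hRS fun x hx => hx.2.1
  have hinf : R ⊓ PH = zS S p :=
    le_antisymm (fun x hx => hRP x hx.1 hx.2) (le_inf hZR hZP)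
  have h3 : p ^ 3 ≤ R.relIndex X := by
    have h1 : R.relIndex PH = p ^ 3 := by
      rw [← Subgroup.inf_relIndex_right, hinf]
      have := card_rel hZP
      rw [hcardP, hz, pow_succ' p 3] at this
      exact (Nat.eq_of_mul_eq_mul_left hpp.pos this).symm
    haveI : Finite X := finite_of_le ‹_› (hXE.trans hES)
    rw [← h1]
    exact Subgroup.relIndex_le_of_le_right le_sup_right Subgroup.index_ne_zero_of_finite
  have h4 : p ≤ X.relIndex H0 :=
    le_relIndex h.pgrp hH0S hXH0 fun hle => hkE (hXE (hle hkH0))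
  have h5 := Subgroup.relIndex_mul_relIndex R X H0 le_sup_left hXH0
  have h6 : p ^ 3 * p ≤ R.relIndex H0 := h5 ▸ Nat.mul_le_mul h3 h4
  have := Nat.mul_lt_mul_of_pos_left hpp.one_lt (pow_pos hpp.pos 3)
  rw [mul_one] at this
  omega

/-- The final configuration is contradictory. -/
theorem false_of_single (h : Ctx p F) (hz : Nat.card (zS S p) = p) {E : Subgroup Ω}
    (hE : Noncentral F p E) (huniq : ∀ E', Noncentral F p E' → E' = E)
    (hV : Nat.card (vsub F p E) = p ^ 2)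
    (hle : ∀ G, F.IsEssential p G → vsub F p E ≤ G)
    (himg : ∀ G, F.IsEssential p G → ∀ α ∈ F.autGroup G, img α (vsub F p E) ≤ E)
    (hSW : ∀ β ∈ F.autGroup S, img β (vsub F p E) = vsub F p E)
    (hSE : ∀ β ∈ F.autGroup S, img β E = E) : False := by
  have hpp : p.Prime := Fact.out
  have hES := hE.1.1.1
  have spec := vsub_spec h hE
  set W := vsub F p E with hWdef
  have hWS : W ≤ S := spec.le.trans hES
  have hWne : W ≠ ⊥ := fun e => by
    rw [e, Subgroup.card_bot] at hV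
    exact absurd hV.symm (Nat.one_lt_pow two_ne_zero hpp.one_lt).ne'
  have hSWi : Inv F S W := fun β hβ x hx => hSW β hβ ▸ mem_img.2 ⟨x, hx, rfl⟩
  by_cases hall : ∀ H, F.IsEssential p H → Inv F H W
  · exact false_of_inv h hWne hWS hSWi fun H hH => ⟨hle H hH, hall H hH⟩
  push Not at hall
  obtain ⟨G, hG, hmove⟩ := hall
  have hcentral : ∀ H, F.IsEssential p H → H ≠ E → Inv F H (zS S p) := fun H hH hne => by
    by_contra hh
    exact hne (huniq H ⟨hH, hh⟩)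
  have hGE : G ≠ E := fun e => hmove (e ▸ spec.inv)
  obtain ⟨Y, hY, hYE⟩ := mover_spec h hES spec hz hV hSW hG (hcentral G hG hGE) (hle G hG)
    (himg G hG) hmove
  have hpe : ∀ v ∈ E, v ^ p = 1 → (∀ e ∈ E, ⁅e, v⁆ ∈ W) → v ∈ Y := fun v hv hvp hvc =>
    pe_le h hE spec hz hV hY hYE hv hvp hvc
  have huniqG : ∀ H, F.IsEssential p H → ¬ Inv F H W → H = G := by
    intro H hH hmv
    have hHE : H ≠ E := fun e => hmv (e ▸ spec.inv)
    obtain ⟨Y', hY', hYE'⟩ := mover_spec h hES spec hz hV hSW hH (hcentral H hH hHE) (hle H hH)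
      (himg H hH) hmv
    have hsub : Y' ≤ Y := fun y hy =>
      hpe y (hYE' hy) (hY'.elem.1 y hy) fun e he => hY'.commW e (hES he) y hy
    have heq : Y' = Y := eq_of_card (hYE.trans hES) hsub (le_of_eq (hY.card.trans hY'.card.symm))
    refine eq_of_le_essential h hH hG fun s hs => ?_
    exact (hY.char s (hH.1.1 hs)).1 fun y hy =>
      (hY'.char s (hH.1.1 hs)).2 hs y (heq.symm ▸ hy)
  have hpinv : ∀ (H : Subgroup Ω), H ≤ S → E ≤ H →
      ∀ α : MulAut H, (∀ x : H, (x : Ω) ∈ E ↔ ((α x : H) : Ω) ∈ E) →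
      (∀ x : H, (x : Ω) ∈ W → ((α x : H) : Ω) ∈ W) →
      ∀ x : H, (x : Ω) ∈ Y → ((α x : H) : Ω) ∈ Y := by
    intro H hHS hEH α hαE hαW x hx
    refine hpe _ ((hαE x).1 (hYE hx)) ?_ fun e he => ?_
    · rw [← Subgroup.coe_pow, ← map_pow, show x ^ p = 1 from Subtype.ext (hY.elem.1 _ hx),
        map_one]; rfl
    · obtain ⟨e', he'⟩ := α.surjective ⟨e, hEH he⟩
      have he'E : (e' : Ω) ∈ E := (hαE e').2 (by rw [he']; exact he)
      have h1 := hαW ⁅e', x⁆ (hY.commW _ (hES he'E) _ hx)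
      rwa [aut_comm, he'] at h1
  have hSY : Inv F S Y := fun β hβ x hx => hpinv S le_rfl hES β (fun y => ⟨fun hy => hSE β hβ ▸
      mem_img.2 ⟨y, hy, rfl⟩, fun hy => by
        obtain ⟨y', hy', e⟩ := mem_img.1 ((hSE β hβ).symm ▸ hy : ((β y : S) : Ω) ∈ img β E)
        rwa [← β.injective (Subtype.ext e)]⟩) (hSWi β hβ) x hx
  have hYne : Y ≠ ⊥ := fun e => hWne (le_bot_iff.1 (e ▸ hY.le'))
  refine false_of_inv h hYne (hYE.trans hES) hSY fun H hH => ?_
  by_cases hHE : H = E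
  · subst hHE
    exact ⟨hYE, fun α hα x hx => hpinv H hES le_rfl α
      (fun y => ⟨fun _ => (α y).2, fun _ => y.2⟩) (spec.inv α hα) x hx⟩
  by_cases hHG : H = G
  · subst hHG
    exact ⟨hY.le, hY.inv⟩
  have hHW : Inv F H W := by_contra fun hh => hHG (huniqG H hH hh)
  exact inv_other h hE spec hz hV hG hY hYE hpe hH (hle H hH) hHW (hcentral H hH hHE) hHE hHG

end Cfsg.Agent.EssMax
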