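import Cfsg.Agent.EssMax.Base
import Cfsg.Agent.FusionBatch.Basic

/-!
The case |Ω₁Z(S)| ≠ p (S5181): all commutator lines coincide with a line fixed by `Aut_F(S)`.
-/

set_option autoImplicit false

open Cfsg Cfsg.FusionSystem Cfsg.Agent.FusionSys Cfsg.Agent.FusRankThree

namespace Cfsg.Agent.EssMax

namespace Centre

universe u

variable {Ω : Type u} [Group Ω] {S : Subgroup Ω} {p : ℕ} [Fact p.Prime] [Finite S]
  {F : FusionSystem S}

theorem finite_sub {E : Subgroup Ω} (hE : E ≤ S) :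
    Finite E :=
  Finite.of_injective _ (Subgroup.inclusion_injective hE)

theorem finite_mulAut (G : Type u) [Group G] [Finite G] : Finite (MulAut G) :=
  Finite.of_injective (fun e : MulAut G => (⇑e : G → G)) fun _ _ h => MulEquiv.ext (congrFun h)

/-- Iterates of a map translating `v` by a fixed element. -/
theorem pow_apply_translate {G : Type u} [Group G] (k : MulAut G) {v u : G}
    (hu : k u = u) (hv : k v = v * u) : ∀ n : ℕ, (k ^ n) v = v * u ^ n
  | 0 => by simp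
  | n + 1 => by
    rw [pow_succ', MulAut.mul_apply, pow_apply_translate k hu hv n, map_mul, map_pow, hu, hv,
      mul_assoc, ← pow_succ']

theorem inv_pow_closed {M : Type u} [Group M] [Finite M] (P : Submonoid M) {k : M} (hk : k ∈ P) :
    k⁻¹ ∈ P := by
  have : k⁻¹ ∈ Submonoid.powers k :=
    (mem_powers_iff_mem_zpowers (x := k) (y := k⁻¹)).2 (inv_mem (Subgroup.mem_zpowers k))
  obtain ⟨n, hn⟩ := this
  rw [← hn]
  exact pow_mem hk n

/-- Elements of prime order generate a line. -/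
theorem exists_pow_eq {G : Type u} [Group G] [Finite G] {c u : G} (hc : c ^ p = 1)
    (hu : u ∈ Subgroup.zpowers c) (hu1 : u ≠ 1) {w : G} (hw : w ∈ Subgroup.zpowers c) :
    ∃ m : ℕ, u ^ m = w := by
  have hp : p.Prime := Fact.out
  have hup : u ^ p = 1 := by
    obtain ⟨i, rfl⟩ := hu
    change (c ^ i) ^ p = 1
    rw [← zpow_natCast (c ^ i), ← zpow_mul, mul_comm, zpow_mul, zpow_natCast, hc, one_zpow]
  have hc1 : c ≠ 1 := by
    rintro rfl
    obtain ⟨i, rfl⟩ := hu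
    exact hu1 (one_zpow i)
  have hle : Subgroup.zpowers u ≤ Subgroup.zpowers c := Subgroup.zpowers_le.2 hu
  have heq : Subgroup.zpowers u = Subgroup.zpowers c := by
    refine Subgroup.eq_of_le_of_card_ge hle ?_
    rw [Nat.card_zpowers, Nat.card_zpowers, orderOf_eq_prime hc hc1, orderOf_eq_prime hup hu1]
  rw [← heq] at hw
  obtain ⟨m, hm⟩ := (mem_powers_iff_mem_zpowers (x := u) (y := w)).2 hw
  exact ⟨m, hm⟩

/-- The stabiliser of the chain `1 ≤ ⟨d⟩ ≤ Z ≤ V` inside `A`. -/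
def chain {E : Subgroup Ω} [Finite (MulAut E)] (A : Subgroup (MulAut E)) (d : E)
    (Z V : Subgroup E) (hd : Subgroup.zpowers d ≤ Z) (hZV : Z ≤ V) : Subgroup (MulAut E) :=
  let M : Submonoid (MulAut E) :=
  { carrier := {k | k ∈ A ∧ k d = d ∧ (∀ z ∈ Z, k z * z⁻¹ ∈ Subgroup.zpowers d) ∧
        ∀ v ∈ V, k v * v⁻¹ ∈ Z}
    one_mem' := ⟨one_mem A, rfl, fun z _ => by simp, fun v _ => by simp⟩
    mul_mem' := by
      rintro j k ⟨hj, hjd, hjZ, hjV⟩ ⟨hk, hkd, hkZ, hkV⟩
      refine ⟨mul_mem hj hk, by rw [MulAut.mul_apply, hkd, hjd], fun z hz => ?_, fun v hv => ?_⟩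
      · have hkz : k z ∈ Z := by
          have := Z.mul_mem (hd (hkZ z hz)) hz
          rwa [inv_mul_cancel_right] at this
        have : (j * k) z * z⁻¹ = (j (k z) * (k z)⁻¹) * (k z * z⁻¹) := by
          rw [MulAut.mul_apply]; group
        rw [this]
        exact mul_mem (hjZ _ hkz) (hkZ z hz)
      · have hkv : k v ∈ V := by
          have := V.mul_mem (hZV (hkV v hv)) hv
          rwa [inv_mul_cancel_right] at this
        have : (j * k) v * v⁻¹ = (j (k v) * (k v)⁻¹) * (k v * v⁻¹) := by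
          rw [MulAut.mul_apply]; group
        rw [this]
        exact mul_mem (hjV _ hkv) (hkV v hv) }
  { M with inv_mem' := fun hk => inv_pow_closed M hk }

theorem chain_pow {E : Subgroup Ω} (k : MulAut E) (d : E) (Z V : Subgroup E)
    (hZp : ∀ z ∈ Z, z ^ p = 1) (hcomm : ∀ a ∈ V, ∀ b ∈ V, a * b = b * a)
    (hd : Subgroup.zpowers d ≤ Z) (hZV : Z ≤ V) (hkd : k d = d)
    (hkZ : ∀ z ∈ Z, k z * z⁻¹ ∈ Subgroup.zpowers d) (hkV : ∀ v ∈ V, k v * v⁻¹ ∈ Z) :
    ∀ v ∈ V, (k ^ (p * p)) v = v := by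
  have hfixd : ∀ u ∈ Subgroup.zpowers d, k u = u := by
    rintro _ ⟨i, rfl⟩
    change k (d ^ i) = d ^ i
    rw [map_zpow, hkd]
  have hdexp : ∀ u ∈ Subgroup.zpowers d, u ^ p = 1 := fun u hu => hZp u (hd hu)
  have hZfix : ∀ z ∈ Z, (k ^ p) z = z := by
    intro z hz
    have hu := hkZ z hz
    have hv : k z = z * (k z * z⁻¹) := by
      rw [hcomm z (hZV hz) _ (hZV (hd hu)), inv_mul_cancel_right]
    rw [pow_apply_translate k (hfixd _ hu) hv p, hdexp _ hu, mul_one]
  intro v hv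
  -- the `p`th power translates `v` by an element of `Z`
  have hn : ∀ n : ℕ, (k ^ n) v * v⁻¹ ∈ Z := by
    intro n
    induction n with
    | zero => simp
    | succ n ih =>
      have hmem : (k ^ n) v ∈ V := by
        have := V.mul_mem (hZV ih) hv
        rwa [inv_mul_cancel_right] at this
      have : (k ^ (n + 1)) v * v⁻¹ =
          (k ((k ^ n) v) * ((k ^ n) v)⁻¹) * ((k ^ n) v * v⁻¹) := by
        rw [pow_succ', MulAut.mul_apply]; group
      rw [this]
      exact mul_mem (hkV _ hmem) ih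
  have hu := hn p
  have hv' : (k ^ p) v = v * ((k ^ p) v * v⁻¹) := by
    rw [hcomm v hv _ (hZV hu), inv_mul_cancel_right]
  rw [pow_mul, pow_apply_translate (k ^ p) (hZfix _ hu) hv' p, hZp _ hu, mul_one]

/-- An element of a subgroup whose action on `V` is a `p`-group acts as an element of
`Aut_S(E)`. -/
theorem exists_induced (h : Ctx p F) {E : Subgroup Ω} (hE : F.IsEssential p E)
    [Finite (MulAut E)] {K : Subgroup (MulAut E)} (hK : K ≤ F.autGroup E)
    (hPK : autInducedBy S E ≤ K) (V : Subgroup E) (hV : ∀ k ∈ K, ∀ v ∈ V, k v ∈ V)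
    {r : ℕ} (hpow : ∀ k ∈ K, ∀ v ∈ V, (k ^ p ^ r) v = v) :
    ∀ k ∈ K, ∃ π ∈ autInducedBy S E, ∀ v ∈ V, k v = π v := by
  let N : Subgroup K :=
  { carrier := {k | ∀ v ∈ V, (k : MulAut E) v = v}
    one_mem' := fun _ _ => rfl
    mul_mem' := fun {a b} ha hb v hv => by
      change (a : MulAut E) ((b : MulAut E) v) = v
      rw [hb v hv, ha v hv]
    inv_mem' := fun {a} ha v hv => by
      change ((a : MulAut E))⁻¹ v = v
      conv_lhs => rw [← ha v hv]
      exact (a : MulAut E).symm_apply_apply v }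
  haveI : N.Normal := ⟨fun n hn g v hv => by
    change (g : MulAut E) ((n : MulAut E) (((g⁻¹ : K) : MulAut E) v)) = v
    rw [hn _ (hV _ (g⁻¹).2 v hv)]
    exact (g : MulAut E).apply_symm_apply v⟩
  have hq : IsPGroup p (K ⧸ N) := by
    intro q
    obtain ⟨k, rfl⟩ := QuotientGroup.mk_surjective q
    refine ⟨r, ?_⟩
    rw [← QuotientGroup.mk_pow, QuotientGroup.eq_one_iff]
    intro v hv
    rw [Subgroup.coe_pow]
    exact hpow k k.2 v hv
  have hP : IsPGroup p ((autInducedBy S E).subgroupOf K) := by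
    have hS : IsPGroup p (autInducedBy S E) :=
      isPGroup_autInducedBy h.pgrp E
    exact hS.of_equiv (Subgroup.subgroupOfEquivOfLe hPK).symm
  obtain ⟨Q, hQ⟩ := hP.exists_le_sylow
  have himg : (Q : Subgroup K).map K.subtype = autInducedBy S E := by
    refine eq_autInduced_of_pgroup h hE ((Subgroup.map_subtype_le _).trans hK) (Q.2.map _) ?_
    intro a ha
    exact ⟨⟨a, hPK ha⟩, hQ (Subgroup.mem_subgroupOf.2 ha), rfl⟩
  have htop : (Q.mapSurjective (QuotientGroup.mk'_surjective N) : Subgroup (K ⧸ N)) = ⊤ := by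
    refine ((Q.mapSurjective (QuotientGroup.mk'_surjective N)).3 (Q := ⊤) ?_ le_top).symm
    exact hq.to_subgroup ⊤
  intro k hk
  have : QuotientGroup.mk' N ⟨k, hk⟩ ∈ (Q : Subgroup K).map (QuotientGroup.mk' N) := by
    change _ ∈ (Q.mapSurjective (QuotientGroup.mk'_surjective N) : Subgroup (K ⧸ N))
    rw [htop]
    exact Subgroup.mem_top _
  obtain ⟨π, hπQ, hπ⟩ := this
  refine ⟨(π : MulAut E), himg ▸ ⟨π, hπQ, rfl⟩, fun v hv => ?_⟩
  have hmem : π⁻¹ * ⟨k, hk⟩ ∈ N := QuotientGroup.eq.1 hπ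
  have := congrArg (π : MulAut E) (hmem v hv)
  rw [Subgroup.coe_mul, Subgroup.coe_inv, MulAut.mul_apply] at this
  rwa [MulAut.apply_inv_self] at this

/-- The facts about one noncentral essential subgroup. -/
structure Cen (F : FusionSystem S) (p : ℕ) (E : Subgroup Ω) (c : E) (Z V : Subgroup E) :
    Prop where
  ess : F.IsEssential p E
  cz : c ∈ Z
  zv : Z ≤ V
  inv : ∀ a ∈ F.autGroup E, ∀ v ∈ V, a v ∈ V
  exp : ∀ v ∈ V, v ^ p = 1
  comm : ∀ a ∈ V, ∀ b ∈ V, a * b = b * a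
  zfix : ∀ π ∈ autInducedBy S E, ∀ z ∈ Z, π z = z
  zmem : ∀ z : E, (z : Ω) ∈ zS S p ↔ z ∈ Z
  fixmem : ∀ v ∈ V, (∀ π ∈ autInducedBy S E, π v = v) → v ∈ Z
  centre : ∀ π ∈ autInducedBy S E, ∀ v ∈ V, π v * v⁻¹ ∈ Subgroup.zpowers c

/-- If `a` sends `c` into `Ω₁Z(S)`, then `a` fixes `Ω₁Z(S)`. -/
theorem Cen.fix_of_mem (h : Ctx p F) {E : Subgroup Ω} [Finite E] [Finite (MulAut E)] {c : E}
    {Z V : Subgroup E} (C : Cen F p E c Z V) {a : MulAut E} (ha : a ∈ F.autGroup E)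
    (hac : a c ∈ Z) : ∀ z ∈ Z, a z ∈ Z := by
  have hES : E ≤ S := C.ess.1.1
  have hd : Subgroup.zpowers (a c) ≤ Z := Subgroup.zpowers_le.2 hac
  have hPA : autInducedBy S E ≤ F.autGroup E := autInducedBy_le_autGroup F hES
  let K := chain (F.autGroup E) (a c) Z V hd C.zv
  have hmemV : ∀ v ∈ V, a⁻¹ v ∈ V := C.inv _ (inv_mem ha)
  have hPK : autInducedBy S E ≤ K := fun π hπ =>
    ⟨hPA hπ, C.zfix π hπ _ hac, fun z hz => by rw [C.zfix π hπ z hz, mul_inv_cancel]; exact one_mem _,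
      fun v hv => (Subgroup.zpowers_le.2 C.cz) (C.centre π hπ v hv)⟩
  have hline : ∀ π ∈ autInducedBy S E, ∀ v ∈ V,
      (a * π * a⁻¹) v * v⁻¹ ∈ Subgroup.zpowers (a c) := by
    intro π hπ v hv
    obtain ⟨i, hi⟩ := C.centre π hπ _ (hmemV v hv)
    refine ⟨i, ?_⟩
    change (a c) ^ i = _
    rw [← map_zpow, show c ^ i = _ from hi, map_mul, map_inv, MulAut.apply_inv_self]
    rfl
  have hconj : ∀ π ∈ autInducedBy S E, a * π * a⁻¹ ∈ K := by
    intro π hπ
    refine ⟨mul_mem (mul_mem ha (hPA hπ)) (inv_mem ha), ?_, fun z hz => hline π hπ z (C.zv hz),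
      fun v hv => hd (hline π hπ v hv)⟩
    rw [MulAut.mul_apply, MulAut.mul_apply, MulAut.inv_apply_self, C.zfix π hπ c C.cz]
  have hKV : ∀ k ∈ K, ∀ v ∈ V, k v ∈ V := fun k hk v hv => C.inv k hk.1 v hv
  have hKpow : ∀ k ∈ K, ∀ v ∈ V, (k ^ p ^ 2) v = v := by
    intro k hk v hv
    rw [pow_two]
    exact chain_pow k (a c) Z V (fun z hz => C.exp z (C.zv hz)) C.comm hd
      C.zv hk.2.1 hk.2.2.1 hk.2.2.2 v hv
  have hback : ∀ z ∈ Z, a⁻¹ z ∈ Z := by
    intro z hz
    refine C.fixmem _ (hmemV z (C.zv hz)) fun π hπ => ?_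
    obtain ⟨ρ, hρ, hρv⟩ := exists_induced h C.ess (K := K) (fun k hk => hk.1) hPK V hKV hKpow
      _ (hconj π hπ)
    apply a.injective
    rw [MulAut.apply_inv_self]
    exact (hρv z (C.zv hz)).trans (C.zfix ρ hρ z hz)
  intro z hz
  have hinj : Function.Injective fun w : Z => (⟨a⁻¹ w, hback w w.2⟩ : Z) := fun w w' hw =>
    Subtype.ext ((a⁻¹).injective (congrArg Subtype.val hw))
  obtain ⟨w, hw⟩ := (Finite.injective_iff_surjective.1 hinj) ⟨z, hz⟩
  have : a⁻¹ (w : E) = z := congrArg Subtype.val hw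
  rw [← this, MulAut.apply_inv_self]
  exact w.2

/-- A pair of transvections with different centres: the automorphism inverting `c`. -/
theorem Cen.exists_flip {E : Subgroup Ω} [Finite E] [Finite (MulAut E)] {c : E}
    {Z V : Subgroup E} (C : Cen F p E c Z V) (hc1 : c ≠ 1) (hZc : Nat.card Z = p ^ 2)
    (hVc : Nat.card V ≤ p ^ 3) {a : MulAut E} (ha : a ∈ F.autGroup E) (hac : a c ∉ Z)
    (hai : a⁻¹ c ∉ Z) :
    (∃ w ∈ F.autGroup E, w c = c⁻¹ ∧ ∀ t ∈ Z, a⁻¹ t ∈ Z → w t = t) ∧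
      (∀ z ∈ Z, ∃ i : ℤ, ∃ t ∈ Z, a⁻¹ t ∈ Z ∧ z = c ^ i * t) := by
  have hp : p.Prime := Fact.out
  have hES : E ≤ S := C.ess.1.1
  have hPA : autInducedBy S E ≤ F.autGroup E := autInducedBy_le_autGroup F hES
  have hcp : c ^ p = 1 := C.exp _ (C.zv C.cz)
  constructor
  · have key : ∀ v ∈ V, v ∉ Z → ∀ w ∈ Subgroup.zpowers c,
        ∃ g ∈ autInducedBy S E, g v = v * w := by
      intro v hv hvZ w hw
      by_contra hcon
      refine hvZ (C.fixmem v hv fun π hπ => ?_)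
      by_contra hne
      have hu := C.centre π hπ v hv
      have hu1 : π v * v⁻¹ ≠ 1 := fun h1 => hne (mul_inv_eq_one.1 h1)
      obtain ⟨m, hm⟩ := exists_pow_eq hcp hu hu1 hw
      refine hcon ⟨π ^ m, pow_mem hπ m, ?_⟩
      have hfix : π (π v * v⁻¹) = π v * v⁻¹ :=
        C.zfix π hπ _ ((Subgroup.zpowers_le.2 C.cz) hu)
      rw [pow_apply_translate π hfix ?_ m, hm]
      rw [C.comm v hv _ (C.zv ((Subgroup.zpowers_le.2 C.cz) hu)), inv_mul_cancel_right]
    obtain ⟨g, hg, hgd⟩ := key (a c) (C.inv a ha _ (C.zv C.cz)) hac c (Subgroup.mem_zpowers c)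
    obtain ⟨g', hg', hg'd⟩ := key (a⁻¹ c) (C.inv _ (inv_mem ha) _ (C.zv C.cz)) hai c⁻¹
      (inv_mem (Subgroup.mem_zpowers c))
    have e1 : (a * g' * a⁻¹) c = c * (a c)⁻¹ := by
      rw [MulAut.mul_apply, MulAut.mul_apply, hg'd, map_mul, MulAut.apply_inv_self, map_inv]
    have e2 : (a * g' * a⁻¹) (a c) = a c := by
      rw [MulAut.mul_apply, MulAut.mul_apply, MulAut.inv_apply_self, C.zfix g' hg' c C.cz]
    have gc : g c = c := C.zfix g hg c C.cz
    have hcd : c * a c = a c * c := C.comm _ (C.zv C.cz) _ (C.inv a ha _ (C.zv C.cz))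
    set b := a * g' * a⁻¹ with hb
    have hbA : b ∈ F.autGroup E := mul_mem (mul_mem ha (hPA hg')) (inv_mem ha)
    set w := g * b * g with hw
    have hwA : w ∈ F.autGroup E := mul_mem (mul_mem (hPA hg) hbA) (hPA hg)
    have wc : w c = (a c)⁻¹ := by
      rw [hw, MulAut.mul_apply, MulAut.mul_apply, gc, e1, map_mul, map_inv, gc, hgd, mul_inv_rev,
        mul_inv_cancel_left]
    have wd : w (a c) = c := by
      rw [hw, MulAut.mul_apply, MulAut.mul_apply, hgd, map_mul, e1, e2, ← mul_assoc, ← hcd,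
        mul_inv_cancel_right, gc]
    refine ⟨w * w, mul_mem hwA hwA, by rw [MulAut.mul_apply, wc, map_inv, wd], fun t ht hta => ?_⟩
    have bt : b t = t := by
      rw [hb, MulAut.mul_apply, MulAut.mul_apply, C.zfix g' hg' _ hta, MulAut.apply_inv_self]
    have wt : w t = t := by
      rw [hw, MulAut.mul_apply, MulAut.mul_apply, C.zfix g hg t ht, bt, C.zfix g hg t ht]
    rw [MulAut.mul_apply, wt, wt]
  · -- count
    let T : Subgroup E := Z ⊓ Z.map a.toMonoidHom
    have hmem : ∀ t, t ∈ T ↔ t ∈ Z ∧ a⁻¹ t ∈ Z := fun t => by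
      refine and_congr_right fun _ => ⟨?_, fun ht => ⟨a⁻¹ t, ht, a.apply_symm_apply t⟩⟩
      rintro ⟨s, hs, rfl⟩
      change a⁻¹ (a s) ∈ Z
      rwa [MulAut.inv_apply_self]
    have hT1 : 1 < Nat.card T := by
      by_contra hcon
      have hbot : T = ⊥ := Subgroup.eq_bot_of_card_le _ (not_lt.1 hcon)
      let f : Z × Z → V := fun q =>
        ⟨q.1 * a q.2, mul_mem (C.zv q.1.2) (C.inv a ha _ (C.zv q.2.2))⟩
      have hf : Function.Injective f := by
        rintro ⟨x, y⟩ ⟨x', y'⟩ hq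
        have hq' : (x : E) * a y = x' * a y' := congrArg Subtype.val hq
        have he : (x' : E)⁻¹ * x = a ((y' : E) * (y : E)⁻¹) := by
          rw [map_mul, map_inv, eq_mul_inv_iff_mul_eq, mul_assoc, hq', inv_mul_cancel_left]
        have hT : (x' : E)⁻¹ * x ∈ T := by
          refine (hmem _).2 ⟨mul_mem (inv_mem x'.2) x.2, ?_⟩
          rw [he, MulAut.inv_apply_self]
          exact mul_mem y'.2 (inv_mem y.2)
        rw [hbot, Subgroup.mem_bot] at hT
        have hx : (x : E) = x' := (inv_mul_eq_one.1 hT).symm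
        rw [hx] at hq'
        exact Prod.ext (Subtype.ext hx) (Subtype.ext (a.injective (mul_left_cancel hq')))
      have := Nat.card_le_card_of_injective f hf
      rw [Nat.card_prod, hZc] at this
      have : p ^ 4 ≤ p ^ 3 := by
        calc p ^ 4 = p ^ 2 * p ^ 2 := by ring
          _ ≤ Nat.card V := this
          _ ≤ p ^ 3 := hVc
      exact absurd this (not_le.2 (Nat.pow_lt_pow_right hp.one_lt (by norm_num)))
    have hTp : p ≤ Nat.card T := by
      obtain ⟨t, ht⟩ := Subgroup.ne_bot_iff_exists_ne_one.1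
        (fun hb : T = ⊥ => by rw [hb, Subgroup.card_bot] at hT1; exact lt_irrefl 1 hT1)
      have ho : orderOf (t : E) = p :=
        orderOf_eq_prime (C.exp _ (C.zv ((hmem _).1 t.2).1))
          (fun e => ht (Subtype.ext e))
      rw [← ho, ← Nat.card_zpowers]
      exact Subgroup.card_le_of_le (Subgroup.zpowers_le.2 t.2)
    intro z hz
    let f : Subgroup.zpowers c × T → Z := fun q =>
      ⟨q.1 * q.2, mul_mem ((Subgroup.zpowers_le.2 C.cz) q.1.2) ((hmem _).1 q.2.2).1⟩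
    have hf : Function.Injective f := by
      rintro ⟨x, y⟩ ⟨x', y'⟩ hq
      have hq' : (x : E) * y = x' * y' := congrArg Subtype.val hq
      have he : (x' : E)⁻¹ * x = (y' : E) * (y : E)⁻¹ := by
        rw [eq_mul_inv_iff_mul_eq, mul_assoc, hq', inv_mul_cancel_left]
      have hin : (x' : E)⁻¹ * x ∈ Subgroup.zpowers c := mul_mem (inv_mem x'.2) x.2
      have hT : (x' : E)⁻¹ * x ∈ T := by rw [he]; exact mul_mem y'.2 (inv_mem y.2)
      have h1 : (x' : E)⁻¹ * x = 1 := by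
        by_contra hne
        obtain ⟨m, hm⟩ := exists_pow_eq hcp hin hne (Subgroup.mem_zpowers c)
        refine hai ?_
        rw [← hm, map_pow]
        exact pow_mem ((hmem _).1 hT).2 m
      have hx : (x : E) = x' := (inv_mul_eq_one.1 h1).symm
      rw [hx] at hq'
      exact Prod.ext (Subtype.ext hx) (Subtype.ext (mul_left_cancel hq'))
    have hcard : Nat.card Z ≤ Nat.card (Subgroup.zpowers c × T) := by
      rw [hZc, Nat.card_prod, Nat.card_zpowers, orderOf_eq_prime hcp hc1, pow_two]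
      exact Nat.mul_le_mul_left p hTp
    obtain ⟨⟨⟨x, i, hi⟩, t⟩, hxt⟩ := (hf.bijective_of_nat_card_le hcard).2 ⟨z, hz⟩
    refine ⟨i, t, ((hmem _).1 t.2).1, ((hmem _).1 t.2).2, ?_⟩
    have := congrArg Subtype.val hxt
    simp only [f] at this
    rw [← this, ← hi]

/-- An automorphism of `S` inverting `c` and trivial on `Ω₁Z(S)` modulo `c`. -/
def Flip (F : FusionSystem S) (p : ℕ) (c : S) (β : MulAut S) : Prop :=
  β ∈ F.autGroup S ∧ β c = c⁻¹ ∧
    ∀ z : S, (z : Ω) ∈ zS S p → β z * z⁻¹ ∈ Subgroup.zpowers c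

theorem flip_agree (h : Ctx p F) {c : S} (hc : (c : Ω) ∈ zS S p) {β β' : MulAut S}
    (hb : Flip F p c β) (hb' : Flip F p c β') {z : S} (hz : (z : Ω) ∈ zS S p) : β z = β' z := by
  have hp : p.Prime := Fact.out
  have hcomm : ∀ u : S, (u : Ω) ∈ zS S p → ∀ s : S, s * u = u * s := fun u hu s =>
    Subtype.ext (hu.2.2 s s.2)
  have hcz : ∀ i : ℤ, ((c ^ i : S) : Ω) ∈ zS S p := fun i => by
    rw [Subgroup.coe_zpow]; exact zpow_mem hc i
  set δ : MulAut S := β⁻¹ * β' with hδ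
  have hδA : δ ∈ F.autGroup S := mul_mem (inv_mem hb.1) hb'.1
  have hδc : δ c = c := by
    rw [hδ, MulAut.mul_apply, hb'.2.1, ← hb.2.1, MulAut.inv_apply_self]
  obtain ⟨i, hi⟩ := hb'.2.2 z hz
  obtain ⟨j, hj⟩ := hb.2.2 z hz
  have hi' : β' z = z * c ^ i := by
    rw [show c ^ i = β' z * z⁻¹ from hi, hcomm _ (hb'.2.2 z hz |> fun hm => ?_) z,
      inv_mul_cancel_right]
    obtain ⟨l, hl⟩ := hm
    rw [← show c ^ l = β' z * z⁻¹ from hl]
    exact hcz l
  have hj' : β z = z * c ^ j := by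
    rw [show c ^ j = β z * z⁻¹ from hj, hcomm _ (hb.2.2 z hz |> fun hm => ?_) z,
      inv_mul_cancel_right]
    obtain ⟨l, hl⟩ := hm
    rw [← show c ^ l = β z * z⁻¹ from hl]
    exact hcz l
  have hback : β⁻¹ z = z * c ^ j := by
    apply β.injective
    rw [MulAut.apply_inv_self, map_mul, map_zpow, hb.2.1, hj', inv_zpow, mul_inv_cancel_right]
  have hbc : β⁻¹ c = c⁻¹ := by
    apply β.injective
    rw [MulAut.apply_inv_self, map_inv, hb.2.1, inv_inv]
  have hδz : δ z = z * c ^ (j - i) := by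
    rw [hδ, MulAut.mul_apply, hi', map_mul, map_zpow, hback, hbc, inv_zpow, mul_assoc, zpow_sub]
  have hδp : (δ ^ p) z = z := by
    rw [pow_apply_translate δ (by rw [map_zpow, hδc]) hδz p, ← zpow_natCast (c ^ (j - i)),
      ← zpow_mul, mul_comm (j - i), zpow_mul, zpow_natCast,
      show c ^ p = 1 from Subtype.ext hc.2.1, one_zpow, mul_one]
  obtain ⟨R, hR⟩ := Cfsg.Agent.FusionBatch.autGroup_self_sylow h.pgrp h.sat
  haveI : Finite (MulAut S) := finite_mulAut S
  haveI hn : (R : Subgroup (F.autGroup S)).Normal := by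
    rw [hR]; infer_instance
  have hmem := (R : Subgroup (F.autGroup S)).pow_index_mem (⟨δ, hδA⟩ : F.autGroup S)
  rw [hR, Subgroup.mem_subgroupOf] at hmem
  obtain ⟨s, hs⟩ := hmem
  set N := (R : Subgroup (F.autGroup S)).index with hN
  have hN' : N = ((Inn S).subgroupOf (F.autGroup S)).index := by rw [hN, hR]
  have hδN : (δ ^ N) z = z := by
    have := congrArg (fun φ : MulAut S => φ z) hs
    rw [hN']
    simp only [MulAut.conj_apply, hcomm z hz, mul_inv_cancel_right, Subgroup.coe_pow] at this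
    exact this.symm
  have hco : Nat.gcd p N = 1 := (hp.coprime_iff_not_dvd.2 (R.not_dvd_index))
  let H : Subgroup (MulAut S) := MulAction.stabilizer (MulAut S) z
  have h1 : δ ^ p ∈ H := hδp
  have h2 : δ ^ N ∈ H := hδN
  have h3 : δ ∈ H := by
    have := Nat.gcd_eq_gcd_ab p N
    rw [hco, Nat.cast_one] at this
    rw [← zpow_one δ, this, zpow_add, zpow_mul, zpow_mul, zpow_natCast, zpow_natCast]
    exact mul_mem (zpow_mem h1 _) (zpow_mem h2 _)
  have h4 : δ z = z := h3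
  rw [hδ, MulAut.mul_apply] at h4
  conv_lhs => rw [← h4]
  exact β.apply_symm_apply _

theorem inv_sq_eq_one {G : Type u} [Group G] (h : Odd p) {u : G} (hu : u ^ p = 1)
    (h2 : u⁻¹ = u) : u = 1 := by
  have h2' : u ^ 2 = 1 := by
    rw [pow_two]; nth_rewrite 1 [← h2]; exact inv_mul_cancel u
  obtain ⟨k, hk⟩ := h
  rw [hk, pow_succ, pow_mul, h2', one_pow, one_mul] at hu
  exact hu

end Centre

open Centre

universe u

variable {Ω : Type u} [Group Ω] {S : Subgroup Ω} {p : ℕ} [Fact p.Prime] [Finite S]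
  {F : FusionSystem S}

/-- If all commutators `[vsub E, S]` lie in one line fixed by `Aut_F(S)`, there is a contradiction. -/
theorem false_of_common_centre (h : Ctx p F) (hz : Nat.card (zS S p) ≠ p) {c : Ω}
    (hc : c ∈ zS S p)
    (hcom : ∀ E, Noncentral F p E → ∀ v ∈ vsub F p E, ∀ s ∈ S,
      s * v * s⁻¹ * v⁻¹ ∈ Subgroup.zpowers c)
    (hfix : ∀ β ∈ F.autGroup S, ∀ (hcS : c ∈ S),
      ((β ⟨c, hcS⟩ : S) : Ω) ∈ Subgroup.zpowers c) : False := by
  have hp : p.Prime := Fact.out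
  have hcS : c ∈ S := zS_le hc
  obtain ⟨E₀, hE₀⟩ := exists_noncentral h
  have hc1 : c ≠ 1 := by
    intro e
    have hV := vsub_spec h hE₀
    refine hV.zS_lt.not_ge fun v hv => hV.fixed v hv fun s hs => ?_
    have := hcom E₀ hE₀ v hv s hs
    rw [e, Subgroup.zpowers_one_eq_bot, Subgroup.mem_bot, mul_inv_eq_one,
      mul_inv_eq_iff_eq_mul] at this
    exact this
  -- per essential subgroup
  have key : ∀ E, F.IsEssential p E → ∀ a ∈ F.autGroup E,
      (∀ x : E, (x : Ω) ∈ zS S p → ((a x : E) : Ω) ∈ zS S p) ∨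
      (∃ β, Flip F p ⟨c, hcS⟩ β ∧
        ∀ (z : E) (hzS : (z : Ω) ∈ S), (z : Ω) ∈ zS S p →
          (((a⁻¹ z : E) : Ω) ∈ zS S p ↔ β ⟨z, hzS⟩ = ⟨z, hzS⟩)) := by
    intro E hE a ha
    by_cases hin : Inv F E (zS S p)
    · exact Or.inl (hin a ha)
    have hES : E ≤ S := hE.1.1
    haveI : Finite E := finite_sub hES
    haveI : Finite (MulAut E) := finite_mulAut E
    have hN : Noncentral F p E := ⟨hE, hin⟩
    have hV := vsub_spec h hN
    have hZE : zS S p ≤ E := zS_le_essential h hE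
    let c' : E := ⟨c, hZE hc⟩
    let Z := (zS S p).subgroupOf E
    let V := (vsub F p E).subgroupOf E
    have C : Cen F p E c' Z V := by
      refine ⟨hE, hc, Subgroup.comap_mono hV.zS_lt.le, fun b hb v hv => hV.inv b hb v hv,
        fun v hv => Subtype.ext (hV.elem.1 v hv),
        fun x hx y hy => Subtype.ext (hV.elem.2 x hx y hy), ?_, fun z => Iff.rfl, ?_, ?_⟩
      · intro π hπ z hz
        obtain ⟨g, hg, hg'⟩ := mem_autInducedBy.1 hπ
        apply Subtype.ext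
        have h0 : g * (z : Ω) = (z : Ω) * g := hz.2.2 g hg
        rw [hg' z, h0, mul_inv_cancel_right]
      · intro v hv hall
        refine hV.fixed v hv fun s hs => ?_
        obtain ⟨γ, hγ, -, hγ'⟩ := exists_conj h hE hs
        have := hγ' v
        rw [hall γ hγ] at this
        exact mul_inv_eq_iff_eq_mul.1 this.symm
      · intro π hπ v hv
        obtain ⟨g, hg, hg'⟩ := mem_autInducedBy.1 hπ
        obtain ⟨i, hi⟩ := hcom E hN v hv g hg
        refine ⟨i, Subtype.ext ?_⟩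
        rw [Subgroup.coe_mul, Subgroup.coe_inv, hg' v]
        exact hi
    by_cases hac : a c' ∈ Z
    · exact Or.inl fun x hx => C.fix_of_mem h ha hac x hx
    refine Or.inr ?_
    have hai : a⁻¹ c' ∉ Z := by
      intro hi
      have := C.fix_of_mem h (inv_mem ha) hi
      have hinj : Function.Injective fun w : Z => (⟨a⁻¹ w, this w w.2⟩ : Z) := fun w w' hw =>
        Subtype.ext ((a⁻¹).injective (congrArg Subtype.val hw))
      obtain ⟨w, hw⟩ := (Finite.injective_iff_surjective.1 hinj) ⟨c', hc⟩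
      refine hac ?_
      have hw' : a⁻¹ (w : E) = c' := congrArg Subtype.val hw
      rw [← hw', MulAut.apply_inv_self]
      exact w.2
    have hc'1 : c' ≠ 1 := fun e => hc1 (congrArg Subtype.val e)
    have hVE : Nat.card V = Nat.card (vsub F p E) :=
      Nat.card_congr (Subgroup.subgroupOfEquivOfLe hV.le).toEquiv
    have hV3 : Nat.card V ≤ p ^ 3 := hVE ▸ elem_card_le h hV.elem (hV.le.trans hES)
    have hZ2 : Nat.card Z = p ^ 2 := by
      rw [Nat.card_congr (Subgroup.subgroupOfEquivOfLe hZE).toEquiv]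
      haveI : Finite (zS S p) := finite_sub zS_le
      obtain ⟨k, hk⟩ := IsPGroup.iff_card.1 (h.pgrp.to_le (zS_le (S := S) (p := p)))
      haveI : Finite (vsub F p E) := finite_sub (hV.le.trans hES)
      have hlt : Nat.card (zS S p) < p ^ 3 := by
        refine lt_of_lt_of_le ?_ (hVE ▸ hV3)
        refine lt_of_le_of_ne (Subgroup.card_le_of_le hV.zS_lt.le) fun e => ?_
        exact hV.zS_lt.ne (Subgroup.eq_of_le_of_card_ge hV.zS_lt.le e.ge)
      rw [hk] at hlt hz ⊢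
      have : k < 3 := (Nat.pow_lt_pow_iff_right hp.one_lt).1 hlt
      have hk0 : k ≠ 0 := by
        rintro rfl
        rw [pow_zero] at hk
        exact zS_ne_bot h (Subgroup.card_eq_one.1 hk)
      have hk1 : k ≠ 1 := by rintro rfl; exact hz (pow_one p)
      obtain rfl : k = 2 := by omega
      rfl
    obtain ⟨⟨w, hw, hwc, hwt⟩, hdec⟩ := C.exists_flip hc'1 hZ2 hV3 ha hac hai
    have hwZ : ∀ z ∈ Z, ∃ i : ℤ, ∃ t ∈ Z, a⁻¹ t ∈ Z ∧ z = c' ^ i * t ∧ w z = c' ^ (-i) * t := by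
      intro z hz
      obtain ⟨i, t, ht, hta, rfl⟩ := hdec z hz
      exact ⟨i, t, ht, hta, rfl, by rw [map_mul, map_zpow, hwc, hwt t ht hta, inv_zpow, zpow_neg]⟩
    have hfixZ : img w (zS S p) = zS S p := by
      haveI : Finite (zS S p) := finite_sub zS_le
      refine Subgroup.eq_of_le_of_card_ge ?_ (le_of_eq ?_)
      · rintro _ ⟨x, hx, rfl⟩
        obtain ⟨i, t, ht, -, -, e⟩ := hwZ x hx
        change ((w x : E) : Ω) ∈ zS S p
        rw [e]
        exact (zS S p).mul_mem (Z.zpow_mem (C.cz) (-i)) ht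
      · rw [img, ← Nat.card_congr (Subgroup.subgroupOfEquivOfLe hZE).toEquiv]
        exact (Subgroup.card_map_of_injective (f := E.subtype.comp w.toMonoidHom)
          (fun u v huv => w.injective (E.subtype_injective huv))).symm
    obtain ⟨β, hβ, hβw⟩ := restrict_zS h hE hw hfixZ
    have hβz : ∀ (z : E) (hzS : (z : Ω) ∈ S), (z : Ω) ∈ zS S p →
        ((β ⟨z, hzS⟩ : S) : Ω) = ((w z : E) : Ω) := hβw
    refine ⟨β, ⟨hβ, ?_, ?_⟩, ?_⟩
    · apply Subtype.ext
      have := hβz c' hcS hc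
      rw [hwc] at this
      exact this
    · rintro ⟨z, hzS⟩ hzz
      obtain ⟨i, t, ht, -, e, ew⟩ := hwZ ⟨z, hZE hzz⟩ hzz
      refine ⟨-i + -i, Subtype.ext ?_⟩
      change ((⟨c, hcS⟩ : S) ^ (-i + -i) : S).1 = ((β ⟨z, hzS⟩ : S) : Ω) * z⁻¹
      rw [hβz ⟨z, hZE hzz⟩ hzS hzz, ew, Subgroup.coe_zpow]
      have ez : z = c ^ i * (t : Ω) := congrArg Subtype.val e
      rw [ez, Subgroup.coe_mul, Subgroup.coe_zpow, zpow_add, mul_inv_rev]
      change c ^ (-i) * c ^ (-i) = c ^ (-i) * (t : Ω) * ((t : Ω)⁻¹ * (c ^ i)⁻¹)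
      rw [mul_assoc, mul_inv_cancel_left, zpow_neg]
    · intro z hzS hzz
      obtain ⟨i, t, ht, hta, e, ew⟩ := hwZ z hzz
      constructor
      · intro hza
        apply Subtype.ext
        rw [hβz z hzS hzz, hwt z hzz hza]
      · intro hfx
        have h1 : w z = z := Subtype.ext ((hβz z hzS hzz).symm.trans (congrArg Subtype.val hfx))
        rw [ew, e] at h1
        have h2 : (c' ^ i)⁻¹ = c' ^ i := by rw [← zpow_neg]; exact mul_right_cancel h1
        have h3 : c' ^ i = 1 := inv_sq_eq_one h.odd (by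
          rw [← zpow_natCast, ← zpow_mul, mul_comm, zpow_mul, zpow_natCast,
            C.exp c' (C.zv C.cz), one_zpow]) h2
        rw [e, h3, one_mul]
        exact hta
  -- one flip
  obtain ⟨β₀, hβ₀, hiff₀⟩ : ∃ β₀, Flip F p ⟨c, hcS⟩ β₀ ∧
      ∃ a ∈ F.autGroup E₀, ¬ (∀ x : E₀, (x : Ω) ∈ zS S p → ((a x : E₀) : Ω) ∈ zS S p) := by
    have hni := hE₀.2
    simp only [Inv, not_forall] at hni
    obtain ⟨a, ha, x, hx, hx'⟩ := hni
    rcases key E₀ hE₀.1 a ha with hl | ⟨β, hβ, -⟩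
    · exact absurd (hl x hx) hx'
    · exact ⟨β, hβ, a, ha, fun hh => hx' (hh x hx)⟩
  let Q : Subgroup Ω :=
  { carrier := {q | ∃ hq : q ∈ zS S p, β₀ ⟨q, zS_le hq⟩ = ⟨q, zS_le hq⟩}
    one_mem' := ⟨one_mem _, map_one β₀⟩
    mul_mem' := by
      rintro x y ⟨hx, ex⟩ ⟨hy, ey⟩
      refine ⟨mul_mem hx hy, ?_⟩
      have : (⟨x * y, zS_le (mul_mem hx hy)⟩ : S) = ⟨x, zS_le hx⟩ * ⟨y, zS_le hy⟩ := rfl
      rw [this, map_mul, ex, ey]
    inv_mem' := by
      rintro x ⟨hx, ex⟩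
      refine ⟨inv_mem hx, ?_⟩
      have : (⟨x⁻¹, zS_le (inv_mem hx)⟩ : S) = (⟨x, zS_le hx⟩ : S)⁻¹ := rfl
      rw [this, map_inv, ex] }
  -- `Q` is invariant in `S`
  have hQS : Q ≤ S := fun q hq => zS_le hq.1
  have hQi : Inv F S Q := by
    intro b hb x hx
    obtain ⟨hxZ, hxfix⟩ := hx
    have hbx : ((b x : S) : Ω) ∈ zS S p := zS_inv_self b hb x hxZ
    have hfl : Flip F p ⟨c, hcS⟩ (b * β₀ * b⁻¹) := by
      have hline : ∀ d ∈ F.autGroup S, ∀ u ∈ Subgroup.zpowers (⟨c, hcS⟩ : S),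
          d u ∈ Subgroup.zpowers (⟨c, hcS⟩ : S) := by
        rintro d hd _ ⟨i, rfl⟩
        obtain ⟨k, hk⟩ := hfix d hd hcS
        refine ⟨k * i, ?_⟩
        change (⟨c, hcS⟩ : S) ^ (k * i) = d ((⟨c, hcS⟩ : S) ^ i)
        rw [map_zpow, zpow_mul]
        congr 1
        exact Subtype.ext hk
      refine ⟨mul_mem (mul_mem hb hβ₀.1) (inv_mem hb), ?_, fun z hz => ?_⟩
      · obtain ⟨k, hk⟩ := hline _ (inv_mem hb) _ (Subgroup.mem_zpowers _)
        rw [MulAut.mul_apply, MulAut.mul_apply, ← show (⟨c, hcS⟩ : S) ^ k = _ from hk, map_zpow,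
          hβ₀.2.1, inv_zpow, map_inv, show (⟨c, hcS⟩ : S) ^ k = _ from hk,
          MulAut.apply_inv_self]
      · have := hline b hb _ (hβ₀.2.2 (b⁻¹ z) (zS_inv_self b⁻¹ (inv_mem hb) z hz))
        rwa [map_mul, map_inv, MulAut.apply_inv_self] at this
    refine ⟨hbx, ?_⟩
    rw [flip_agree h (c := ⟨c, hcS⟩) hc hβ₀ hfl hbx, MulAut.mul_apply, MulAut.mul_apply,
      MulAut.inv_apply_self]
    exact congrArg b hxfix
  -- `Q` is nontrivial
  have hQne : Q ≠ ⊥ := by
    intro hbot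
    haveI : Finite (zS S p) := finite_sub zS_le
    haveI : Finite (Subgroup.zpowers c) := finite_sub (Subgroup.zpowers_le.2 hcS)
    have hcard : Nat.card (zS S p) ≤ Nat.card (Subgroup.zpowers c) := by
      refine Nat.card_le_card_of_injective
        (fun q : zS S p => (⟨(β₀ ⟨q, zS_le q.2⟩ : S) * (q : Ω)⁻¹, ?_⟩ : Subgroup.zpowers c))
        ?_
      · obtain ⟨i, hi⟩ := hβ₀.2.2 ⟨q, zS_le q.2⟩ q.2
        refine ⟨i, ?_⟩
        have := congrArg Subtype.val hi
        simpa using this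
      · intro q r hqr
        have e : ((β₀ ⟨q, zS_le q.2⟩ : S) : Ω) * (q : Ω)⁻¹ =
            ((β₀ ⟨r, zS_le r.2⟩ : S) : Ω) * (r : Ω)⁻¹ := congrArg Subtype.val hqr
        have hd : ((r⁻¹ * q : zS S p) : Ω) ∈ Q := by
          refine ⟨(r⁻¹ * q : zS S p).2, Subtype.ext ?_⟩
          have hb : ((β₀ ⟨q, zS_le q.2⟩ : S) : Ω) =
              ((β₀ ⟨r, zS_le r.2⟩ : S) : Ω) * ((r : Ω)⁻¹ * q) := by
            rw [← mul_assoc, ← e, inv_mul_cancel_right]
          have he : (⟨((r⁻¹ * q : zS S p) : Ω), zS_le (r⁻¹ * q : zS S p).2⟩ : S) =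
              (⟨(r : Ω), zS_le r.2⟩ : S)⁻¹ * ⟨(q : Ω), zS_le q.2⟩ := rfl
          rw [he, map_mul, map_inv, Subgroup.coe_mul, Subgroup.coe_inv, hb, inv_mul_cancel_left]
          rfl
        rw [hbot, Subgroup.mem_bot] at hd
        exact (inv_mul_eq_one.1 (Subtype.ext hd)).symm
    rw [Nat.card_zpowers, orderOf_eq_prime hc.2.1 hc1] at hcard
    obtain ⟨k, hk⟩ := IsPGroup.iff_card.1 (h.pgrp.to_le (zS_le (S := S) (p := p)))
    rw [hk] at hz hcard
    have : k ≤ 1 := (Nat.pow_le_pow_iff_right hp.one_lt).1 (by rwa [pow_one])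
    rcases Nat.le_one_iff_eq_zero_or_eq_one.1 this with rfl | rfl
    · exact zS_ne_bot h (Subgroup.card_eq_one.1 (by rw [hk, pow_zero]))
    · exact hz (pow_one p)
  refine false_of_inv h hQne hQS hQi fun E hE => ⟨fun q hq => zS_le_essential h hE hq.1, ?_⟩
  intro a ha x hx
  obtain ⟨hxZ, hxfix⟩ := hx
  rcases key E hE a ha with hl | ⟨β, hβ, hiff⟩
  · haveI : Finite (zS S p) := finite_sub zS_le
    have hfixZ : img a (zS S p) = zS S p := by
      refine Subgroup.eq_of_le_of_card_ge ?_ (le_of_eq ?_)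
      · rintro _ ⟨y, hy, rfl⟩
        exact hl y hy
      · rw [img, ← Nat.card_congr (Subgroup.subgroupOfEquivOfLe (zS_le_essential h hE)).toEquiv]
        exact (Subgroup.card_map_of_injective (f := E.subtype.comp a.toMonoidHom)
          (fun u v huv => a.injective (E.subtype_injective huv))).symm
    obtain ⟨b, hb, hba⟩ := restrict_zS h hE ha hfixZ
    have hxS : (x : Ω) ∈ S := zS_le hxZ
    have := hQi b hb ⟨x, hxS⟩ ⟨hxZ, hxfix⟩
    rwa [hba x hxS hxZ] at this
  · -- `a` moves the line: then `Q` is the intersection of the two central subgroups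
    have hxS : (x : Ω) ∈ S := zS_le hxZ
    have hxa : ((a⁻¹ x : E) : Ω) ∈ zS S p := by
      refine (hiff x hxS hxZ).2 ?_
      rw [flip_agree h (c := ⟨c, hcS⟩) hc hβ hβ₀ (z := ⟨x, hxS⟩) hxZ]
      exact hxfix
    rcases key E hE a⁻¹ (inv_mem ha) with hl | ⟨β', hβ', hiff'⟩
    · haveI : Finite E := finite_sub (hE.1.1)
      have hinj : Function.Injective fun w : (zS S p).subgroupOf E =>
          (⟨a⁻¹ w, hl w w.2⟩ : (zS S p).subgroupOf E) := fun w w' hw =>
        Subtype.ext ((a⁻¹).injective (congrArg Subtype.val hw))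
      obtain ⟨w, hw⟩ := (Finite.injective_iff_surjective.1 hinj) ⟨x, hxZ⟩
      have hw' : a⁻¹ (w : E) = x := congrArg Subtype.val hw
      have hax : ((a x : E) : Ω) ∈ zS S p := by
        rw [← hw', MulAut.apply_inv_self]; exact w.2
      refine ⟨hax, ?_⟩
      rw [← flip_agree h (c := ⟨c, hcS⟩) hc hβ hβ₀ hax]
      exact (hiff (a x) (zS_le hax) hax).1 (by rw [MulAut.inv_apply_self]; exact hxZ)
    · have hax : ((a x : E) : Ω) ∈ zS S p := by
        have := (hiff' x hxS hxZ).2 (by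
          rw [flip_agree h (c := ⟨c, hcS⟩) hc hβ' hβ₀ (z := ⟨x, hxS⟩) hxZ]
          exact hxfix)
        rwa [inv_inv] at this
      refine ⟨hax, ?_⟩
      rw [← flip_agree h (c := ⟨c, hcS⟩) hc hβ hβ₀ hax]
      exact (hiff (a x) (zS_le hax) hax).1 (by rw [MulAut.inv_apply_self]; exact hxZ)

end Cfsg.Agent.EssMax
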