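import Cfsg.Agent.EssMax.LemA
import Cfsg.Agent.EssMax.ZTwo
import Cfsg.Agent.EssMax.Pairs
import Cfsg.Agent.EssMax.Uniq
import Cfsg.Agent.EssMax.Transport

/-!
All essential subgroups normal: `S` is a Sylow subgroup of `Sp(4,p)` (S5181).
-/

set_option autoImplicit false

open Cfsg Cfsg.FusionSystem Cfsg.Agent.FusionSys Cfsg.Agent.FusRankThree

namespace Cfsg.Agent.EssMax

universe u

variable {Ω : Type u} [Group Ω] {S : Subgroup Ω} {p : ℕ} [Fact p.Prime] [Finite S]
  {F : FusionSystem S}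

/-- Two commuting elementary subgroups generate an elementary one. -/
theorem elem_join {A B : Subgroup Ω} (hA : Elem p A) (hB : Elem p B)
    (hAB : ∀ a ∈ A, ∀ b ∈ B, a * b = b * a) : Elem p (A ⊔ B) := by
  have hc : ∀ a ∈ (A : Set Ω) ∪ B, ∀ b ∈ (A : Set Ω) ∪ B, a * b = b * a := by
    rintro a (ha | ha) b (hb | hb)
    exacts [hA.2 a ha b hb, hAB a ha b hb, (hAB b hb a ha).symm, hB.2 a ha b hb]
  letI := Subgroup.isMulCommutative_closure hc
  rw [Subgroup.sup_eq_closure]
  have hcomm : ∀ a ∈ Subgroup.closure ((A : Set Ω) ∪ B),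
      ∀ b ∈ Subgroup.closure ((A : Set Ω) ∪ B), a * b = b * a := fun a ha b hb =>
    congrArg Subtype.val (mul_comm' (⟨a, ha⟩ : Subgroup.closure ((A : Set Ω) ∪ B)) ⟨b, hb⟩)
  refine ⟨fun a ha => ?_, hcomm⟩
  induction ha using Subgroup.closure_induction with
  | mem a ha => exact ha.elim (hA.1 a) (hB.1 a)
  | one => exact one_pow p
  | mul a b ha' hb' ha hb =>
    rw [(show Commute a b from hcomm a ha' b hb').mul_pow, ha, hb, one_mul]
  | inv a _ ha => rw [inv_pow, ha, inv_one]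

/-- An elementary subgroup of order `p ^ 3` absorbs the commuting elementary subgroups. -/
theorem le_of_commute_max (h : Ctx p F) {U A : Subgroup Ω} (hU : Elem p U) (hUS : U ≤ S)
    (hUc : Nat.card U = p ^ 3) (hA : Elem p A) (hAS : A ≤ S)
    (hc : ∀ a ∈ A, ∀ u ∈ U, a * u = u * a) : A ≤ U := by
  have h1 := elem_card_le h (elem_join hA hU hc) (sup_le hAS hUS)
  haveI : Finite (A ⊔ U : Subgroup Ω) := finite_of_le ‹_› (sup_le hAS hUS)
  have h2 : U = A ⊔ U := eq_of_le_of_card_le le_sup_right (by rw [hUc]; exact h1)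
  exact h2.symm ▸ le_sup_left

theorem vsub_le_top (h : Ctx p F) {E : Subgroup Ω} (hE : Noncentral F p E) : vsub F p E ≤ S :=
  (vsub_spec h hE).le.trans hE.1.1.1

/-- `|vsub E|` is `p ^ 2` or `p ^ 3`, and more than `|Ω₁Z(S)|`. -/
theorem card_vsub_cases (h : Ctx p F) {E : Subgroup Ω} (hE : Noncentral F p E) :
    Nat.card (zS S p) < Nat.card (vsub F p E) ∧
      (Nat.card (vsub F p E) = p ^ 2 ∨ Nat.card (vsub F p E) = p ^ 3) := by
  have hpp : p.Prime := Fact.out
  have hsp := vsub_spec h hE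
  haveI : Finite (vsub F p E) := finite_of_le ‹_› (vsub_le_top h hE)
  have hlt : Nat.card (zS S p) < Nat.card (vsub F p E) := by
    refine lt_of_le_of_ne (Subgroup.card_le_of_le hsp.zS_lt.le) fun e => hsp.zS_lt.ne ?_
    exact eq_of_le_of_card_le hsp.zS_lt.le e.ge
  refine ⟨hlt, ?_⟩
  obtain ⟨k, hk⟩ := (h.pgrp.to_le (vsub_le_top h hE)).exists_card_eq
  have hle := elem_card_le h hsp.elem (vsub_le_top h hE)
  haveI : Finite (zS S p) := finite_of_le ‹_› zS_le
  obtain ⟨j, hj⟩ := (h.pgrp.to_le (zS_le (S := S) (p := p))).exists_card_eq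
  have hj0 : j ≠ 0 := fun e => zS_ne_bot h (Subgroup.eq_bot_of_card_eq _ (by rw [hj, e, pow_zero]))
  rw [hk] at hle hlt ⊢
  rw [hj] at hlt
  have h1 := (Nat.pow_lt_pow_iff_right hpp.one_lt).1 hlt
  have h2 := (Nat.pow_le_pow_iff_right hpp.one_lt).1 hle
  rcases (show k = 2 ∨ k = 3 by omega) with rfl | rfl
  · exact Or.inl rfl
  · exact Or.inr rfl

/-- The case of a nontrivial `Ω₁Z(S)` of order not `p`. -/
theorem sympSylow_of_zS_ne (h : Ctx p F) (hz : Nat.card (zS S p) ≠ p) : SympSylow S p := by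
  by_contra hnot
  have hpp : p.Prime := Fact.out
  obtain ⟨E₀, hE₀⟩ := exists_noncentral h
  have hcard3 : ∀ E, Noncentral F p E → Nat.card (vsub F p E) = p ^ 3 ∧
      Nat.card (zS S p) = p ^ 2 := by
    intro E hE
    obtain ⟨hlt, hcV⟩ := card_vsub_cases h hE
    haveI : Finite (zS S p) := finite_of_le ‹_› zS_le
    obtain ⟨j, hj⟩ := (h.pgrp.to_le (zS_le (S := S) (p := p))).exists_card_eq
    have hj0 : j ≠ 0 := fun e =>
      zS_ne_bot h (Subgroup.eq_bot_of_card_eq _ (by rw [hj, e, pow_zero]))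
    have hj1 : j ≠ 1 := fun e => hz (by rw [hj, e, pow_one])
    rcases hcV with hcV | hcV <;> rw [hcV, hj] at hlt <;>
      have h1 := (Nat.pow_lt_pow_iff_right hpp.one_lt).1 hlt
    · omega
    · exact ⟨hcV, by rw [hj, show j = 2 by omega]⟩
  by_cases hall : ∀ E, Noncentral F p E → ∀ G, F.IsEssential p G → vsub F p E ≤ G
  · -- all `vsub` are equal
    have hsame : ∀ E, Noncentral F p E → vsub F p E = vsub F p E₀ := by
      intro E hE
      haveI : Finite (vsub F p E₀) := finite_of_le ‹_› (vsub_le_top h hE₀)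
      refine eq_of_le_of_card_le (le_of_commute_max h (vsub_spec h hE₀).elem (vsub_le_top h hE₀)
        (hcard3 E₀ hE₀).1 (vsub_spec h hE).elem (vsub_le_top h hE) fun a ha u hu => ?_)
        (by rw [(hcard3 E hE).1, (hcard3 E₀ hE₀).1])
      have : a ∈ centralizerIn S (vsub F p E₀) :=
        (vsub_spec h hE₀).cent.symm ▸ hall E hE E₀ hE₀.1 ha
      exact ((mem_centralizerIn.1 this).2 u hu).symm
    have hsp := vsub_spec h hE₀
    set V := vsub F p E₀ with hV
    have hVS : V ≤ S := vsub_le_top h hE₀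
    haveI : Finite V := finite_of_le ‹_› hVS
    obtain ⟨v₀, hv₀, hv₀Z⟩ := SetLike.exists_of_lt hsp.zS_lt
    obtain ⟨x, hx, hxE⟩ : ∃ x ∈ S, x ∉ E₀ := by
      obtain ⟨x, hx, hxE⟩ := exists_mem_normalizerIn_not_mem h.pgrp h.sat hE₀.1
      exact ⟨x, hx.1, hxE⟩
    -- commutators are central
    have hkey : ∀ s ∈ S, ∀ v ∈ V, s * v * s⁻¹ * v⁻¹ ∈ zS S p := by
      intro s hs v hv
      haveI hZn : ((zS S p).subgroupOf S).Normal := ⟨fun n hn g => by
        rw [Subgroup.mem_subgroupOf] at hn ⊢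
        rw [Subgroup.coe_mul, Subgroup.coe_mul, Subgroup.coe_inv, hn.2.2 g g.2,
          mul_inv_cancel_right]
        exact hn⟩
      haveI hVn : (V.subgroupOf S).Normal := ⟨fun n hn g => by
        rw [Subgroup.mem_subgroupOf] at hn ⊢
        exact hsp.normal g g.2 n hn⟩
      set π := QuotientGroup.mk' ((zS S p).subgroupOf S)
      have hcen : (V.subgroupOf S).map π ≤ Subgroup.center _ := by
        haveI : ((V.subgroupOf S).map π).Normal :=
          Subgroup.Normal.map hVn π (QuotientGroup.mk'_surjective _)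
        refine PGroup.le_center_of_card_eq (h.pgrp.to_quotient _) ?_
        rw [← Subgroup.relIndex_ker, QuotientGroup.ker_mk', Subgroup.relIndex_subgroupOf hVS]
        have h1 := Subgroup.relIndex_mul_relIndex ⊥ (zS S p) V bot_le hsp.zS_lt.le
        rw [Subgroup.relIndex_bot_left, Subgroup.relIndex_bot_left, (hcard3 E₀ hE₀).1,
          (hcard3 E₀ hE₀).2, pow_succ p 2] at h1
        exact Nat.eq_of_mul_eq_mul_left (pow_pos hpp.pos 2) h1
      have h2 := Subgroup.mem_center_iff.1 (hcen (Subgroup.mem_map_of_mem π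
        (show (⟨v, hVS hv⟩ : S) ∈ V.subgroupOf S from hv))) (π ⟨s, hs⟩)
      have h3 : π (⟨s, hs⟩ * ⟨v, hVS hv⟩ * (⟨s, hs⟩)⁻¹ * (⟨v, hVS hv⟩)⁻¹) = 1 := by
        simp only [map_mul, map_inv]
        rw [h2]
        group
      exact (QuotientGroup.eq_one_iff (N := (zS S p).subgroupOf S) _).1 h3
    set c := x * v₀ * x⁻¹ * v₀⁻¹ with hc
    have hcZ : c ∈ zS S p := hkey x hx v₀ hv₀
    -- all commutators lie in `⟨c⟩`
    have hmul : ∀ v ∈ V, ∀ s ∈ S, ∀ t ∈ S,
        s * t * v * (s * t)⁻¹ * v⁻¹ = (s * v * s⁻¹ * v⁻¹) * (t * v * t⁻¹ * v⁻¹) := by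
      intro v hv s hs t ht
      have hd := hkey t ht v hv
      have he : s * (t * v * t⁻¹ * v⁻¹) = (t * v * t⁻¹ * v⁻¹) * s := hd.2.2 s hs
      have hco := hd.2.2 (s * v * s⁻¹ * v⁻¹) (zS_le (hkey s hs v hv))
      rw [hco]
      calc s * t * v * (s * t)⁻¹ * v⁻¹ = s * (t * v * t⁻¹ * v⁻¹) * (v * s⁻¹ * v⁻¹) := by group
        _ = (t * v * t⁻¹ * v⁻¹) * s * (v * s⁻¹ * v⁻¹) := by rw [he]
        _ = _ := by group
    have hline : ∀ v ∈ V, ∀ s ∈ S, s * v * s⁻¹ * v⁻¹ ∈ Subgroup.zpowers c := by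
      have hgenV : ∀ v ∈ V, x * v * x⁻¹ * v⁻¹ ∈ Subgroup.zpowers c := by
        let K : Subgroup Ω :=
          { carrier := {v | v ∈ V ∧ x * v * x⁻¹ * v⁻¹ ∈ Subgroup.zpowers c}
            one_mem' := ⟨V.one_mem, by simp⟩
            mul_mem' := fun {a b} ha hb => ⟨V.mul_mem ha.1 hb.1, by
              have hd := hkey x hx b hb.1
              have e : x * (a * b) * x⁻¹ * (a * b)⁻¹ =
                  (x * a * x⁻¹ * a⁻¹) * (x * b * x⁻¹ * b⁻¹) := by
                have he : a * (x * b * x⁻¹ * b⁻¹) = (x * b * x⁻¹ * b⁻¹) * a :=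
                  hd.2.2 a (hVS ha.1)
                calc x * (a * b) * x⁻¹ * (a * b)⁻¹
                    = (x * a * x⁻¹ * a⁻¹) * (a * (x * b * x⁻¹ * b⁻¹)) * a⁻¹ := by group
                  _ = (x * a * x⁻¹ * a⁻¹) * ((x * b * x⁻¹ * b⁻¹) * a) * a⁻¹ := by rw [he]
                  _ = _ := by group
              rw [e]
              exact mul_mem ha.2 hb.2⟩
            inv_mem' := fun {a} ha => ⟨V.inv_mem ha.1, by
              have hd := hkey x hx a ha.1
              have he : a * (x * a * x⁻¹ * a⁻¹) = (x * a * x⁻¹ * a⁻¹) * a := hd.2.2 a (hVS ha.1)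
              have e : x * a⁻¹ * x⁻¹ * a⁻¹⁻¹ = (x * a * x⁻¹ * a⁻¹)⁻¹ := by
                calc x * a⁻¹ * x⁻¹ * a⁻¹⁻¹ = a⁻¹ * ((x * a * x⁻¹ * a⁻¹)⁻¹ * a) := by group
                  _ = a⁻¹ * (a * (x * a * x⁻¹ * a⁻¹)⁻¹) := by
                    rw [(show Commute a (x * a * x⁻¹ * a⁻¹) from he).inv_right.eq]
                  _ = _ := by group
              rw [e]
              exact inv_mem ha.2⟩ }
        have hle : zS S p ⊔ Subgroup.zpowers v₀ ≤ K := sup_le
          (fun z hzz => ⟨hsp.zS_lt.le hzz, by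
            rw [hzz.2.2 x hx, mul_inv_cancel_right, mul_inv_cancel]; exact one_mem _⟩)
          (Subgroup.zpowers_le.2 ⟨hv₀, Subgroup.mem_zpowers c⟩)
        have htop : zS S p ⊔ Subgroup.zpowers v₀ = V := by
          refine le_antisymm (sup_le hsp.zS_lt.le (Subgroup.zpowers_le.2 hv₀)) ?_
          set W := zS S p ⊔ Subgroup.zpowers v₀
          have hWV : W ≤ V := sup_le hsp.zS_lt.le (Subgroup.zpowers_le.2 hv₀)
          have h1 := Subgroup.relIndex_mul_relIndex (zS S p) W V le_sup_left hWV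
          have h0 : (zS S p).relIndex V = p := by
            have h1 := Subgroup.relIndex_mul_relIndex ⊥ (zS S p) V bot_le hsp.zS_lt.le
            rw [Subgroup.relIndex_bot_left, Subgroup.relIndex_bot_left, (hcard3 E₀ hE₀).1,
              (hcard3 E₀ hE₀).2, pow_succ p 2] at h1
            exact Nat.eq_of_mul_eq_mul_left (pow_pos hpp.pos 2) h1
          rw [h0] at h1
          rcases (Nat.dvd_prime hpp).1 ⟨_, h1.symm⟩ with h2 | h2
          · exact absurd (Subgroup.relIndex_eq_one.1 h2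
              ((le_sup_right : _ ≤ W) (Subgroup.mem_zpowers v₀))) hv₀Z
          · rw [h2] at h1
            exact Subgroup.relIndex_eq_one.1
              (Nat.eq_of_mul_eq_mul_left hpp.pos (h1.trans (mul_one p).symm))
        exact fun v hv => (hle (htop.symm ▸ hv)).2
      intro v hv
      let L : Subgroup Ω :=
        { carrier := {s | s ∈ S ∧ s * v * s⁻¹ * v⁻¹ ∈ Subgroup.zpowers c}
          one_mem' := ⟨S.one_mem, by simp⟩
          mul_mem' := fun {a b} ha hb => ⟨S.mul_mem ha.1 hb.1, by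
            rw [hmul v hv a ha.1 b hb.1]; exact mul_mem ha.2 hb.2⟩
          inv_mem' := fun {a} ha => ⟨S.inv_mem ha.1, by
            have e := hmul v hv a⁻¹ (S.inv_mem ha.1) a ha.1
            rw [inv_mul_cancel, one_mul, inv_one, mul_one, mul_inv_cancel] at e
            rw [eq_inv_of_mul_eq_one_left e.symm]
            exact inv_mem ha.2⟩ }
      have hEL : E₀ ⊔ Subgroup.zpowers x ≤ L := sup_le (fun e he => ⟨hE₀.1.1.1 he, by
          have h1 : e ∈ centralizerIn S V := hsp.cent.symm ▸ he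
          rw [← (mem_centralizerIn.1 h1).2 v hv, mul_inv_cancel_right, mul_inv_cancel]
          exact one_mem _⟩)
        (Subgroup.zpowers_le.2 ⟨hx, hgenV v hv⟩)
      have htop : S ≤ E₀ ⊔ Subgroup.zpowers x := by
        have hle : E₀ ⊔ Subgroup.zpowers x ≤ S := sup_le hE₀.1.1.1 (Subgroup.zpowers_le.2 hx)
        have h1 := Subgroup.relIndex_mul_relIndex E₀ _ S le_sup_left hle
        rw [relIndex_eq h hE₀.1] at h1
        rcases (Nat.dvd_prime hpp).1 ⟨_, h1.symm⟩ with h2 | h2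
        · exact absurd (Subgroup.relIndex_eq_one.1 h2
            ((le_sup_right : _ ≤ E₀ ⊔ Subgroup.zpowers x) (Subgroup.mem_zpowers x))) hxE
        · rw [h2] at h1
          exact Subgroup.relIndex_eq_one.1
            (Nat.eq_of_mul_eq_mul_left hpp.pos (h1.trans (mul_one p).symm))
      exact fun s hs => (hEL (htop hs)).2
    refine false_of_common_centre h hz hcZ (fun E hE v hv => hline v (hsame E hE ▸ hv)) ?_
    intro β hβ hcS
    have e : ((β ⟨c, hcS⟩ : S) : Ω) = (β ⟨x, hx⟩ : Ω) * (β ⟨v₀, hVS hv₀⟩ : Ω) *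
        (β ⟨x, hx⟩ : Ω)⁻¹ * (β ⟨v₀, hVS hv₀⟩ : Ω)⁻¹ := by
      rw [show (⟨c, hcS⟩ : S) = ⟨x, hx⟩ * ⟨v₀, hVS hv₀⟩ * (⟨x, hx⟩)⁻¹ * (⟨v₀, hVS hv₀⟩)⁻¹ from
        Subtype.ext rfl, map_mul, map_mul, map_mul, map_inv, map_inv]
      rfl
    rw [e]
    obtain ⟨hnc, hvs⟩ := noncentral_map h hE₀ hβ
    refine hline _ ?_ _ (β ⟨x, hx⟩).2
    rw [← hsame _ hnc, hvs]
    exact mem_img.2 ⟨⟨v₀, hVS hv₀⟩, hv₀, rfl⟩
  · push Not at hall
    obtain ⟨E, hE, G, hG, hEG⟩ := hall
    obtain ⟨-, c, hcZ, hcom⟩ := ((vsub_le_or h hE hG).resolve_left hEG).resolve_left hnot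
    refine false_of_common_centre h hz hcZ
      (fun E hE v hv s hs => hcom s hs v (vsub_le_top h hE hv)) ?_
    intro β hβ hcS
    have hsp := vsub_spec h hE
    obtain ⟨v, hv, hvZ⟩ := SetLike.exists_of_lt hsp.zS_lt
    obtain ⟨s, hs, hsv⟩ : ∃ s ∈ S, s * v ≠ v * s := by
      by_contra hh
      push Not at hh
      exact hvZ (hsp.fixed v hv hh)
    have hvS := vsub_le_top h hE hv
    obtain ⟨n, hn⟩ := Subgroup.mem_zpowers_iff.1 (hcom s hs v hvS)
    have hd : s * v * s⁻¹ * v⁻¹ ≠ 1 := fun e => hsv (by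
      rw [mul_inv_eq_one, mul_inv_eq_iff_eq_mul] at e; exact e)
    have hord : orderOf c = p := by
      refine orderOf_eq_prime hcZ.2.1 fun e => hd ?_
      rw [← hn, e, one_zpow]
    have hgen : c ∈ Subgroup.zpowers (s * v * s⁻¹ * v⁻¹) := by
      haveI : Finite (Subgroup.zpowers c) :=
        finite_of_le ‹_› (Subgroup.zpowers_le.2 (zS_le hcZ))
      have h1 : Subgroup.zpowers (s * v * s⁻¹ * v⁻¹) = Subgroup.zpowers c := by
        refine eq_of_le_of_card_le (Subgroup.zpowers_le.2 ⟨n, hn⟩) ?_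
        rw [Nat.card_zpowers, Nat.card_zpowers, hord,
          orderOf_eq_prime (by rw [← hn, ← zpow_natCast, ← zpow_mul, mul_comm, zpow_mul,
            zpow_natCast, hcZ.2.1, one_zpow]) hd]
      rw [h1]
      exact Subgroup.mem_zpowers c
    obtain ⟨m, hm⟩ := Subgroup.mem_zpowers_iff.1 hgen
    have e : (⟨c, hcS⟩ : S) = (⟨s, hs⟩ * ⟨v, hvS⟩ * (⟨s, hs⟩)⁻¹ * (⟨v, hvS⟩)⁻¹) ^ m :=
      Subtype.ext (by simp [hm])
    rw [e, map_zpow, map_mul, map_mul, map_mul, map_inv, map_inv, Subgroup.coe_zpow]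
    refine zpow_mem ?_ _
    exact hcom _ (β ⟨s, hs⟩).2 _ (β ⟨v, hvS⟩).2

/-- The case `|Ω₁Z(S)| = p`. -/
theorem sympSylow_of_zS_eq (h : Ctx p F) (hz : Nat.card (zS S p) = p) : SympSylow S p := by
  by_contra hnot
  have hpp : p.Prime := Fact.out
  have hle : ∀ E, Noncentral F p E → ∀ G, F.IsEssential p G → vsub F p E ≤ G := by
    intro E hE G hG
    exact (vsub_le_or h hE hG).resolve_right fun hh => hh.elim hnot fun hh => hh.1 hz
  obtain ⟨E₀, hE₀⟩ := exists_noncentral h
  have hcentral : ∀ E, Noncentral F p E → ∀ A : Subgroup Ω, A ≤ E →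
      ∀ a ∈ A, ∀ v ∈ vsub F p E, a * v = v * a := by
    intro E hE A hAE a ha v hv
    have : a ∈ centralizerIn S (vsub F p E) := (vsub_spec h hE).cent.symm ▸ hAE ha
    exact ((mem_centralizerIn.1 this).2 v hv).symm
  -- images are elementary and normal
  have himgE : ∀ (G : Subgroup Ω) (α : MulAut G) (X : Subgroup Ω), Elem p X →
      Elem p (img α X) := by
    intro G α X hX
    constructor
    · rintro _ ⟨x, hx, rfl⟩
      rw [← map_pow, show x ^ p = 1 from Subtype.ext (hX.1 x hx), map_one]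
    · rintro _ ⟨x, hx, rfl⟩ _ ⟨y, hy, rfl⟩
      rw [← map_mul, ← map_mul, show x * y = y * x from Subtype.ext (hX.2 x hx y hy)]
  by_cases hbig : ∃ E, Noncentral F p E ∧ Nat.card (vsub F p E) = p ^ 3
  · obtain ⟨E, hE, hV3⟩ := hbig
    have hsp := vsub_spec h hE
    set V := vsub F p E with hV
    have hVS : V ≤ S := vsub_le_top h hE
    haveI : Finite V := finite_of_le ‹_› hVS
    -- an elementary subgroup normalised by `V` lies in `V`
    have key : ∀ A : Subgroup Ω, A ≤ S → Elem p A →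
        (∀ v ∈ V, ∀ a ∈ A, v * a * v⁻¹ ∈ A) → A ≤ V := by
      intro A hAS hA hVA
      suffices hAE : A ≤ E from
        le_of_commute_max h hsp.elem hVS hV3 hA hAS (hcentral E hE A hAE)
      intro a ha
      by_contra haE
      -- the displacement by `a`
      have hfix : ∀ v : Ω, v ∈ V → a * v = v * a → v ∈ zS S p := by
        intro v hv hav
        refine hsp.fixed v hv fun s hs => ?_
        have hle : E ⊔ Subgroup.zpowers a ≤ S :=
          sup_le hE.1.1.1 (Subgroup.zpowers_le.2 (hAS ha))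
        have h1 := Subgroup.relIndex_mul_relIndex E _ S le_sup_left hle
        rw [relIndex_eq h hE.1] at h1
        have htop : S ≤ E ⊔ Subgroup.zpowers a := by
          rcases (Nat.dvd_prime hpp).1 ⟨_, h1.symm⟩ with h2 | h2
          · exact absurd (Subgroup.relIndex_eq_one.1 h2
              ((le_sup_right : _ ≤ E ⊔ Subgroup.zpowers a) (Subgroup.mem_zpowers a))) haE
          · rw [h2] at h1
            exact Subgroup.relIndex_eq_one.1
              (Nat.eq_of_mul_eq_mul_left hpp.pos (h1.trans (mul_one p).symm))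
        have hC : E ⊔ Subgroup.zpowers a ≤ Subgroup.centralizer ({v} : Set Ω) := by
          refine sup_le (fun e he => ?_) (Subgroup.zpowers_le.2 ?_)
          · rw [Subgroup.mem_centralizer_singleton_iff]
            exact hcentral E hE E le_rfl e he v hv
          · rw [Subgroup.mem_centralizer_singleton_iff]
            exact hav
        exact Subgroup.mem_centralizer_singleton_iff.1 (hC (htop hs))
      have hd : ∀ v ∈ V, v⁻¹ * (a * v * a⁻¹) ∈ V ∧ v⁻¹ * (a * v * a⁻¹) ∈ A := fun v hv =>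
        ⟨V.mul_mem (V.inv_mem hv) (hsp.normal a (hAS ha) v hv), by
          have h1 := A.mul_mem (hVA v⁻¹ (V.inv_mem hv) a ha) (A.inv_mem ha)
          simpa [mul_assoc] using h1⟩
      let δ : V →* V :=
        { toFun := fun v => ⟨_, (hd v v.2).1⟩
          map_one' := Subtype.ext (by simp)
          map_mul' := fun v w => Subtype.ext (by
            show ((v : Ω) * w)⁻¹ * (a * ((v : Ω) * w) * a⁻¹) =
              (v : Ω)⁻¹ * (a * v * a⁻¹) * ((w : Ω)⁻¹ * (a * w * a⁻¹))
            have hcw := hsp.elem.2 _ (hd v v.2).1 _ (V.inv_mem w.2)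
            calc ((v : Ω) * w)⁻¹ * (a * ((v : Ω) * w) * a⁻¹)
                = (w : Ω)⁻¹ * ((v : Ω)⁻¹ * (a * v * a⁻¹)) * (a * w * a⁻¹) := by group
              _ = (v : Ω)⁻¹ * (a * v * a⁻¹) * (w : Ω)⁻¹ * (a * w * a⁻¹) := by rw [hcw]
              _ = _ := by group) }
      have hker : δ.ker ≤ (zS S p).subgroupOf V := by
        intro v hv
        rw [MonoidHom.mem_ker] at hv
        have h1 : (v : Ω)⁻¹ * (a * v * a⁻¹) = 1 := congrArg Subtype.val hv
        rw [inv_mul_eq_one, eq_comm, mul_inv_eq_iff_eq_mul] at h1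
        exact hfix v v.2 h1
      have hran : δ.range ≤ (zS S p).subgroupOf V := by
        rintro _ ⟨v, rfl⟩
        exact hfix _ (δ v).2 (hA.2 a ha _ (hd v v.2).2)
      have hcard := δ.ker.card_mul_index
      rw [Subgroup.index_ker] at hcard
      have hb : Nat.card ((zS S p).subgroupOf V) = p := by
        rw [Nat.card_congr (Subgroup.subgroupOfEquivOfLe hsp.zS_lt.le).toEquiv, hz]
      have h3 : Nat.card V ≤ p * p := by
        rw [← hcard]
        exact Nat.mul_le_mul ((Subgroup.card_le_of_le hker).trans hb.le)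
          ((Subgroup.card_le_of_le hran).trans hb.le)
      rw [hV3, ← sq] at h3
      exact absurd ((Nat.pow_le_pow_iff_right hpp.one_lt).1 h3) (by norm_num)
    have hmem : ∀ (G : Subgroup Ω) (_ : G ≤ S) (_ : V ≤ G) (α : MulAut G), img α V ≤ V := by
      intro G hGS hVG α
      refine key _ ((img_le α V).trans hGS) (himgE G α V hsp.elem) ?_
      rintro v hv _ ⟨y, hy, rfl⟩
      obtain ⟨g, hg⟩ := α.surjective ⟨v, hVG hv⟩
      refine ⟨g * y * g⁻¹, hsp.normal g (hGS g.2) y hy, ?_⟩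
      rw [map_mul, map_mul, map_inv]
      simp [hg]
    refine false_of_inv h (Q := V) (fun e => ?_) hVS
      (fun α _ x hx => hmem S le_rfl hVS α (mem_img.2 ⟨x, hx, rfl⟩))
      fun G hG => ⟨hle E hE G hG, fun α _ x hx =>
        hmem G hG.1.1 (hle E hE G hG) α (mem_img.2 ⟨x, hx, rfl⟩)⟩
    rw [e, Subgroup.card_bot] at hV3
    exact absurd hV3.symm (Nat.one_lt_pow three_ne_zero hpp.one_lt).ne'
  push Not at hbig
  have hV2 : ∀ E, Noncentral F p E → Nat.card (vsub F p E) = p ^ 2 := fun E hE =>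
    (card_vsub_cases h hE).2.resolve_right (hbig E hE)
  have himg : ∀ E, Noncentral F p E → ∀ E', Noncentral F p E' → ∀ G, F.IsEssential p G →
      ∀ α ∈ F.autGroup G, img α (vsub F p E) ≤ E' := fun E hE E' hE' G hG α hα =>
    img_vsub_le h hz hnot hV2 hle hE hE' hG hα
  -- all `vsub` are equal
  have hsame : ∀ E, Noncentral F p E → vsub F p E = vsub F p E₀ := by
    intro E hE
    by_contra hne
    set U := vsub F p E ⊔ vsub F p E₀ with hU
    have hUe : Elem p U := elem_join (vsub_spec h hE).elem (vsub_spec h hE₀).elem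
      (hcentral E₀ hE₀ _ (hle E hE E₀ hE₀.1))
    have hUS : U ≤ S := sup_le (vsub_le_top h hE) (vsub_le_top h hE₀)
    haveI : Finite U := finite_of_le ‹_› hUS
    haveI : Finite (vsub F p E₀) := finite_of_le ‹_› (vsub_le_top h hE₀)
    have hU3 : Nat.card U = p ^ 3 := by
      refine le_antisymm (elem_card_le h hUe hUS) ?_
      obtain ⟨k, hk⟩ := (h.pgrp.to_le hUS).exists_card_eq
      have hlt : Nat.card (vsub F p E) < Nat.card U := by
        refine lt_of_le_of_ne (Subgroup.card_le_of_le le_sup_left) fun e => hne ?_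
        haveI : Finite (vsub F p E) := finite_of_le ‹_› (vsub_le_top h hE)
        have h1 : vsub F p E = U := eq_of_le_of_card_le le_sup_left e.ge
        exact (eq_of_le_of_card_le ((le_sup_right : _ ≤ U).trans h1.ge) (by
          haveI : Finite (vsub F p E) := finite_of_le ‹_› (vsub_le_top h hE)
          rw [hV2 E hE, hV2 E₀ hE₀])).symm
      rw [hV2 E hE, hk] at hlt
      rw [hk]
      exact Nat.pow_le_pow_right hpp.pos ((Nat.pow_lt_pow_iff_right hpp.one_lt).1 hlt)
    have habs : ∀ A : Subgroup Ω, A ≤ S → Elem p A → A ≤ E → A ≤ E₀ → A ≤ U := by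
      intro A hAS hA h1 h2
      refine le_of_commute_max h hUe hUS hU3 hA hAS fun a ha u hu => ?_
      have hC : U ≤ Subgroup.centralizer ({a} : Set Ω) := by
        refine sup_le (fun v hv => ?_) (fun v hv => ?_) <;>
          rw [Subgroup.mem_centralizer_singleton_iff]
        · exact (hcentral E hE A h1 a ha v hv).symm
        · exact (hcentral E₀ hE₀ A h2 a ha v hv).symm
      exact (Subgroup.mem_centralizer_singleton_iff.1 (hC hu)).symm
    have hinv : ∀ (G : Subgroup Ω) (α : MulAut G), U ≤ G →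
        img α (vsub F p E) ≤ U → img α (vsub F p E₀) ≤ U → ∀ x : G, (x : Ω) ∈ U →
        ((α x : G) : Ω) ∈ U := by
      intro G α hUG h1 h2 x hx
      have hsub : U ≤ ((U.subgroupOf G).comap α.toMonoidHom).map G.subtype := by
        refine sup_le (fun v hv => ?_) (fun v hv => ?_)
        · exact ⟨⟨v, hUG (le_sup_left (b := vsub F p E₀) hv)⟩,
            h1 (mem_img.2 ⟨⟨v, hUG (le_sup_left (b := vsub F p E₀) hv)⟩, hv, rfl⟩), rfl⟩
        · exact ⟨⟨v, hUG (le_sup_right (a := vsub F p E) hv)⟩,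
            h2 (mem_img.2 ⟨⟨v, hUG (le_sup_right (a := vsub F p E) hv)⟩, hv, rfl⟩), rfl⟩
      obtain ⟨y, hy, hyx⟩ := hsub hx
      rwa [← Subtype.ext (a1 := y) (a2 := x) hyx]
    refine false_of_inv h (Q := U) (fun e => ?_) hUS (fun β hβ => ?_)
      fun G hG => ⟨sup_le (hle E hE G hG) (hle E₀ hE₀ G hG), fun α hα => hinv G α
        (sup_le (hle E hE G hG) (hle E₀ hE₀ G hG)) ?_ ?_⟩
    · rw [e, Subgroup.card_bot] at hU3
      exact absurd hU3.symm (Nat.one_lt_pow three_ne_zero hpp.one_lt).ne'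
    · have hgo : ∀ E₁, Noncentral F p E₁ → img β (vsub F p E₁) ≤ U := by
        intro E₁ hE₁
        obtain ⟨hnc, hvs⟩ := noncentral_map h hE₁ hβ
        rw [← hvs]
        exact habs _ (vsub_le_top h hnc) (vsub_spec h hnc).elem (hle _ hnc E hE.1)
          (hle _ hnc E₀ hE₀.1)
      exact hinv S β hUS (hgo E hE) (hgo E₀ hE₀)
    · exact habs _ ((img_le α _).trans hG.1.1) (himgE G α _ (vsub_spec h hE).elem)
        (himg E hE E hE G hG α hα) (himg E hE E₀ hE₀ G hG α hα)
    · exact habs _ ((img_le α _).trans hG.1.1) (himgE G α _ (vsub_spec h hE₀).elem)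
        (himg E₀ hE₀ E hE G hG α hα) (himg E₀ hE₀ E₀ hE₀ G hG α hα)
  have huniq : ∀ E, Noncentral F p E → E = E₀ := fun E hE => by
    rw [← (vsub_spec h hE).cent, hsame E hE, (vsub_spec h hE₀).cent]
  refine false_of_single h hz hE₀ huniq (hV2 E₀ hE₀) (hle E₀ hE₀)
    (fun G hG α hα => himg E₀ hE₀ E₀ hE₀ G hG α hα) (fun β hβ => ?_) (fun β hβ => ?_)
  · obtain ⟨hnc, hvs⟩ := noncentral_map h hE₀ hβ
    rw [← hvs, hsame _ hnc]
  · exact huniq _ (noncentral_map h hE₀ hβ).1

/-- All essential subgroups normal in `S` forces the Sylow subgroup of `Sp(4,p)`. -/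
theorem sympSylow (h : Ctx p F) : SympSylow S p := by
  by_cases hz : Nat.card (zS S p) = p
  · exact sympSylow_of_zS_eq h hz
  · exact sympSylow_of_zS_ne h hz

end Cfsg.Agent.EssMax
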