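import Cfsg.Agent.EssMax.Base

/-!
Tools for the uniqueness step (S5181): commutator subgroups, counting inside `S`.
-/

set_option autoImplicit false

open Cfsg Cfsg.FusionSystem Cfsg.Agent.FusionSys Cfsg.Agent.FusRankThree
open scoped commutatorElement

set_option linter.style.haveILetI false
set_option linter.unusedVariables false

namespace Cfsg.Agent.EssMax

universe u

variable {Ω : Type u} [Group Ω] {S : Subgroup Ω} {p : ℕ}

/-- The elements of `P` whose commutators with `A` lie in `Q`. -/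
def cinto (P Q : Subgroup Ω) (A : Set Ω) (hc : ∀ v ∈ P, ∀ q ∈ Q, v * q * v⁻¹ ∈ Q) :
    Subgroup Ω where
  carrier := {v | v ∈ P ∧ ∀ a ∈ A, ⁅a, v⁆ ∈ Q}
  one_mem' := ⟨P.one_mem, fun a _ => by
    rw [commutatorElement_one_right]; exact Q.one_mem⟩
  mul_mem' {v w} hv hw := ⟨P.mul_mem hv.1 hw.1, fun a ha => by
    have e : ⁅a, v * w⁆ = ⁅a, v⁆ * (v * ⁅a, w⁆ * v⁻¹) := by
      simp only [commutatorElement_def]; group
    rw [e]
    exact Q.mul_mem (hv.2 a ha) (hc v hv.1 _ (hw.2 a ha))⟩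
  inv_mem' {v} hv := ⟨P.inv_mem hv.1, fun a ha => by
    have e : ⁅a, v⁻¹⁆ = v⁻¹ * ⁅a, v⁆⁻¹ * (v⁻¹)⁻¹ := by
      simp only [commutatorElement_def]; group
    rw [e]
    exact hc _ (P.inv_mem hv.1) _ (Q.inv_mem (hv.2 a ha))⟩

/-- Left multiplicativity of commutators. -/
theorem comm_mul_left (a b v : Ω) : ⁅a * b, v⁆ = a * ⁅b, v⁆ * a⁻¹ * ⁅a, v⁆ := by
  simp only [commutatorElement_def]; group

/-- An element of the centralizer of `W` fixes it. -/
theorem conj_eq_self {a w : Ω} (h : a * w = w * a) : a * w * a⁻¹ = w := by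
  rw [h, mul_inv_cancel_right]

/-- Adjoining a commuting element of order dividing `p` to an elementary subgroup. -/
theorem elem_sup {A : Subgroup Ω} {x : Ω} (hA : Elem p A) (hx : x ^ p = 1)
    (hc : ∀ a ∈ A, x * a = a * x) : Elem p (A ⊔ Subgroup.zpowers x) := by
  have h1 : A ⊔ Subgroup.zpowers x ≤ Subgroup.centralizer ((A : Set Ω) ∪ {x}) :=
    sup_le (fun a ha => Subgroup.mem_centralizer_iff.2 fun v hv => by
        rcases hv with hv | rfl
        · exact hA.2 v hv a ha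
        · exact hc a ha)
      (Subgroup.zpowers_le.2 (Subgroup.mem_centralizer_iff.2 fun v hv => by
        rcases hv with hv | rfl
        · exact (hc v hv).symm
        · rfl))
  have h2 : ∀ v ∈ A ⊔ Subgroup.zpowers x, ∀ w ∈ A ⊔ Subgroup.zpowers x, v * w = w * v := by
    intro v hv
    have h3 : A ⊔ Subgroup.zpowers x ≤ Subgroup.centralizer {v} :=
      sup_le (fun a ha => Subgroup.mem_centralizer_iff.2 fun u hu => by
          obtain rfl := hu
          exact (Subgroup.mem_centralizer_iff.1 (h1 hv) a (Or.inl ha)).symm)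
        (Subgroup.zpowers_le.2 (Subgroup.mem_centralizer_iff.2 fun u hu => by
          obtain rfl := hu
          exact (Subgroup.mem_centralizer_iff.1 (h1 hv) x (Or.inr rfl)).symm))
    exact fun w hw => Subgroup.mem_centralizer_iff.1 (h3 hw) v rfl
  refine ⟨fun v hv => ?_, h2⟩
  let B : Subgroup Ω :=
    { carrier := {u | u ∈ A ⊔ Subgroup.zpowers x ∧ u ^ p = 1}
      one_mem' := ⟨one_mem _, one_pow p⟩
      mul_mem' := fun {a b} ha hb => ⟨mul_mem ha.1 hb.1, by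
        rw [(show Commute a b from h2 a ha.1 b hb.1).mul_pow, ha.2, hb.2, one_mul]⟩
      inv_mem' := fun {a} ha => ⟨inv_mem ha.1, by rw [inv_pow, ha.2, inv_one]⟩ }
  exact ((sup_le (fun a ha => ⟨le_sup_left (b := Subgroup.zpowers x) ha, hA.1 a ha⟩)
    (Subgroup.zpowers_le.2 ⟨le_sup_right (a := A) (Subgroup.mem_zpowers x), hx⟩) :
      A ⊔ Subgroup.zpowers x ≤ B) hv).2

theorem card_rel {A B : Subgroup Ω} (hAB : A ≤ B) :
    Nat.card B = Nat.card A * A.relIndex B := by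
  rw [← Subgroup.relIndex_bot_left, ← Subgroup.relIndex_bot_left,
    Subgroup.relIndex_mul_relIndex ⊥ A B bot_le hAB]

variable [Fact p.Prime] [Finite S] {F : FusionSystem S}

theorem le_relIndex (hp : IsPGroup p S) {A B : Subgroup Ω} (hBS : B ≤ S) (hAB : A ≤ B)
    (hne : ¬ B ≤ A) : p ≤ A.relIndex B := by
  haveI : Finite B := finite_of_le ‹_› hBS
  obtain ⟨n, hn⟩ := (hp.to_le hBS).index (A.subgroupOf B)
  rcases n with _ | n
  · exact absurd (Subgroup.relIndex_eq_one.1 (by simpa [Subgroup.relIndex] using hn)) hne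
  · rw [Subgroup.relIndex, hn]
    exact Nat.le_self_pow n.succ_ne_zero p

theorem mul_card_le (hp : IsPGroup p S) {A B : Subgroup Ω} (hBS : B ≤ S) (hAB : A ≤ B)
    (hne : ¬ B ≤ A) : p * Nat.card A ≤ Nat.card B := by
  rw [card_rel hAB, mul_comm p]
  exact Nat.mul_le_mul_left _ (le_relIndex hp hBS hAB hne)

theorem eq_of_card {A B : Subgroup Ω} (hBS : B ≤ S) (hAB : A ≤ B)
    (hc : Nat.card B ≤ Nat.card A) : A = B :=
  haveI : Finite B := finite_of_le ‹_› hBS
  Subgroup.eq_of_le_of_card_ge hAB hc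

/-- A section of prime order normalised by `S` is centralised by `S`. -/
theorem comm_mem_of_prime (hp : IsPGroup p S) {R A : Subgroup Ω} (hAS : A ≤ S) (hRA : R ≤ A)
    (hR : ∀ s ∈ S, ∀ r ∈ R, s * r * s⁻¹ ∈ R) (hA : ∀ s ∈ S, ∀ a ∈ A, s * a * s⁻¹ ∈ A)
    (hidx : R.relIndex A = p) {s a : Ω} (hs : s ∈ S) (ha : a ∈ A) : ⁅s, a⁆ ∈ R := by
  set N := R.subgroupOf S
  haveI : N.Normal := ⟨fun n hn g => hR g g.2 n hn⟩
  set M := (A.subgroupOf S).map (QuotientGroup.mk' N)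
  haveI : (A.subgroupOf S).Normal := ⟨fun n hn g => hA g g.2 n hn⟩
  haveI : M.Normal := Subgroup.Normal.map inferInstance _ (QuotientGroup.mk'_surjective N)
  have hM : Nat.card M = p := by
    rw [← Subgroup.relIndex_ker, QuotientGroup.ker_mk', Subgroup.relIndex_subgroupOf hAS, hidx]
  have hq : IsPGroup p (S ⧸ N) := hp.to_quotient N
  have hm : ((⟨a, hAS ha⟩ : S) : S ⧸ N) ∈ Subgroup.center (S ⧸ N) :=
    PGroup.le_center_of_card_eq hq hM ⟨⟨a, hAS ha⟩, ha, rfl⟩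
  have h1 := Subgroup.mem_center_iff.1 hm ((⟨s, hs⟩ : S) : S ⧸ N)
  have h2 : ((⁅(⟨s, hs⟩ : S), ⟨a, hAS ha⟩⁆ : S) : S ⧸ N) = 1 := by
    rw [← QuotientGroup.mk'_apply, map_commutatorElement]
    exact commutatorElement_eq_one_iff_mul_comm.2 h1
  have h3 : ⁅(⟨s, hs⟩ : S), ⟨a, hAS ha⟩⁆ ∈ N := (QuotientGroup.eq_one_iff _).1 h2
  exact h3

/-- Cosets of a subgroup of prime index are powers of any outside element. -/
theorem exists_pow_coset {R A : Subgroup Ω} (hAS : A ≤ S)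
    (hR : ∀ a ∈ A, ∀ r ∈ R, a * r * a⁻¹ ∈ R) (hidx : R.relIndex A = p) {x a : Ω}
    (hx : x ∈ A) (hxR : x ∉ R) (ha : a ∈ A) : ∃ i : ℕ, a * (x ^ i)⁻¹ ∈ R := by
  haveI : Finite A := finite_of_le ‹_› hAS
  set N := R.subgroupOf A
  haveI : N.Normal := ⟨fun n hn g => hR g g.2 n hn⟩
  have hc : Nat.card (A ⧸ N) = p := by rw [← Subgroup.index_eq_card]; exact hidx
  have h1 : ((⟨x, hx⟩ : A) : A ⧸ N) ≠ 1 := fun e =>
    hxR (show (⟨x, hx⟩ : A) ∈ N from (QuotientGroup.eq_one_iff _).1 e)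
  have h2 : ((⟨a, ha⟩ : A) : A ⧸ N) ∈ Submonoid.powers ((⟨x, hx⟩ : A) : A ⧸ N) := by
    rw [mem_powers_iff_mem_zpowers, zpowers_eq_top_of_prime_card hc h1]
    exact Subgroup.mem_top _
  obtain ⟨i, hi⟩ := h2
  refine ⟨i, ?_⟩
  have h3 : ((⟨a, ha⟩ * (⟨x, hx⟩ ^ i)⁻¹ : A) : A ⧸ N) = 1 := by
    rw [QuotientGroup.mk_mul, QuotientGroup.mk_inv, QuotientGroup.mk_pow]
    exact mul_inv_eq_one.2 hi.symm
  simpa [N, Subgroup.mem_subgroupOf] using (QuotientGroup.eq_one_iff _).1 h3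

/-- Commutators of `S` lie in every essential subgroup. -/
theorem comm_mem (h : Ctx p F) {E : Subgroup Ω} (hE : F.IsEssential p E) {a b : Ω}
    (ha : a ∈ S) (hb : b ∈ S) : ⁅a, b⁆ ∈ E :=
  comm_mem_of_prime h.pgrp le_rfl hE.1.1
    (fun s hs r hr => (Subgroup.mem_normalizer_iff.1 (h.normal E hE hs) r).1 hr)
    (fun s hs r hr => S.mul_mem (S.mul_mem hs hr) (S.inv_mem hs)) (relIndex_eq h hE) ha hb

/-- An essential subgroup is maximal. -/
theorem max_index (h : Ctx p F) {E C : Subgroup Ω} (hE : F.IsEssential p E) (hEC : E ≤ C)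
    (hCS : C ≤ S) (hne : ¬ C ≤ E) : S ≤ C := by
  have h1 := Subgroup.relIndex_mul_relIndex E C S hEC hCS
  rw [relIndex_eq h hE] at h1
  rcases (Nat.dvd_prime (Fact.out : p.Prime)).1 ⟨_, h1.symm⟩ with h2 | h2
  · exact absurd (Subgroup.relIndex_eq_one.1 h2) hne
  · rw [h2] at h1
    refine Subgroup.relIndex_eq_one.1 (Nat.eq_of_mul_eq_mul_left (Fact.out : p.Prime).pos
      (h1.trans (mul_one p).symm))

/-- Two essential subgroups, one inside the other, are equal. -/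
theorem eq_of_le_essential (h : Ctx p F) {E G : Subgroup Ω} (hE : F.IsEssential p E)
    (hG : F.IsEssential p G) (hle : E ≤ G) : E = G := by
  refine le_antisymm hle (by_contra fun hne => ?_)
  have h1 := Subgroup.relIndex_eq_one.2 (max_index h hE hle hG.1.1 hne)
  rw [relIndex_eq h hG] at h1
  exact (Fact.out : p.Prime).ne_one h1

/-- No exponent `p` class two subgroup of order at least `p ^ 5` over a central `W` of order
`p ^ 2`. -/
theorem pair_false (h : Ctx p F) {W P : Subgroup Ω} (hWP : W ≤ P) (hPS : P ≤ S) (hWE : Elem p W)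
    (hW : Nat.card W = p ^ 2) (hWc : ∀ w ∈ W, ∀ x ∈ P, x * w = w * x)
    (hexp : ∀ x ∈ P, x ^ p = 1) (hcomm : ∀ a ∈ P, ∀ b ∈ P, ⁅a, b⁆ ∈ W)
    (hbig : p ^ 5 ≤ Nat.card P) : False := by
  have hpp : p.Prime := Fact.out
  -- commutators are bilinear
  have cr : ∀ a v w : Ω, a ∈ P → v ∈ P → w ∈ P → ⁅a, v * w⁆ = ⁅a, v⁆ * ⁅a, w⁆ := by
    intro a v w ha hv hw
    have e : ⁅a, v * w⁆ = ⁅a, v⁆ * (v * ⁅a, w⁆ * v⁻¹) := by
      simp only [commutatorElement_def]; group
    rw [e, conj_eq_self (hWc _ (hcomm a ha w hw) v hv)]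
  have cl : ∀ a v w : Ω, a ∈ P → v ∈ P → w ∈ P → ⁅a * v, w⁆ = ⁅a, w⁆ * ⁅v, w⁆ := by
    intro a v w ha hv hw
    rw [← commutatorElement_inv w (a * v), cr w a v hw ha hv, mul_inv_rev, commutatorElement_inv,
      commutatorElement_inv]
    exact hWE.2 _ (hcomm v hv w hw) _ (hcomm a ha w hw)
  have cz : ∀ a v : Ω, a ∈ P → v ∈ P → ∀ n : ℤ, ⁅a, v ^ n⁆ = ⁅a, v⁆ ^ n := by
    intro a v ha hv n
    let φ : P →* Ω := MonoidHom.mk' (fun x => ⁅a, (x : Ω)⁆) fun x y => cr a x y ha x.2 y.2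
    show φ ((⟨v, hv⟩ : P) ^ n) = (φ ⟨v, hv⟩) ^ n
    exact map_zpow φ _ n
  -- no commuting pair independent modulo `W`
  have pair : ∀ x ∈ P, ∀ y ∈ P, x ∉ W → y ∉ W ⊔ Subgroup.zpowers x → x * y = y * x → False := by
    intro x hx y hy hxW hyX hxy
    have h1 : Elem p (W ⊔ Subgroup.zpowers x) :=
      elem_sup hWE (hexp x hx) fun w hw => hWc w hw x hx
    have hXP : W ⊔ Subgroup.zpowers x ≤ P := sup_le hWP (Subgroup.zpowers_le.2 hx)
    have h2 : Elem p (W ⊔ Subgroup.zpowers x ⊔ Subgroup.zpowers y) := by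
      refine elem_sup h1 (hexp y hy) fun a ha => ?_
      have h3 : W ⊔ Subgroup.zpowers x ≤ Subgroup.centralizer {y} :=
        sup_le (fun w hw => Subgroup.mem_centralizer_iff.2 fun u hu => by
            obtain rfl := hu; exact hWc w hw _ hy)
          (Subgroup.zpowers_le.2 (Subgroup.mem_centralizer_iff.2 fun u hu => by
            obtain rfl := hu; exact hxy.symm))
      exact Subgroup.mem_centralizer_iff.1 (h3 ha) y rfl
    have hYS := (sup_le hXP (Subgroup.zpowers_le.2 hy)).trans hPS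
    have h4 := mul_card_le h.pgrp (hXP.trans hPS) (le_sup_left : W ≤ W ⊔ Subgroup.zpowers x)
      fun hh => hxW (hh ((le_sup_right : _ ≤ W ⊔ Subgroup.zpowers x) (Subgroup.mem_zpowers x)))
    have h5 := mul_card_le h.pgrp hYS le_sup_left
      fun hh => hyX (hh ((le_sup_right : _ ≤ W ⊔ Subgroup.zpowers x ⊔ Subgroup.zpowers y)
        (Subgroup.mem_zpowers y)))
    have h6 := elem_card_le h h2 hYS
    rw [hW] at h4
    have h7 : p * (p * p ^ 2) ≤ p * Nat.card ↥(W ⊔ Subgroup.zpowers x) :=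
      Nat.mul_le_mul_left p h4
    have h8 : p ^ 3 < p ^ 4 := Nat.pow_lt_pow_right hpp.one_lt (by norm_num)
    have h9 : p * (p * p ^ 2) = p ^ 4 := by ring
    omega
  have adj : ∀ (M : Subgroup Ω), W ≤ M → M ≤ P → ∀ x ∈ P,
      Nat.card ↥(M ⊔ Subgroup.zpowers x) ≤ Nat.card M * p := by
    intro M hWM hMP x hx
    have hMxP : M ⊔ Subgroup.zpowers x ≤ P := sup_le hMP (Subgroup.zpowers_le.2 hx)
    haveI : Finite ↥(M ⊔ Subgroup.zpowers x) := finite_of_le ‹_› (hMxP.trans hPS)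
    set J := M ⊔ Subgroup.zpowers x
    haveI : (M.subgroupOf J).Normal := ⟨fun n hn g => by
      have := M.mul_mem (hWM (hcomm g (hMxP g.2) n (hMP hn))) hn
      simpa [Subgroup.mem_subgroupOf, commutatorElement_def] using this⟩
    rw [card_rel (le_sup_left : M ≤ J)]
    refine Nat.mul_le_mul_left _ ?_
    have hxJ : x ∈ J := le_sup_right (a := M) (Subgroup.mem_zpowers x)
    set q : J ⧸ M.subgroupOf J := ((⟨x, hxJ⟩ : J) : J ⧸ M.subgroupOf J)
    have htop : Subgroup.zpowers q = ⊤ := by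
      refine eq_top_iff.2 fun z _ => ?_
      obtain ⟨⟨g, hg⟩, rfl⟩ := QuotientGroup.mk'_surjective _ z
      have hle : J ≤ ((Subgroup.zpowers q).comap (QuotientGroup.mk' (M.subgroupOf J))).map
          J.subtype := by
        refine sup_le (fun m hm => ?_) (Subgroup.zpowers_le.2 ⟨⟨x, hxJ⟩, ?_, rfl⟩)
        · refine ⟨⟨m, le_sup_left (b := Subgroup.zpowers x) hm⟩, ?_, rfl⟩
          show QuotientGroup.mk' (M.subgroupOf J) _ ∈ Subgroup.zpowers q
          rw [QuotientGroup.mk'_apply, (QuotientGroup.eq_one_iff _).2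
            (show (⟨m, le_sup_left (b := Subgroup.zpowers x) hm⟩ : J) ∈ M.subgroupOf J from hm)]
          exact one_mem _
        · exact Subgroup.mem_zpowers q
      obtain ⟨g', hg', e⟩ := hle hg
      rw [show (⟨g, hg⟩ : J) = g' from Subtype.ext e.symm]
      exact hg'
    have hq : q ^ p = 1 := by
      rw [← QuotientGroup.mk_pow, QuotientGroup.eq_one_iff, Subgroup.mem_subgroupOf,
        Subgroup.coe_pow]
      show x ^ p ∈ M
      rw [hexp x hx]
      exact M.one_mem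
    show (M.subgroupOf J).index ≤ p
    rw [Subgroup.index_eq_card, ← Subgroup.card_top, ← htop, Nat.card_zpowers]
    exact Nat.le_of_dvd hpp.pos (orderOf_dvd_of_pow_eq_one hq)
  -- three generators modulo `W`
  have small : ∀ M : Subgroup Ω, M ≤ S → Nat.card M ≤ p ^ 4 → ∃ x ∈ P, x ∉ M := by
    intro M hMS hM
    by_contra hcon
    push Not at hcon
    haveI : Finite M := finite_of_le ‹_› hMS
    have h1 : Nat.card P ≤ Nat.card M := Subgroup.card_le_of_le hcon
    have h2 : p ^ 4 < p ^ 5 := Nat.pow_lt_pow_right hpp.one_lt (by norm_num)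
    omega
  obtain ⟨a, ha, haW⟩ := small W (hWP.trans hPS) (hW.le.trans (Nat.pow_le_pow_right hpp.pos (by norm_num)))
  have hBP : W ⊔ Subgroup.zpowers a ≤ P := sup_le hWP (Subgroup.zpowers_le.2 ha)
  have hB := adj W le_rfl hWP a ha
  rw [hW, ← pow_succ] at hB
  obtain ⟨b, hb, hbB⟩ := small (W ⊔ Subgroup.zpowers a) (hBP.trans hPS)
    (hB.trans (Nat.pow_le_pow_right hpp.pos (by norm_num)))
  have hB2 := (adj _ le_sup_left hBP b hb).trans (Nat.mul_le_mul_right p hB)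
  rw [← pow_succ] at hB2
  obtain ⟨d, hd, hdB⟩ := small (W ⊔ Subgroup.zpowers a ⊔ Subgroup.zpowers b)
    ((sup_le hBP (Subgroup.zpowers_le.2 hb)).trans hPS) hB2
  have haB : a ∈ W ⊔ Subgroup.zpowers a :=
    le_sup_right (a := W) (Subgroup.mem_zpowers a)
  set B2 := W ⊔ Subgroup.zpowers a ⊔ Subgroup.zpowers b
  have haB2 : a ∈ B2 := le_sup_left (b := Subgroup.zpowers b) haB
  have hbB2 : b ∈ B2 := le_sup_right (a := W ⊔ Subgroup.zpowers a) (Subgroup.mem_zpowers b)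
  set x := ⁅a, b⁆ with hxdef
  set y := ⁅a, d⁆ with hydef
  have hxW := hcomm a ha b hb
  have hyW := hcomm a ha d hd
  have hx1 : x ≠ 1 := fun e =>
    pair a ha b hb haW hbB (commutatorElement_eq_one_iff_mul_comm.1 e)
  have hyx : y ∉ Subgroup.zpowers x := by
    rintro ⟨i, hi⟩
    refine pair a ha (d * b ^ (-i)) (P.mul_mem hd (P.zpow_mem hb _)) haW (fun hh => ?_)
      (commutatorElement_eq_one_iff_mul_comm.1 ?_)
    · refine hdB ?_
      rw [show d = d * b ^ (-i) * b ^ i by group]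
      exact mul_mem (le_sup_left (b := Subgroup.zpowers b) hh) (zpow_mem hbB2 i)
    · rw [cr a d _ ha hd (P.zpow_mem hb _), cz a b ha hb, ← hxdef, ← hydef, zpow_neg]
      exact mul_inv_eq_one.2 hi.symm
  let Q : Subgroup Ω :=
    { carrier := {v | v ∈ W ∧ ∃ i j : ℤ, x ^ i * y ^ j = v}
      one_mem' := ⟨one_mem _, 0, 0, by simp⟩
      mul_mem' := by
        rintro _ _ ⟨h1, i, j, rfl⟩ ⟨h2, k, l, rfl⟩
        refine ⟨mul_mem h1 h2, i + k, j + l, ?_⟩
        rw [zpow_add, zpow_add]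
        have hc : Commute (x ^ k) (y ^ j) := hWE.2 _ (W.zpow_mem hxW k) _ (W.zpow_mem hyW j)
        rw [mul_assoc, ← mul_assoc (x ^ k), hc.eq]; group
      inv_mem' := by
        rintro _ ⟨h1, i, j, rfl⟩
        refine ⟨inv_mem h1, -i, -j, ?_⟩
        rw [zpow_neg, zpow_neg, ← mul_inv_rev]
        exact congrArg (·⁻¹) (hWE.2 _ (W.zpow_mem hyW j) _ (W.zpow_mem hxW i)) }
  have hQW : Q = W := by
    have hxQ : Subgroup.zpowers x ≤ Q := Subgroup.zpowers_le.2 ⟨hxW, 1, 0, by simp⟩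
    have hQle : Q ≤ W := fun v hv => hv.1
    refine eq_of_card (hWP.trans hPS) hQle ?_
    have h1 := mul_card_le h.pgrp ((hQle.trans hWP).trans hPS) hxQ
      fun hh => hyx (hh ⟨hyW, 0, 1, by simp⟩)
    rw [Nat.card_zpowers, orderOf_eq_prime (hWE.1 x hxW) hx1] at h1
    rw [hW, sq]
    exact h1
  obtain ⟨-, i, j, hij⟩ : ⁅b, d⁆ ∈ Q := hQW.symm ▸ hcomm b hb d hd
  set b' := b * a ^ (-j)
  set d' := d * a ^ i
  have hb' : b' ∈ P := P.mul_mem hb (P.zpow_mem ha _)
  have hd' : d' ∈ P := P.mul_mem hd (P.zpow_mem ha _)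
  refine pair b' hb' d' hd' (fun hh => ?_) (fun hh => ?_)
    (commutatorElement_eq_one_iff_mul_comm.1 ?_)
  · refine hbB ?_
    rw [show b = b' * a ^ j by simp only [b']; group]
    exact mul_mem (le_sup_left (b := Subgroup.zpowers a) hh) (zpow_mem haB j)
  · refine hdB ?_
    rw [show d = d' * a ^ (-i) by simp only [d']; group]
    have : W ⊔ Subgroup.zpowers b' ≤ B2 := sup_le (le_sup_left.trans le_sup_left)
      (Subgroup.zpowers_le.2 (mul_mem hbB2 (zpow_mem haB2 _)))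
    exact mul_mem (this hh) (zpow_mem haB2 _)
  · have e1 : ⁅b, a ^ i⁆ = (x ^ i)⁻¹ := by
      rw [cz b a hb ha, hxdef, ← commutatorElement_inv a b, inv_zpow]
    have e2 : ⁅a ^ (-j), d⁆ = (y ^ j)⁻¹ := by
      rw [← commutatorElement_inv d, cz d a hd ha, hydef, ← commutatorElement_inv a d, inv_zpow,
        zpow_neg, inv_inv]
    have e3 : ⁅a ^ (-j), a ^ i⁆ = 1 :=
      commutatorElement_eq_one_iff_mul_comm.2 ((Commute.refl a).zpow_zpow _ _).eq
    rw [cl b _ d' hb (P.zpow_mem ha _) hd', cr b d _ hb hd (P.zpow_mem ha _),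
      cr (a ^ (-j)) d _ (P.zpow_mem ha _) hd (P.zpow_mem ha _), e1, e2, e3, ← hij, mul_one]
    have hc : Commute (x ^ i) (y ^ j) := hWE.2 _ (W.zpow_mem hxW i) _ (W.zpow_mem hyW j)
    rw [hc.eq]; group

end Cfsg.Agent.EssMax
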